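import Groth.Agent.FCompl.K29.RPull
import Groth.Agent.Gaga.H976.TM0
import Mathlib.Algebra.Homology.ShortComplex.ExactFunctor
import Mathlib.CategoryTheory.Abelian.Exact

/-!
# Exactness of sheaves of modules on a ringed space, on stalks and on sections

`T : TopCat.{u}`, `R` a sheaf of commutative rings on `T`, `Mod R = ModSite.Mod R`.
* `mono_iff_app`, `mono_iff_stMap`, `epi_iff_local`, `epi_iff_stMap`, `exact_iff_stMap`,
  `shortExact_iff_stMap`;
* `exists_app_of_exact`: left exactness of sections;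
* `preservesFiniteLimits_of_flat`: a left adjoint of the direct image along a morphism of ringed
  spaces with flat stalk maps is left exact; `isFlat_of_flat` for `ModSite.RMor`.
-/

set_option autoImplicit false
set_option linter.style.haveILetI false
universe u

open CategoryTheory TopologicalSpace Opposite CategoryTheory.Limits

noncomputable section

namespace K29.RExact

open K29.RSec K29.RStalk K29.RPull

variable {T : TopCat.{u}} {R : Sheaf (Opens.grothendieckTopology T) CommRingCat.{u}}

theorem mono_iff_app {M N : Mod R} (φ : M ⟶ N) : Mono φ ↔ ∀ V, Function.Injective (app φ V) :=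
  (Groth.Agent.Gaga.H976.TM0.mono_iff φ).trans ⟨fun h V => h (op V), fun h V => h V.unop⟩

theorem mono_iff_stMap {M N : Mod R} (φ : M ⟶ N) :
    Mono φ ↔ ∀ x, Function.Injective (stMap φ x) :=
  (mono_iff_app φ).trans (app_injective_iff φ)

/-- Epimorphisms are the locally surjective morphisms. -/
theorem epi_iff_local {M N : Mod R} (φ : M ⟶ N) :
    Epi φ ↔ ∀ (V : Opens T) (t : Sec N V) (x : T), x ∈ V →
      ∃ (W : Opens T) (_ : x ∈ W) (hW : W ≤ V) (s : Sec M W), app φ W s = res N hW t := by
  rw [Groth.Agent.Gaga.H976.TM0.epi_iff]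
  constructor
  · intro h V t x hx
    obtain ⟨S, hS, hS'⟩ := h V t
    obtain ⟨W, g, hg, hxW⟩ := hS x hx
    obtain ⟨s, hs⟩ := hS' g hg
    exact ⟨W, hxW, leOfHom g, s, hs⟩
  · intro h V t
    choose W hxW hW s hs using h V t
    refine ⟨Sieve.generate (Presieve.ofArrows (fun x : V => W x.1 x.2) (fun x => homOfLE (hW x.1 x.2))),
      ?_, ?_⟩
    · intro x hx
      exact ⟨W x hx, homOfLE (hW x hx), Sieve.le_generate _ _ _ (Presieve.ofArrows.mk (⟨x, hx⟩ : V)),
        hxW x hx⟩
    · rintro Y g ⟨V0, a, b, ⟨x⟩, hab⟩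
      have hle : _ ≤ W x.1 x.2 := leOfHom a
      refine ⟨res M hle (s x.1 x.2), ?_⟩
      have h1 : app φ _ (res M hle (s x.1 x.2)) = res N (hle.trans (hW x.1 x.2)) t := by
        rw [app_res, hs, res_res]
      exact h1

theorem epi_iff_stMap {M N : Mod R} (φ : M ⟶ N) :
    Epi φ ↔ ∀ x, Function.Surjective (stMap φ x) := by
  rw [epi_iff_local]
  constructor
  · intro h x t
    obtain ⟨V, hV, t, rfl⟩ := exists_gm N x t
    obtain ⟨W, hxW, hW, s, hs⟩ := h V t x hV
    exact ⟨gm M x W hxW s, by rw [stMap_gm, hs, gm_res]⟩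
  · intro h V t x hx
    obtain ⟨s, hs⟩ := h x (gm N x V hx t)
    obtain ⟨U, hU, m, rfl⟩ := exists_gm M x s
    rw [stMap_gm, ← gm_res N x (inf_le_left : U ⊓ V ≤ U) ⟨hU, hx⟩,
      ← gm_res N x (inf_le_right : U ⊓ V ≤ V) ⟨hU, hx⟩] at hs
    obtain ⟨W, hxW, hW, e⟩ := exists_res_eq N _ hs
    rw [res_res, res_res] at e
    exact ⟨W, hxW, hW.trans inf_le_right, res M (hW.trans inf_le_left) m, by rw [app_res, e]⟩

/-- Sections killed by `φ` come from the kernel. -/
theorem exists_kernel {M N : Mod R} (φ : M ⟶ N) (V : Opens T) (t : Sec M V) (ht : app φ V t = 0) :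
    ∃ k : Sec (kernel φ) V, app (kernel.ι φ) V k = t :=
  Groth.Agent.Gaga.H976.TM0.exists_kernel φ (op V) t ht

/-- The kernel on stalks. -/
theorem exists_kernel_st {M N : Mod R} (φ : M ⟶ N) (x : T) (t : St M x) (ht : stMap φ x t = 0) :
    ∃ k : St (kernel φ) x, stMap (kernel.ι φ) x k = t := by
  obtain ⟨V, hV, s, rfl⟩ := exists_gm M x t
  rw [stMap_gm] at ht
  obtain ⟨W, hxW, hW, e⟩ := exists_res_eq_zero N hV ht
  rw [← app_res] at e
  obtain ⟨k, hk⟩ := exists_kernel φ W _ e
  exact ⟨gm (kernel φ) x W hxW k, by rw [stMap_gm, hk, gm_res]⟩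

/-- Exactness is tested on the stalks. -/
theorem exact_iff_stMap (S : ShortComplex (Mod R)) :
    S.Exact ↔ ∀ x, ∀ t : St S.X₂ x, stMap S.g x t = 0 → ∃ s : St S.X₁ x, stMap S.f x s = t := by
  rw [S.exact_iff_epi_kernel_lift, epi_iff_stMap]
  have hcomp : ∀ (x : T) (s : St S.X₁ x),
      stMap (kernel.ι S.g) x (stMap (kernel.lift S.g S.f S.zero) x s) = stMap S.f x s := by
    intro x s
    rw [← stMap_comp_apply, kernel.lift_ι]
  have hinj : ∀ x, Function.Injective (stMap (kernel.ι S.g) x) :=
    (mono_iff_stMap (kernel.ι S.g)).1 inferInstance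
  refine forall_congr' fun x => ⟨fun h t ht => ?_, fun h k => ?_⟩
  · obtain ⟨k, hk⟩ := exists_kernel_st S.g x t ht
    obtain ⟨s, hs⟩ := h k
    exact ⟨s, by rw [← hcomp, hs, hk]⟩
  · obtain ⟨s, hs⟩ := h (stMap (kernel.ι S.g) x k) (by
      rw [← stMap_comp_apply, kernel.condition, stMap_zero]; rfl)
    exact ⟨s, hinj x (by rw [hcomp, hs])⟩

/-- Short exactness is tested on the stalks. -/
theorem shortExact_iff_stMap (S : ShortComplex (Mod R)) :
    S.ShortExact ↔ ∀ x, Function.Injective (stMap S.f x) ∧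
      (∀ t : St S.X₂ x, stMap S.g x t = 0 → ∃ s : St S.X₁ x, stMap S.f x s = t) ∧
      Function.Surjective (stMap S.g x) := by
  constructor
  · intro h x
    have := h.mono_f
    have := h.epi_g
    exact ⟨(mono_iff_stMap S.f).1 inferInstance x, (exact_iff_stMap S).1 h.exact x,
      (epi_iff_stMap S.g).1 inferInstance x⟩
  · intro h
    exact
      { exact := (exact_iff_stMap S).2 fun x => (h x).2.1
        mono_f := (mono_iff_stMap S.f).2 fun x => (h x).1
        epi_g := (epi_iff_stMap S.g).2 fun x => (h x).2.2 }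

/-- Left exactness of sections. -/
theorem exists_app_of_exact (S : ShortComplex (Mod R)) (hS : S.Exact) [Mono S.f] (V : Opens T)
    (t : Sec S.X₂ V) (ht : app S.g V t = 0) : ∃ s : Sec S.X₁ V, app S.f V s = t := by
  obtain ⟨k, hk⟩ := exists_kernel S.g V t ht
  have : Epi (kernel.lift S.g S.f S.zero) := (S.exact_iff_epi_kernel_lift).1 hS
  have h2 : Mono (kernel.lift S.g S.f S.zero) :=
    mono_of_mono_fac (kernel.lift_ι S.g S.f S.zero)
  have : IsIso (kernel.lift S.g S.f S.zero) := isIso_of_mono_of_epi _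
  refine ⟨app (inv (kernel.lift S.g S.f S.zero)) V k, ?_⟩
  have h3 : inv (kernel.lift S.g S.f S.zero) ≫ S.f = kernel.ι S.g := by
    rw [IsIso.inv_comp_eq, kernel.lift_ι]
  rw [← app_comp, h3, hk]

/-- A morphism is zero iff it is zero on stalks. -/
theorem eq_zero_iff_stMap {M N : Mod R} (φ : M ⟶ N) : φ = 0 ↔ ∀ x t, stMap φ x t = 0 := by
  constructor
  · rintro rfl x t
    rw [stMap_zero]; rfl
  · intro h
    exact hom_ext_stalk fun x => by
      rw [stMap_zero]
      exact LinearMap.ext fun t => h x t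

section Flat

variable {T1 : TopCat.{u}} {f : T1 ⟶ T} {R1 : Sheaf (Opens.grothendieckTopology T1) CommRingCat.{u}}
  [(Opens.map f).IsContinuous (Opens.grothendieckTopology T) (Opens.grothendieckTopology T1)]
  {φ : ringSheaf R ⟶ ((Opens.map f).sheafPushforwardContinuous RingCat.{u}
    (Opens.grothendieckTopology T) (Opens.grothendieckTopology T1)).obj (ringSheaf R1)}
  {L : Mod R ⥤ Mod R1} (adj : L ⊣ push φ)

include adj in
/-- The inverse image along a morphism of ringed spaces with flat stalk maps is left exact. -/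
theorem preservesFiniteLimits_of_flat (h : ∀ y, (stR φ y).Flat) : PreservesFiniteLimits L := by
  have hL : PreservesColimitsOfSize.{0, 0} L := adj.leftAdjoint_preservesColimits
  have hla : L.IsLeftAdjoint := adj.isLeftAdjoint
  have hfc : PreservesFiniteColimits L := ⟨fun J _ _ => inferInstance⟩
  have hadd : L.Additive := by
    have : PreservesBinaryBiproducts L := preservesBinaryBiproducts_of_preservesBinaryCoproducts L
    exact Functor.additive_of_preservesBinaryBiproducts L
  have key : ∀ {M N : Mod R} (g : M ⟶ N) [Mono g], Mono (L.map g) := fun {M N} g _ =>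
    (mono_iff_stMap _).2 fun y => stMap_injective_of_flat adj g y (h y)
      ((mono_iff_stMap g).1 inferInstance (f y))
  rw [L.preservesFiniteLimits_iff_forall_exact_map_and_mono]
  intro S hS
  have := hS.mono_f
  have := hS.epi_g
  exact ⟨hS.exact.map_of_epi_of_preservesCokernel L inferInstance inferInstance, key S.f⟩

end Flat

end K29.RExact
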