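import Groth.Agent.FCompl.K29.RExact
import Groth.Agent.Gaga.H976.TM3
import Groth.Agent.Gaga.H985.CohMod
import Mathlib.LinearAlgebra.Finsupp.LinearCombination
import Mathlib.LinearAlgebra.TensorProduct.Pi
import Mathlib.LinearAlgebra.TensorProduct.RightExactness

/-!
# Local presentations on stalks; inverse images of modules of finite presentation

`T : TopCat.{u}`, `R` a sheaf of commutative rings on `T`, `N : Mod R`.
* `lgen_iff`: sections `s j` over `W` generate `N` on `W` iff their germs span the stalks;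
* `lrel_iff`: the `r k` generate the relations iff they do so on the stalks;
* `isFinitePresentation_pull`, `isFiniteType_pull`: a left adjoint of the direct image along a morphism of
  ringed spaces preserves modules of finite presentation and of finite type; `lgen_pull`, `lrel_pull`.
-/

set_option autoImplicit false
set_option linter.style.haveILetI false
universe u

open CategoryTheory TopologicalSpace Opposite CategoryTheory.Limits

noncomputable section

namespace K29.RPres

open K29.RSec K29.RStalk K29.RPull K29.RExact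
open Groth.Agent.Gaga.H976.TM3 (LGen LRel FPAt FTAt)

variable {T : TopCat.{u}} {R : Sheaf (Opens.grothendieckTopology T) CommRingCat.{u}}

/-- `LGen` in terms of `Sec`. -/
def Gen (N : Mod R) (W : Opens T) {n : ℕ} (s : Fin n → Sec N W) : Prop :=
  ∀ (V : Opens T) (hV : V ≤ W) (t : Sec N V) (x : T), x ∈ V →
    ∃ (V' : Opens T) (h' : V' ≤ V), x ∈ V' ∧ ∃ c : Fin n → O R V',
      res N h' t = ∑ j, c j • res N (h'.trans hV) (s j)

/-- `LRel` in terms of `Sec`. -/
def Rel (N : Mod R) (W : Opens T) {n m : ℕ} (s : Fin n → Sec N W) (r : Fin m → Fin n → O R W) : Prop :=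
  (∀ k, ∑ j, r k j • s j = 0) ∧
  ∀ (V : Opens T) (hV : V ≤ W) (c : Fin n → O R V),
    ∑ j, c j • res N hV (s j) = 0 → ∀ x ∈ V, ∃ (V' : Opens T) (h' : V' ≤ V), x ∈ V' ∧
      ∃ d : Fin m → O R V', ∀ j, resO h' (c j) = ∑ k, d k * resO (h'.trans hV) (r k j)

theorem gen_iff_lgen (N : Mod R) (W : Opens T) {n : ℕ} (s : Fin n → Sec N W) :
    Gen N W s ↔ LGen (R := ringSheaf R) N W s := Iff.rfl

theorem rel_iff_lrel (N : Mod R) (W : Opens T) {n m : ℕ} (s : Fin n → Sec N W)
    (r : Fin m → Fin n → O R W) : Rel N W s r ↔ LRel (R := ringSheaf R) N W s r := Iff.rfl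

theorem ftAt_iff (N : Mod R) (x : T) : FTAt (R := ringSheaf R) N x ↔
    ∃ (W : Opens T) (_ : x ∈ W) (n : ℕ) (s : Fin n → Sec N W), Gen N W s := Iff.rfl

theorem fpAt_iff (N : Mod R) (x : T) : FPAt (R := ringSheaf R) N x ↔
    ∃ (W : Opens T) (_ : x ∈ W) (n m : ℕ) (s : Fin n → Sec N W) (r : Fin m → Fin n → O R W),
      Gen N W s ∧ Rel N W s r := Iff.rfl

theorem gm_sum (N : Mod R) (x : T) (V : Opens T) (hx : x ∈ V) {n : ℕ} (c : Fin n → O R V)
    (s : Fin n → Sec N V) :
    gm N x V hx (∑ j, c j • s j) = ∑ j, gmO R x V hx (c j) • gm N x V hx (s j) := by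
  rw [map_sum]
  exact Finset.sum_congr rfl fun j _ => gm_smul N x V hx _ _

/-- Generation on stalks. -/
theorem gen_iff (N : Mod R) (W : Opens T) {n : ℕ} (s : Fin n → Sec N W) :
    Gen N W s ↔ ∀ (x : T) (hx : x ∈ W) (t : St N x), ∃ c : Fin n → StO R x,
      t = ∑ j, c j • gm N x W hx (s j) := by
  constructor
  · intro h x hx t
    obtain ⟨U, hU, t, rfl⟩ := exists_gm N x t
    obtain ⟨V, hV, hxV, c, hc⟩ := h (U ⊓ W) inf_le_right (res N inf_le_left t) x ⟨hU, hx⟩
    refine ⟨fun j => gmO R x V hxV (c j), ?_⟩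
    have h1 := congrArg (gm N x V hxV) hc
    rw [gm_res, gm_res, gm_sum] at h1
    rw [h1]
    exact Finset.sum_congr rfl fun j _ => by rw [gm_res]
  · intro h V hV t x hx
    obtain ⟨c, hc⟩ := h x (hV hx) (gm N x V hx t)
    obtain ⟨U, hU, c, hc'⟩ := exists_gmO_fin x c
    have h1 : gm N x (U ⊓ V) ⟨hU, hx⟩ (res N inf_le_right t) =
        gm N x (U ⊓ V) ⟨hU, hx⟩ (∑ j, resO (inf_le_left : U ⊓ V ≤ U) (c j) •
          res N ((inf_le_right : U ⊓ V ≤ V).trans hV) (s j)) := by
      rw [gm_res, hc, gm_sum]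
      exact Finset.sum_congr rfl fun j _ => by rw [gm_res, gmO_resO, hc']
    obtain ⟨V', hxV', hV', e⟩ := exists_res_eq N _ h1
    refine ⟨V', hV'.trans inf_le_right, hxV', fun j => resO (hV'.trans inf_le_left) (c j), ?_⟩
    rw [res_res, map_sum] at e
    rw [e]
    exact Finset.sum_congr rfl fun j _ => by rw [res_smul, resO_resO, res_res]

/-- Relations on stalks. -/
theorem rel_iff (N : Mod R) (W : Opens T) {n m : ℕ} (s : Fin n → Sec N W)
    (r : Fin m → Fin n → O R W) :
    Rel N W s r ↔ (∀ k, ∑ j, r k j • s j = 0) ∧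
      ∀ (x : T) (hx : x ∈ W) (c : Fin n → StO R x), ∑ j, c j • gm N x W hx (s j) = 0 →
        ∃ d : Fin m → StO R x, ∀ j, c j = ∑ k, d k * gmO R x W hx (r k j) := by
  refine and_congr_right fun h0 => ?_
  constructor
  · intro h x hx c hc
    obtain ⟨U, hU, c, hc'⟩ := exists_gmO_fin x c
    have h1 : gm N x (U ⊓ W) ⟨hU, hx⟩ (∑ j, resO (inf_le_left : U ⊓ W ≤ U) (c j) •
        res N (inf_le_right : U ⊓ W ≤ W) (s j)) = 0 := by
      rw [gm_sum, ← hc]
      exact Finset.sum_congr rfl fun j _ => by rw [gm_res, gmO_resO, hc']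
    obtain ⟨V, hxV, hV, e⟩ := exists_res_eq_zero N _ h1
    have e' : ∑ j, resO (hV.trans inf_le_left) (c j) • res N (hV.trans inf_le_right) (s j) = 0 := by
      rw [map_sum] at e
      rw [← e]
      exact Finset.sum_congr rfl fun j _ => by rw [res_smul, resO_resO, res_res]
    obtain ⟨V', hV', hxV', d, hd⟩ := h V (hV.trans inf_le_right) _ e' x hxV
    refine ⟨fun k => gmO R x V' hxV' (d k), fun j => ?_⟩
    have h2 := congrArg (gmO R x V' hxV') (hd j)
    rw [resO_resO, gmO_resO, map_sum] at h2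
    rw [← hc', h2]
    exact Finset.sum_congr rfl fun k _ => by rw [map_mul, gmO_resO]
  · intro h V hV c hc x hx
    have h1 : ∑ j, gmO R x V hx (c j) • gm N x W (hV hx) (s j) = 0 := by
      have := congrArg (gm N x V hx) hc
      rw [gm_sum, map_zero] at this
      rw [← this]
      exact Finset.sum_congr rfl fun j _ => by rw [gm_res]
    obtain ⟨d, hd⟩ := h x (hV hx) _ h1
    obtain ⟨U, hU, d, hd'⟩ := exists_gmO_fin x d
    have h2 : ∀ j, ∃ (V' : Opens T) (_ : x ∈ V') (hV' : V' ≤ U ⊓ V),
        resO (hV'.trans inf_le_right) (c j) =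
          ∑ k, resO (hV'.trans inf_le_left) (d k) * resO ((hV'.trans inf_le_right).trans hV) (r k j) := by
      intro j
      have h3 : gmO R x (U ⊓ V) ⟨hU, hx⟩ (resO inf_le_right (c j)) =
          gmO R x (U ⊓ V) ⟨hU, hx⟩ (∑ k, resO inf_le_left (d k) * resO (inf_le_right.trans hV) (r k j)) := by
        rw [gmO_resO, hd j, map_sum]
        exact Finset.sum_congr rfl fun k _ => by rw [map_mul, gmO_resO, gmO_resO, hd']
      obtain ⟨V', hxV', hV', e⟩ := exists_resO_eq _ h3
      refine ⟨V', hxV', hV', ?_⟩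
      rw [resO_resO, map_sum] at e
      rw [e]
      exact Finset.sum_congr rfl fun k _ => by rw [map_mul, resO_resO, resO_resO]
    choose V' hxV' hV' e using h2
    obtain ⟨V'', hx'', h''⟩ : ∃ V'' : Opens T, x ∈ V'' ∧ V'' ≤ U ⊓ V ∧ ∀ j, V'' ≤ V' j := by
      refine ⟨⟨(⋂ j, (V' j : Set T)) ∩ (U ⊓ V : Opens T),
        (isOpen_iInter_of_finite fun j => (V' j).isOpen).inter (U ⊓ V).isOpen⟩,
        ⟨Set.mem_iInter.2 hxV', ⟨hU, hx⟩⟩, fun y hy => hy.2, fun j y hy => Set.mem_iInter.1 hy.1 j⟩
    refine ⟨V'', h''.1.trans inf_le_right, hx'', fun k => resO (h''.1.trans inf_le_left) (d k), fun j => ?_⟩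
    have h4 := congrArg (resO (h''.2 j)) (e j)
    rw [resO_resO, map_sum] at h4
    rw [h4]
    exact Finset.sum_congr rfl fun k _ => by rw [map_mul, resO_resO, resO_resO]

theorem Gen.res {N : Mod R} {W V : Opens T} (hV : V ≤ W) {n : ℕ} {s : Fin n → Sec N W}
    (h : Gen N W s) : Gen N V fun j => res N hV (s j) :=
  Groth.Agent.Gaga.H985.CohMod.LGen.restrict hV h

theorem Rel.res {N : Mod R} {W V : Opens T} (hV : V ≤ W) {n m : ℕ} {s : Fin n → Sec N W}
    {r : Fin m → Fin n → O R W} (h : Rel N W s r) :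
    Rel N V (fun j => res N hV (s j)) (fun k j => resO hV (r k j)) :=
  Groth.Agent.Gaga.H985.CohMod.LRel.restrict hV h

section Algebra

open TensorProduct

/-- Right exactness of the tensor product, in coordinates. -/
theorem exists_rel_of_tensor {A B : Type u} [CommRing A] [CommRing B] [Algebra A B] {N : Type u}
    [AddCommGroup N] [Module A N] {n m : ℕ} (s : Fin n → N) (r : Fin m → Fin n → A)
    (hgen : ∀ t : N, ∃ c : Fin n → A, t = ∑ j, c j • s j) (hr : ∀ k, ∑ j, r k j • s j = 0)
    (hrel : ∀ c : Fin n → A, ∑ j, c j • s j = 0 → ∃ d : Fin m → A, ∀ j, c j = ∑ k, d k * r k j)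
    (c : Fin n → B) (hc : ∑ j, c j ⊗ₜ[A] s j = 0) :
    ∃ d : Fin m → B, ∀ j, c j = ∑ k, d k * algebraMap A B (r k j) := by
  classical
  let F : (Fin m → A) →ₗ[A] (Fin n → A) :=
    { toFun := fun d j => ∑ k, d k * r k j
      map_add' := fun d d' => by
        funext j
        simp [add_mul, Finset.sum_add_distrib]
      map_smul' := fun a d => by
        funext j
        simp [Finset.mul_sum, mul_assoc] }
  let G : (Fin n → A) →ₗ[A] N :=
    { toFun := fun c => ∑ j, c j • s j
      map_add' := fun d d' => by simp [add_smul, Finset.sum_add_distrib]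
      map_smul' := fun a d => by simp [Finset.smul_sum, mul_smul] }
  have hG : Function.Surjective G := fun t => by
    obtain ⟨c, hc⟩ := hgen t
    exact ⟨c, hc.symm⟩
  have hFG : Function.Exact F G := by
    intro c
    constructor
    · intro h
      obtain ⟨d, hd⟩ := hrel c h
      exact ⟨d, funext fun j => (hd j).symm⟩
    · rintro ⟨d, rfl⟩
      change ∑ j, (∑ k, d k * r k j) • s j = 0
      simp only [Finset.sum_smul, mul_smul]
      rw [Finset.sum_comm]
      exact Finset.sum_eq_zero fun k _ => by rw [← Finset.smul_sum, hr, smul_zero]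
  have hex := lTensor_exact B hFG hG
  let c' : B ⊗[A] (Fin n → A) := ∑ j, c j ⊗ₜ Pi.single j 1
  have hc' : G.lTensor B c' = 0 := by
    rw [← hc, map_sum]
    refine Finset.sum_congr rfl fun j _ => ?_
    rw [LinearMap.lTensor_tmul]
    congr 1
    change ∑ i, (Pi.single j 1 : Fin n → A) i • s i = s j
    rw [Finset.sum_eq_single j]
    · simp
    · intro i _ hi
      simp [Pi.single_eq_of_ne hi]
    · intro h
      exact absurd (Finset.mem_univ j) h
  obtain ⟨w, hw⟩ := (hex c').1 hc'
  let e1 := TensorProduct.piScalarRight A B B (Fin n)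
  let e2 := TensorProduct.piScalarRight A B B (Fin m)
  have key : ∀ w : B ⊗[A] (Fin m → A), ∀ j, e1 (F.lTensor B w) j = ∑ k, e2 w k * algebraMap A B (r k j) := by
    intro w j
    induction w with
    | zero => simp
    | add a b ha hb =>
      rw [map_add, map_add, Pi.add_apply, ha, hb, map_add]
      simp [add_mul, Finset.sum_add_distrib]
    | tmul b d =>
      rw [LinearMap.lTensor_tmul]
      have h1 : e1 (b ⊗ₜ F d) j = F d j • b := by
        simp [e1]
      have h2 : ∀ k, e2 (b ⊗ₜ d) k = d k • b := fun k => by simp [e2]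
      rw [h1]
      simp only [h2]
      change (∑ k, d k * r k j) • b = _
      rw [Finset.sum_smul]
      refine Finset.sum_congr rfl fun k _ => ?_
      rw [Algebra.smul_def, Algebra.smul_def, map_mul]
      ring
  refine ⟨e2 w, fun j => ?_⟩
  rw [← key w j, hw]
  have : e1 c' = c := by
    funext i
    simp only [c', map_sum, Finset.sum_apply]
    rw [Finset.sum_eq_single i]
    · simp [e1]
    · intro k _ hk
      simp [e1, Pi.single_eq_of_ne (Ne.symm hk)]
    · intro h
      exact absurd (Finset.mem_univ i) h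
  rw [this]

end Algebra

section Pull

open TensorProduct

variable {T1 : TopCat.{u}} {f : T1 ⟶ T} {R1 : Sheaf (Opens.grothendieckTopology T1) CommRingCat.{u}}
  [(Opens.map f).IsContinuous (Opens.grothendieckTopology T) (Opens.grothendieckTopology T1)]
  {φ : ringSheaf R ⟶ ((Opens.map f).sheafPushforwardContinuous RingCat.{u}
    (Opens.grothendieckTopology T) (Opens.grothendieckTopology T1)).obj (ringSheaf R1)}
  {L : Mod R ⥤ Mod R1} (adj : L ⊣ push φ)

theorem gen_pull {N : Mod R} {W : Opens T} {n : ℕ} {s : Fin n → Sec N W} (h : Gen N W s) :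
    Gen (L.obj N) (pre f W) fun j => us adj W (s j) := by
  rw [gen_iff] at h ⊢
  intro y hy t
  have ht : t ∈ Submodule.span (StO R1 y) (Set.range (can adj N y)) := by
    rw [span_range_can]; trivial
  induction ht using Submodule.span_induction with
  | mem t ht =>
    obtain ⟨t, rfl⟩ := ht
    obtain ⟨c, rfl⟩ := h (f y) hy t
    refine ⟨fun j => stR φ y (c j), ?_⟩
    rw [map_sum]
    exact Finset.sum_congr rfl fun j _ => by rw [can_smul, can_gm]
  | zero => exact ⟨0, by simp⟩
  | add a b _ _ ha hb =>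
    obtain ⟨c, rfl⟩ := ha
    obtain ⟨c', rfl⟩ := hb
    exact ⟨c + c', by simp [add_smul, Finset.sum_add_distrib]⟩
  | smul r a _ ha =>
    obtain ⟨c, rfl⟩ := ha
    exact ⟨fun j => r * c j, by simp [Finset.smul_sum, mul_smul]⟩

theorem rel_pull {N : Mod R} {W : Opens T} {n m : ℕ} {s : Fin n → Sec N W}
    {r : Fin m → Fin n → O R W} (h : Gen N W s) (hr : Rel N W s r) :
    Rel (L.obj N) (pre f W) (fun j => us adj W (s j)) (fun k j => cm φ W (r k j)) := by
  rw [gen_iff] at h
  rw [rel_iff] at hr ⊢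
  constructor
  · intro k
    have := congrArg (us adj W) (hr.1 k)
    rw [map_sum, map_zero] at this
    rw [← this]
    exact Finset.sum_congr rfl fun j _ => by rw [us_smul]
  · intro y hy c hc
    letI := stAlg φ y
    have hc' : ∑ j, c j ⊗ₜ[StO R (f y)] gm N (f y) W hy (s j) = 0 := by
      apply (stEquiv adj N y).injective
      rw [map_zero, map_sum, ← hc]
      exact Finset.sum_congr rfl fun j _ => by rw [stEquiv_tmul, can_gm]
    obtain ⟨d, hd⟩ := exists_rel_of_tensor (A := StO R (f y)) (B := StO R1 y)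
      (fun j => gm N (f y) W hy (s j)) (fun k j => gmO R (f y) W hy (r k j)) (h (f y) hy)
      (fun k => by rw [← gm_sum, hr.1 k, map_zero]) (hr.2 (f y) hy) c hc'
    refine ⟨d, fun j => ?_⟩
    rw [hd j]
    refine Finset.sum_congr rfl fun k _ => ?_
    congr 1
    exact stR_gmO φ y W hy (r k j)

include adj in
/-- Inverse images of modules of finite type are of finite type. -/
theorem isFiniteType_pull {N : Mod R} (hN : SheafOfModules.IsFiniteType (R := ringSheaf R) N) :
    SheafOfModules.IsFiniteType (R := ringSheaf R1) (L.obj N) := by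
  rw [Groth.Agent.Gaga.H976.TM3.isFiniteType_iff] at hN ⊢
  intro y
  obtain ⟨W, hW, n, s, hs⟩ := (ftAt_iff N (f y)).1 (hN (f y))
  exact (ftAt_iff (L.obj N) y).2 ⟨pre f W, hW, n, _, gen_pull adj hs⟩

include adj in
/-- Inverse images of modules of finite presentation are of finite presentation. -/
theorem isFinitePresentation_pull {N : Mod R}
    (hN : SheafOfModules.IsFinitePresentation (R := ringSheaf R) N) :
    SheafOfModules.IsFinitePresentation (R := ringSheaf R1) (L.obj N) := by
  rw [Groth.Agent.Gaga.H976.TM3.isFinitePresentation_iff] at hN ⊢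
  intro y
  obtain ⟨W, hW, n, m, s, r, hs, hr⟩ := (fpAt_iff N (f y)).1 (hN (f y))
  exact (fpAt_iff (L.obj N) y).2 ⟨pre f W, hW, n, m, _, _, gen_pull adj hs, rel_pull adj hs hr⟩

end Pull

end K29.RPres
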