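import Groth.Agent.FCompl.K29.AffPres

/-!
# Presentations of quasi-coherent modules over affine open subsets, II

Generators and relations of `Γ(M, U)`, `U` affine, `M` quasi-coherent, are generators and relations of `M` over `U`;
a coherent module on a locally Noetherian scheme has a presentation over every affine open.
-/

set_option autoImplicit false
set_option linter.style.haveILetI false
universe u

open CategoryTheory TopologicalSpace Opposite CategoryTheory.Limits AlgebraicGeometry

noncomputable section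

namespace K29.AffPres

open K29.RSec K29.RStalk K29.RPres

variable {X : Scheme.{u}}

theorem isUnit_resO {U : X.Opens} (f : O X.sheaf U) : IsUnit (resO (R := X.sheaf) (X.basicOpen_le f) f) :=
  RingedSpace.isUnit_res_basicOpen X.toRingedSpace f

theorem gen_of_affine (M : Mod X.sheaf) (hM : Coh.IsQCoh (show X.Modules from M)) {U : X.Opens}
    (hU : IsAffineOpen U) {n : ℕ} {s : Fin n → Sec M U}
    (hs : ∀ t : Sec M U, ∃ c : Fin n → O X.sheaf U, t = ∑ j, c j • s j) : Gen M U s := by
  intro V hV t x hx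
  obtain ⟨f, hfV, hxf⟩ := exists_basicOpen hU V x (hV hx) hx
  obtain ⟨N, m, hm⟩ := Groth.Agent.Fdesc.QCohStalk.exists_map_eq_pow_smul M hU hM f (res M hfV t)
  obtain ⟨a, ha⟩ := hs m
  have hu : IsUnit (resO (R := X.sheaf) (X.basicOpen_le f) f ^ N) := (isUnit_resO f).pow N
  obtain ⟨w, hw⟩ := hu
  refine ⟨X.basicOpen f, hfV, hxf, fun j => (↑w⁻¹ : O X.sheaf (X.basicOpen f)) * resO (X.basicOpen_le f) (a j), ?_⟩
  have hm' : res M (X.basicOpen_le f) m = resO (R := X.sheaf) (X.basicOpen_le f) f ^ N • res M hfV t := hm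
  have h1 : res M hfV t = (↑w⁻¹ : O X.sheaf (X.basicOpen f)) • res M (X.basicOpen_le f) m := by
    rw [hm', ← hw, smul_smul, Units.inv_mul, one_smul]
  rw [h1, ha, map_sum, Finset.smul_sum]
  refine Finset.sum_congr rfl fun j _ => ?_
  rw [res_smul, smul_smul]

theorem rel_of_affine (M : Mod X.sheaf) (hM : Coh.IsQCoh (show X.Modules from M)) {U : X.Opens}
    (hU : IsAffineOpen U) {n m : ℕ} {s : Fin n → Sec M U} {r : Fin m → Fin n → O X.sheaf U}
    (h0 : ∀ k, ∑ j, r k j • s j = 0)
    (hr : ∀ c : Fin n → O X.sheaf U, ∑ j, c j • s j = 0 → ∃ d : Fin m → O X.sheaf U, ∀ j, c j = ∑ k, d k * r k j) :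
    Rel M U s r := by
  refine ⟨h0, fun V hV c hc x hx => ?_⟩
  obtain ⟨f, hfV, hxf⟩ := exists_basicOpen hU V x (hV hx) hx
  obtain ⟨N, a, ha⟩ := exists_denom hU f fun j => resO hfV (c j)
  have h1 : res M (X.basicOpen_le f) (∑ j, a j • s j) = 0 := by
    have h2 := congrArg (res M hfV) hc
    rw [map_zero, map_sum] at h2
    rw [map_sum]
    have h3 : ∀ j, res M (X.basicOpen_le f) (a j • s j) =
        resO (R := X.sheaf) (X.basicOpen_le f) f ^ N • res M hfV (c j • res M hV (s j)) := by
      intro j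
      rw [res_smul, ha, mul_smul, res_smul, res_res]
    rw [Finset.sum_congr rfl fun j _ => h3 j, ← Finset.smul_sum, h2, smul_zero]
  obtain ⟨N', hN'⟩ := Groth.Agent.Fdesc.QCohStalk.exists_pow_smul_eq_zero M hU hM f _ h1
  have hN'' : f ^ N' • (∑ j, a j • s j) = 0 := hN'
  obtain ⟨d, hd⟩ := hr (fun j => f ^ N' * a j) (by
    rw [← hN'', Finset.smul_sum]
    exact Finset.sum_congr rfl fun j _ => mul_smul _ _ _)
  obtain ⟨w, hw⟩ := (isUnit_resO f).pow (N' + N)
  refine ⟨X.basicOpen f, hfV, hxf, fun k => (↑w⁻¹ : O X.sheaf (X.basicOpen f)) * resO (X.basicOpen_le f) (d k), fun j => ?_⟩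
  have h4 := congrArg (resO (R := X.sheaf) (X.basicOpen_le f)) (hd j)
  rw [map_mul, map_pow, ha, ← mul_assoc, ← pow_add, ← hw, map_sum] at h4
  calc resO hfV (c j) = (↑w⁻¹ : O X.sheaf (X.basicOpen f)) * (↑w * resO hfV (c j)) := by
        rw [← mul_assoc, Units.inv_mul, one_mul]
    _ = _ := by
        rw [h4, Finset.mul_sum]
        refine Finset.sum_congr rfl fun k _ => ?_
        rw [map_mul, mul_assoc]

/-- A coherent module on a locally Noetherian scheme has a finite presentation over every affine open. -/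
theorem exists_pres [IsLocallyNoetherian X] (M : Mod X.sheaf) (hM : Coh.IsCoh (show X.Modules from M))
    {U : X.Opens} (hU : IsAffineOpen U) :
    ∃ (n m : ℕ) (s : Fin n → Sec M U) (r : Fin m → Fin n → O X.sheaf U), Gen M U s ∧ Rel M U s r := by
  have hN : IsNoetherianRing (O X.sheaf U) := IsLocallyNoetherian.component_noetherian ⟨U, hU⟩
  have hq : (show X.Modules from M).IsQuasicoherent := hM.1
  have hfin : Module.Finite (O X.sheaf U) (Sec M U) :=
    Groth.Agent.Ega1.QCohFinite.finite_sections (show X.Modules from M) hM.2 hU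
  obtain ⟨n, s, hs⟩ := Module.Finite.exists_fin (R := O X.sheaf U) (M := Sec M U)
  let G : (Fin n → O X.sheaf U) →ₗ[O X.sheaf U] Sec M U := Fintype.linearCombination (O X.sheaf U) s
  have hG : ∀ c, G c = ∑ j, c j • s j := fun c => rfl
  obtain ⟨m, r, hr⟩ := Submodule.fg_iff_exists_fin_generating_family.1
    (IsNoetherian.noetherian (LinearMap.ker G))
  refine ⟨n, m, s, r, gen_of_affine M hM.1 hU fun t => ?_, rel_of_affine M hM.1 hU (fun k => ?_) fun c hc => ?_⟩
  · have : t ∈ Submodule.span (O X.sheaf U) (Set.range s) := by rw [hs]; trivial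
    obtain ⟨c, hc⟩ := (Submodule.mem_span_range_iff_exists_fun _).1 this
    exact ⟨c, hc.symm⟩
  · have : r k ∈ LinearMap.ker G := by
      rw [← hr]
      exact Submodule.subset_span ⟨k, rfl⟩
    exact this
  · have : c ∈ Submodule.span (O X.sheaf U) (Set.range r) := by
      rw [hr]
      exact hc
    obtain ⟨d, hd⟩ := (Submodule.mem_span_range_iff_exists_fun _).1 this
    refine ⟨d, fun j => ?_⟩
    have := congrFun hd j
    simpa using this.symm

end K29.AffPres
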