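import Groth.Agent.FCompl.K29.RPres
import Groth.Agent.Fdesc.QCohStalk
import Groth.Agent.Ega1.QCohFinite

/-!
# Presentations of quasi-coherent modules over affine open subsets

`M` a quasi-coherent module on a scheme with local presentation `(s, r)` over `W` (`RPres.Gen`, `RPres.Rel`):
over every affine `V ≤ W` the sections `s j` generate `Γ(M, V)` and the `r k` generate their relations.
-/

set_option autoImplicit false
set_option linter.style.haveILetI false
universe u

open CategoryTheory TopologicalSpace Opposite CategoryTheory.Limits AlgebraicGeometry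

noncomputable section

namespace K29.AffPres

open K29.RSec K29.RStalk K29.RPres

variable {X : Scheme.{u}}

/-- A finite family of functions on `D(f)`, `f` a function on the affine open `V`, has a common denominator. -/
theorem exists_denom {V : X.Opens} (hV : IsAffineOpen V) (f : O X.sheaf V) {n : ℕ}
    (c : Fin n → O X.sheaf (X.basicOpen f)) :
    ∃ (N : ℕ) (a : Fin n → O X.sheaf V), ∀ j,
      resO (X.basicOpen_le f) (a j) = resO (X.basicOpen_le f) f ^ N * c j := by
  have := hV.isLocalization_basicOpen f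
  obtain ⟨⟨_, N, rfl⟩, hb⟩ := IsLocalization.exist_integer_multiples_of_finite
    (Submonoid.powers (show Γ(X, V) from f)) (S := Γ(X, X.basicOpen f)) c
  choose a ha using hb
  refine ⟨N, a, fun j => (ha j).trans ?_⟩
  exact congrArg (fun z => z * c j) (map_pow (resO (R := X.sheaf) (X.basicOpen_le f)) f N)

theorem exists_basicOpen {V : X.Opens} (hV : IsAffineOpen V) (V' : X.Opens) (x : X) (hx : x ∈ V) (hx' : x ∈ V') :
    ∃ f : O X.sheaf V, X.basicOpen f ≤ V' ∧ x ∈ X.basicOpen f :=
  hV.exists_basicOpen_le ⟨x, hx'⟩ hx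

theorem mem_of_cover {V : X.Opens} (hV : IsAffineOpen V) {N : Type*} [AddCommGroup N] [Module (O X.sheaf V) N]
    (P : Submodule (O X.sheaf V) N) (s : N)
    (h : ∀ x ∈ V, ∃ (f : O X.sheaf V) (n : ℕ), x ∈ X.basicOpen f ∧ f ^ n • s ∈ P) : s ∈ P :=
  letI : Module Γ(X, V) N := inferInstanceAs (Module (O X.sheaf V) N)
  Groth.Agent.Ega1.QCohFinite.mem_of_cover hV P s h

/-- The sections `s j` generate over every affine open. -/
theorem exists_eq_sum (M : Mod X.sheaf) (hM : Coh.IsQCoh (show X.Modules from M)) {W V : X.Opens}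
    (hV : IsAffineOpen V) (h : V ≤ W) {n : ℕ} {s : Fin n → Sec M W} (hs : Gen M W s) (t : Sec M V) :
    ∃ c : Fin n → O X.sheaf V, t = ∑ j, c j • res M h (s j) := by
  let P : Submodule (O X.sheaf V) (Sec M V) := Submodule.span _ (Set.range fun j => res M h (s j))
  have key : t ∈ P := by
    refine mem_of_cover hV P t fun x hx => ?_
    obtain ⟨V', hV', hxV', c, hc⟩ := hs V h t x hx
    obtain ⟨f, hfV', hxf⟩ := exists_basicOpen hV V' x hx hxV'
    obtain ⟨N, a, ha⟩ := exists_denom hV f fun j => resO hfV' (c j)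
    have h1 : res M (X.basicOpen_le f) (f ^ N • t - ∑ j, a j • res M h (s j)) = 0 := by
      have h2 := congrArg (res M hfV') hc
      rw [res_res, map_sum] at h2
      rw [map_sub, res_smul, h2, map_sum, map_pow, Finset.smul_sum, sub_eq_zero]
      refine Finset.sum_congr rfl fun j _ => ?_
      rw [res_smul, res_smul, ha, mul_smul, res_res, res_res]
    obtain ⟨N', hN'⟩ := Groth.Agent.Fdesc.QCohStalk.exists_pow_smul_eq_zero M hV hM f _ h1
    refine ⟨f, N' + N, hxf, ?_⟩
    have h3 : f ^ N' • (f ^ N • t - ∑ j, a j • res M h (s j)) = 0 := hN'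
    rw [smul_sub, sub_eq_zero, smul_smul, ← pow_add] at h3
    change f ^ (N' + N) • t ∈ P
    rw [h3]
    exact P.smul_mem _ (P.sum_mem fun j _ => P.smul_mem _ (Submodule.subset_span ⟨j, rfl⟩))
  obtain ⟨c, hc⟩ := (Submodule.mem_span_range_iff_exists_fun _).1 key
  exact ⟨c, hc.symm⟩

/-- The `r k` generate the relations over every affine open. -/
theorem exists_rel (M : Mod X.sheaf) {W V : X.Opens}
    (hV : IsAffineOpen V) (h : V ≤ W) {n m : ℕ} {s : Fin n → Sec M W} {r : Fin m → Fin n → O X.sheaf W}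
    (hr : Rel M W s r) (c : Fin n → O X.sheaf V) (hc : ∑ j, c j • res M h (s j) = 0) :
    ∃ d : Fin m → O X.sheaf V, ∀ j, c j = ∑ k, d k * resO h (r k j) := by
  let P : Submodule (O X.sheaf V) (Fin n → O X.sheaf V) :=
    Submodule.span _ (Set.range fun k => fun j => resO h (r k j))
  have key : c ∈ P := by
    refine mem_of_cover hV P c fun x hx => ?_
    obtain ⟨V', hV', hxV', d, hd⟩ := hr.2 V h c hc x hx
    obtain ⟨f, hfV', hxf⟩ := exists_basicOpen hV V' x hx hxV'
    obtain ⟨N, a, ha⟩ := exists_denom hV f fun k => resO hfV' (d k)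
    have := hV.isLocalization_basicOpen f
    have h1 : ∀ j, ∃ N' : ℕ, f ^ N' * (f ^ N * c j - ∑ k, a k * resO h (r k j)) = 0 := by
      intro j
      have h2 := congrArg (resO hfV') (hd j)
      rw [resO_resO, map_sum] at h2
      have h3 : resO (X.basicOpen_le f) (f ^ N * c j - ∑ k, a k * resO h (r k j)) = 0 := by
        rw [map_sub, map_mul, map_pow, h2, map_sum, Finset.mul_sum, sub_eq_zero]
        refine Finset.sum_congr rfl fun k _ => ?_
        rw [map_mul, map_mul, ha, mul_assoc, resO_resO, resO_resO]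
      obtain ⟨⟨_, N', rfl⟩, hN'⟩ := (IsLocalization.map_eq_zero_iff
        (Submonoid.powers (show Γ(X, V) from f)) Γ(X, X.basicOpen f) _).1 h3
      exact ⟨N', hN'⟩
    choose N' hN' using h1
    refine ⟨f, (∑ j, N' j) + N, hxf, ?_⟩
    have h4 : f ^ ((∑ j, N' j) + N) • c = f ^ (∑ j, N' j) • ∑ k, a k • fun j => resO h (r k j) := by
      funext j
      have h5 : f ^ (∑ j, N' j) * (f ^ N * c j - ∑ k, a k * resO h (r k j)) = 0 := by
        rw [← Nat.sub_add_cancel (Finset.single_le_sum (f := N') (fun _ _ => Nat.zero_le _) (Finset.mem_univ j)),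
          pow_add, mul_assoc, hN', mul_zero]
      rw [mul_sub, sub_eq_zero, ← mul_assoc, ← pow_add] at h5
      simpa using h5
    change f ^ ((∑ j, N' j) + N) • c ∈ P
    rw [h4]
    exact P.smul_mem _ (P.sum_mem fun j _ => P.smul_mem _ (Submodule.subset_span ⟨j, rfl⟩))
  obtain ⟨d, hd⟩ := (Submodule.mem_span_range_iff_exists_fun _).1 key
  refine ⟨d, fun j => ?_⟩
  have := congrFun hd j
  simpa using this.symm

end K29.AffPres
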