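import Groth.Agent.FCompl.K29.AffGen

/-!
# Inverse images of quasi-coherent modules along closed immersions, on sections over affine opens
-/

set_option autoImplicit false
set_option linter.style.haveILetI false
universe u

open CategoryTheory TopologicalSpace Opposite CategoryTheory.Limits AlgebraicGeometry

noncomputable section

namespace K29.ClImm

open K29.RSec K29.RStalk K29.RPull K29.RPres K29.AffPres

variable {X Y : Scheme.{u}} (f : X ⟶ Y)

/-- The comorphism of a morphism of schemes. -/
def schφ : ringSheaf Y.sheaf ⟶ ((Opens.map f.base).sheafPushforwardContinuous RingCat.{u}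
    (Opens.grothendieckTopology Y.carrier) (Opens.grothendieckTopology X.carrier)).obj (ringSheaf X.sheaf) :=
  f.toRingCatSheafHom

/-- The adjunction of a morphism of schemes. -/
def schAdj : Scheme.Modules.pullback f ⊣ push (schφ f) := Scheme.Modules.pullbackPushforwardAdjunction f

theorem cm_schφ (U : Y.Opens) (a : O Y.sheaf U) : cm (schφ f) U a = f.app U a := rfl

variable {f}

section

variable [IsClosedImmersion f] {U : Y.Opens} (hU : IsAffineOpen U)

include hU

theorem cm_surjective : Function.Surjective (cm (schφ f) U) := Scheme.Hom.app_surjective f _ hU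

theorem isAffineOpen_pre : IsAffineOpen (pre f.base U) := hU.preimage f

variable (F : Mod Y.sheaf) {n m : ℕ} {s : Fin n → Sec F U} {r : Fin m → Fin n → O Y.sheaf U}

theorem us_surjective (hF' : Coh.IsQCoh ((Scheme.Modules.pullback f).obj F)) (hs : Gen F U s) :
    Function.Surjective (us (schAdj f) (M := F) U) := by
  intro y
  obtain ⟨c, hc⟩ := exists_eq_sum ((Scheme.Modules.pullback f).obj F) hF' (isAffineOpen_pre (f := f) hU) le_rfl
    (gen_pull (schAdj f) hs) y
  choose c' hc' using fun j => cm_surjective (f := f) hU (c j)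
  refine ⟨∑ j, c' j • s j, ?_⟩
  rw [hc, map_sum]
  refine Finset.sum_congr rfl fun j _ => ?_
  rw [us_smul, hc', res_self]

theorem mem_of_us_eq_zero (hF : Coh.IsQCoh (show Y.Modules from F)) (hs : Gen F U s) (hr : Rel F U s r)
    (z : Sec F U) (hz : us (schAdj f) U z = 0) :
    z ∈ (RingHom.ker (cm (schφ f) U) • ⊤ : Submodule (O Y.sheaf U) (Sec F U)) := by
  obtain ⟨c, hc⟩ := exists_eq_sum F hF hU le_rfl hs z
  simp only [res_self] at hc
  obtain ⟨d, hd⟩ := exists_rel ((Scheme.Modules.pullback f).obj F) (isAffineOpen_pre (f := f) hU) le_rfl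
    (rel_pull (schAdj f) hs hr) (fun j => cm (schφ f) U (c j)) (by
      rw [← hz, hc, map_sum]
      exact Finset.sum_congr rfl fun j _ => by rw [us_smul, res_self])
  simp only [resO_self] at hd
  choose d' hd' using fun l => cm_surjective (f := f) hU (d l)
  have h1 : ∑ j, (∑ l, d' l * r l j) • s j = 0 := by
    simp only [Finset.sum_smul, mul_smul]
    rw [Finset.sum_comm]
    exact Finset.sum_eq_zero fun l _ => by rw [← Finset.smul_sum, hr.1, smul_zero]
  have h2 : z = ∑ j, (c j - ∑ l, d' l * r l j) • s j := by
    simp only [sub_smul]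
    rw [Finset.sum_sub_distrib, h1, sub_zero, hc]
  rw [h2]
  refine Submodule.sum_mem _ fun j _ => Submodule.smul_mem_smul ?_ trivial
  rw [RingHom.mem_ker, map_sub, map_sum, sub_eq_zero, hd]
  exact Finset.sum_congr rfl fun l _ => by rw [map_mul, hd']

end

end K29.ClImm
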