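import Groth.Agent.FCompl.K29.RExact
import Mathlib.RingTheory.Flat.EquationalCriterion

/-!
# Flatness of the stalk maps of a morphism of ringed spaces from flatness on sections
-/

set_option autoImplicit false
set_option linter.style.haveILetI false
universe u

open CategoryTheory TopologicalSpace Opposite CategoryTheory.Limits

noncomputable section

namespace K29.RFlat

open K29.RSec K29.RStalk K29.RPull

variable {T T1 : TopCat.{u}} {f : T1 ⟶ T} {R : Sheaf (Opens.grothendieckTopology T) CommRingCat.{u}}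
  {R1 : Sheaf (Opens.grothendieckTopology T1) CommRingCat.{u}}
  [(Opens.map f).IsContinuous (Opens.grothendieckTopology T) (Opens.grothendieckTopology T1)]
  (φ : ringSheaf R ⟶ ((Opens.map f).sheafPushforwardContinuous RingCat.{u}
    (Opens.grothendieckTopology T) (Opens.grothendieckTopology T1)).obj (ringSheaf R1))

/-- If `O R U → O R1 (f⁻¹ U)` is flat for `U` in a family of open sets cofinal at `y` on both sides, then the stalk
map at `y` is flat. -/
theorem flat_stR (y : T1) (B : Opens T → Prop)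
    (hB : ∀ (U : Opens T) (V : Opens T1), f y ∈ U → y ∈ V →
      ∃ U' : Opens T, f y ∈ U' ∧ U' ≤ U ∧ pre f U' ≤ V ∧ B U')
    (hfl : ∀ U, B U → f y ∈ U → (cm φ U).Flat) : (stR φ y).Flat := by
  algebraize [stR φ y]
  change Module.Flat (StO R (f y)) (StO R1 y)
  refine Module.Flat.of_forall_isTrivialRelation fun {l a x} hax => ?_
  obtain ⟨U₁, hU₁, a, rfl⟩ : ∃ (U₁ : Opens T) (hU₁ : f y ∈ U₁) (a' : Fin l → O R U₁),
      a = fun i => gmO R (f y) U₁ hU₁ (a' i) := by
    obtain ⟨U, hU, a', ha⟩ := exists_gmO_fin (f y) a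
    exact ⟨U, hU, a', funext fun i => (ha i).symm⟩
  obtain ⟨V₁, hV₁, x, rfl⟩ : ∃ (V₁ : Opens T1) (hV₁ : y ∈ V₁) (x' : Fin l → O R1 V₁),
      x = fun i => gmO R1 y V₁ hV₁ (x' i) := by
    obtain ⟨U, hU, a', ha⟩ := exists_gmO_fin y x
    exact ⟨U, hU, a', funext fun i => (ha i).symm⟩
  obtain ⟨U₂, hyU₂, hU₂, hV₂, -⟩ := hB U₁ V₁ hU₁ hV₁
  have h1 : gmO R1 y (pre f U₂) hyU₂ (∑ i, cm φ U₂ (resO hU₂ (a i)) * resO hV₂ (x i)) =
      gmO R1 y (pre f U₂) hyU₂ 0 := by
    rw [map_zero, map_sum, ← hax]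
    refine Finset.sum_congr rfl fun i _ => ?_
    rw [map_mul, ← stR_gmO φ y U₂ hyU₂, gmO_resO, gmO_resO]
    exact (Algebra.smul_def _ _).symm
  obtain ⟨V₃, hyV₃, hV₃, e⟩ := exists_resO_eq _ h1
  obtain ⟨U₄, hyU₄, hU₄, hV₄, hBU₄⟩ := hB U₂ V₃ hyU₂ hyV₃
  have hflat := hfl U₄ hBU₄ hyU₄
  algebraize [cm φ U₄]
  have h2 : ∑ i, resO (hU₄.trans hU₂) (a i) • resO (R := R1) ((pre_mono f hU₄).trans hV₂) (x i) = 0 := by
    have e' := congrArg (resO hV₄) e
    rw [map_zero, map_zero, resO_resO, map_sum] at e'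
    rw [← e']
    refine Finset.sum_congr rfl fun i _ => ?_
    rw [map_mul, resO_resO, ← cm_resO φ hU₄, resO_resO]
    exact Algebra.smul_def _ _
  obtain ⟨k, b, z, hb1, hb2⟩ := Module.Flat.isTrivialRelation_of_sum_smul_eq_zero h2
  refine ⟨k, fun i j => gmO R (f y) U₄ hyU₄ (b i j), fun j => gmO R1 y (pre f U₄) hyU₄ (z j), fun i => ?_, fun j => ?_⟩
  · have h3 := congrArg (gmO R1 y (pre f U₄) hyU₄) (hb1 i)
    rw [gmO_resO, map_sum] at h3
    refine h3.trans (Finset.sum_congr rfl fun j _ => ?_)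
    have h4 : gmO R (f y) U₄ hyU₄ (b i j) • gmO R1 y (pre f U₄) hyU₄ (z j) =
      stR φ y (gmO R (f y) U₄ hyU₄ (b i j)) * gmO R1 y (pre f U₄) hyU₄ (z j) := Algebra.smul_def _ _
    have h5 : b i j • z j = cm φ U₄ (b i j) * z j := Algebra.smul_def _ _
    refine Eq.trans ?_ h4.symm
    rw [h5, map_mul, stR_gmO]
  · have h3 := congrArg (gmO R (f y) U₄ hyU₄) (hb2 j)
    rw [map_zero, map_sum] at h3
    refine Eq.trans (Finset.sum_congr rfl fun i _ => ?_) h3
    rw [map_mul, gmO_resO]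

end K29.RFlat
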