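import Groth.Agent.FCompl.K29.FmlUnit
import Groth.Agent.FCompl.K29.RFlat
import Groth.Agent.S3854

/-!
# The morphism of ringed spaces from a completion to the scheme it completes, on sections over affine opens

`𝔛` a locally Noetherian formal system, `p n : 𝔛.X n ⟶ Y` compatible closed immersions to a locally Noetherian scheme
with `ker (p n) = J ^ (n + 1)`: for `U ⊆ Y` affine, `Γ(Y, U) → O_𝔛(p⁻¹ U)` is flat, is an isomorphism modulo the powers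
of `J`, and `J` generates the ideal of definition.  The stalk maps are flat.
-/

set_option autoImplicit false
set_option linter.style.haveILetI false
set_option linter.unusedSectionVars false
universe u

open CategoryTheory TopologicalSpace Opposite CategoryTheory.Limits AlgebraicGeometry

noncomputable section

namespace K29.Cmpl

open K29.RSec K29.RStalk K29.RPull K29.RPres K29.Fml

variable {𝔛 : FSch.Sys.{u}} (h : 𝔛.IsFormal) {Y : Scheme.{u}} (p : ∀ n, 𝔛.X n ⟶ Y)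
  (hp : ∀ n, 𝔛.ι n ≫ p (n + 1) = p n)

/-- The comorphism of `𝔛 ⟶ Y`. -/
def sφ : ringSheaf Y.sheaf ⟶ ((Opens.map (p 0).base).sheafPushforwardContinuous RingCat.{u}
    (Opens.grothendieckTopology Y.carrier) (Opens.grothendieckTopology (𝔛.X 0).carrier)).obj
      (ringSheaf (𝔛.Osh h)) :=
  (FSch.toSchemeMor 𝔛 h p hp).sharpR

/-- The adjunction of `𝔛 ⟶ Y`. -/
def sAdj : (FSch.toSchemeMor 𝔛 h p hp).pull ⊣ push (sφ h p hp) := (FSch.toSchemeMor 𝔛 h p hp).adj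

theorem prO_cm (n : ℕ) (U : Y.Opens) (a : O Y.sheaf U) :
    prO h n (pre (p 0).base U) (cm (sφ h p hp) U a) =
      ((p n).appLE U (𝔛.lvU h n (p 0 ⁻¹ᵁ U)) (FSch.lvU_p 𝔛 h p hp n U).ge) a :=
  congrArg (fun t => t.hom.app (op U) a) (FSch.schSharp_proj 𝔛 h p hp n)

theorem isAffineOpen_pre [∀ n, IsClosedImmersion (p n)] {U : Y.Opens} (hU : IsAffineOpen U) :
    IsAffineOpen (𝔛.lvU h 0 (pre (p 0).base U)) := by
  rw [K919.AffBasic.lvU_zero]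
  exact hU.preimage (p 0)

/-- Opens `p⁻¹ U` with `U` affine are cofinal. -/
theorem exists_affine [IsClosedImmersion (p 0)] (y : 𝔛.X 0) (U : Y.Opens) (V : (𝔛.X 0).Opens) (hyU : p 0 y ∈ U)
    (hyV : y ∈ V) : ∃ U' : Y.Opens, p 0 y ∈ U' ∧ U' ≤ U ∧ pre (p 0).base U' ≤ V ∧ IsAffineOpen U' := by
  obtain ⟨W, hW, e⟩ := (p 0).isClosedEmbedding.isInducing.isOpen_iff.1 V.2
  have hyW : p 0 y ∈ W := by
    change y ∈ (p 0) ⁻¹' W
    rw [e]
    exact hyV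
  obtain ⟨_, ⟨U', hU', rfl⟩, hyU', hle⟩ := Y.isBasis_affineOpens.exists_subset_of_mem_open
    (show p 0 y ∈ ((U ⊓ ⟨W, hW⟩ : Y.Opens) : Set Y) from ⟨hyU, hyW⟩) (U ⊓ ⟨W, hW⟩ : Y.Opens).2
  refine ⟨U', hyU', fun z hz => (hle hz).1, fun z hz => ?_, hU'⟩
  have : z ∈ (p 0) ⁻¹' W := (hle hz).2
  rw [e] at this
  exact this

section Noeth

variable (h𝔛 : 𝔛.IsLocNoethFormal) [IsLocallyNoetherian Y] [∀ n, IsClosedImmersion (p n)] (J : Y.IdealSheafData)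
  (hJ : ∀ n, (p n).ker = J ^ (n + 1)) {U : Y.Opens} (hU : IsAffineOpen U)

include hp in
theorem appLE_surjective (h : 𝔛.IsFormal) {U : Y.Opens} (hU : IsAffineOpen U) (n : ℕ) :
    Function.Surjective ((p n).appLE U (𝔛.lvU h n (p 0 ⁻¹ᵁ U)) (FSch.lvU_p 𝔛 h p hp n U).ge).hom :=
  K919.AffBasic.surjective_appLE_of_eq (p n) _ _ _ (FSch.lvU_p 𝔛 h p hp n U)
    (Scheme.Hom.app_surjective (p n) _ hU)

include hJ in
theorem ker_appLE (h : 𝔛.IsFormal) {U : Y.Opens} (hU : IsAffineOpen U) (n : ℕ) :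
    RingHom.ker ((p n).appLE U (𝔛.lvU h n (p 0 ⁻¹ᵁ U)) (FSch.lvU_p 𝔛 h p hp n U).ge).hom = J.ideal ⟨U, hU⟩ ^ (n + 1) := by
  rw [K919.AffBasic.ker_appLE_of_eq (p n) _ _ _ (FSch.lvU_p 𝔛 h p hp n U)]
  have e : RingHom.ker ((p n).app U).hom = (p n).ker.ideal ⟨U, hU⟩ := (Scheme.Hom.ker_apply (p n) ⟨U, hU⟩).symm
  rw [e, hJ]
  rfl

/-- `J(U)` as an ideal of `O Y.sheaf U`. -/
def JJ (J : Y.IdealSheafData) {U : Y.Opens} (hU : IsAffineOpen U) : Ideal (O Y.sheaf U) := J.ideal ⟨U, hU⟩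

include hJ in
theorem mem_JJ_pow (n : ℕ) (a : O Y.sheaf U) :
    a ∈ JJ J hU ^ (n + 1) ↔ prO h𝔛.1 n (pre (p 0).base U) (cm (sφ h𝔛.1 p hp) U a) = 0 := by
  rw [prO_cm]
  have e := ker_appLE p hp J hJ h𝔛.1 hU n
  exact (iff_of_eq (congrArg (fun I => a ∈ I) e)).symm

theorem exists_approx (n : ℕ) (b : O (𝔛.Osh h𝔛.1) (pre (p 0).base U)) (hU : IsAffineOpen U) :
    ∃ a : O Y.sheaf U, b - cm (sφ h𝔛.1 p hp) U a ∈ II h𝔛.1 (pre (p 0).base U) ^ (n + 1) := by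
  obtain ⟨a, ha⟩ := appLE_surjective p hp h𝔛.1 hU n (prO h𝔛.1 n (pre (p 0).base U) b)
  refine ⟨a, ?_⟩
  rw [mem_II_pow h𝔛 (isAffineOpen_pre h𝔛.1 p hU), map_sub, prO_cm, sub_eq_zero]
  exact ha.symm

theorem map_JJ_aux {A B : Type u} [CommRing A] [CommRing B] (ρ : A →+* B) (J : Ideal A) (I : Ideal B)
    (hIJ : I ≤ Ideal.jacobson ⊥) (hfg : I.FG) (h0 : ∀ a, a ∈ J ↔ ρ a ∈ I)
    (happ : ∀ b : B, ∃ a, b - ρ a ∈ I ^ 2) : J.map ρ = I := by
  refine K919.AlgFlat.map_eq_of_le_sup_sq _ _ hIJ hfg ?_ ?_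
  · rw [Ideal.map_le_iff_le_comap]
    exact fun a ha => (h0 a).1 ha
  · intro b hb
    obtain ⟨a, ha⟩ := happ b
    have h1 : ρ a ∈ I := by
      have : ρ a = b - (b - ρ a) := by ring
      rw [this]
      exact I.sub_mem hb (Ideal.pow_le_self two_ne_zero ha)
    have : b = ρ a + (b - ρ a) := by ring
    rw [this]
    exact Submodule.add_mem_sup (Ideal.mem_map_of_mem _ ((h0 a).2 h1)) ha

include hJ in
theorem map_JJ : (JJ J hU).map (cm (sφ h𝔛.1 p hp) U) = II h𝔛.1 (pre (p 0).base U) := by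
  have hc := isAdicComplete_II h𝔛 (isAffineOpen_pre h𝔛.1 p hU)
  have hN := isNoetherianRing_O h𝔛 (isAffineOpen_pre h𝔛.1 p hU)
  refine map_JJ_aux _ _ _ (IsAdicComplete.le_jacobson_bot _) (IsNoetherian.noetherian _) (fun a => ?_)
    fun b => exists_approx p hp h𝔛 1 b hU
  have h1 := mem_JJ_pow p hp h𝔛 J hJ hU 0 a
  rw [zero_add, pow_one] at h1
  exact h1

include hJ hU in
/-- `Γ(Y, U) → O_𝔛(p⁻¹ U)` is flat. -/
theorem flat_cm : (cm (sφ h𝔛.1 p hp) U).Flat := by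
  have h1 : IsNoetherianRing (O Y.sheaf U) := IsLocallyNoetherian.component_noetherian ⟨U, hU⟩
  have h2 := isNoetherianRing_O h𝔛 (isAffineOpen_pre h𝔛.1 p hU)
  have h3 : IsAdicComplete ((JJ J hU).map (cm (sφ h𝔛.1 p hp) U)) (O (𝔛.Osh h𝔛.1) (pre (p 0).base U)) := by
    rw [map_JJ p hp h𝔛 J hJ hU]
    exact isAdicComplete_II h𝔛 (isAffineOpen_pre h𝔛.1 p hU)
  refine K919.AlgFlat.flat_of_levels (cm (sφ h𝔛.1 p hp) U) (JJ J hU)
    (fun n => O (𝔛.X n).sheaf (𝔛.lvU h𝔛.1 n (pre (p 0).base U)))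
    (fun n => O (𝔛.X n).sheaf (𝔛.lvU h𝔛.1 n (pre (p 0).base U)))
    (fun n => ((p n).appLE U (𝔛.lvU h𝔛.1 n (p 0 ⁻¹ᵁ U)) (FSch.lvU_p 𝔛 h𝔛.1 p hp n U).ge).hom)
    (fun n => appLE_surjective p hp h𝔛.1 hU n) (fun n => ker_appLE p hp J hJ h𝔛.1 hU n)
    (fun n => prO h𝔛.1 n (pre (p 0).base U)) (fun n => prO_surjective h𝔛 (isAffineOpen_pre h𝔛.1 p hU) n)
    (fun n => ?_) (fun n => RingHom.id _) (fun n => ?_) fun n => RingHom.Flat.id _
  · rw [map_JJ p hp h𝔛 J hJ hU]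
    ext a
    exact (mem_II_pow h𝔛 (isAffineOpen_pre h𝔛.1 p hU) n a).symm
  · ext a
    exact (prO_cm h𝔛.1 p hp n U a).symm

include hJ in
/-- The stalk maps of `𝔛 ⟶ Y` are flat. -/
theorem flat_stR (y : 𝔛.X 0) : (stR (sφ h𝔛.1 p hp) y).Flat :=
  RFlat.flat_stR (sφ h𝔛.1 p hp) y (fun U => IsAffineOpen U) (fun U V hU hV => exists_affine p y U V hU hV)
    fun _ hU _ => flat_cm p hp h𝔛 J hJ hU

include hJ in
/-- The inverse image along `𝔛 ⟶ Y` is exact. -/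
theorem preservesFiniteLimits_pull : PreservesFiniteLimits (FSch.toSchemeMor 𝔛 h𝔛.1 p hp).pull :=
  RExact.preservesFiniteLimits_of_flat (sAdj h𝔛.1 p hp) (flat_stR p hp h𝔛 J hJ)

end Noeth

end K29.Cmpl
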