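import Groth.Agent.FCompl.K29.PullSys
import Groth.Agent.FCompl.K28.RealPres
import Groth.Agent.FCompl.K28.AdicSq
import Groth.Agent.Flat2C.Thick
import Groth.Agent.EGA4.K114.CplLift

/-!
# Direct images along adic finite morphisms of locally Noetherian formal schemes
-/

set_option autoImplicit false
set_option linter.style.haveILetI false
set_option linter.unusedSectionVars false
universe u

open CategoryTheory TopologicalSpace Opposite CategoryTheory.Limits AlgebraicGeometry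

noncomputable section

namespace K29.FinPush

open K28 (SBC)

section Alg

/-- Transitivity of base change: `M` a `C`-module, `D = C ⊗_A B`, `Q = M ⊗_C D`; then `Q = M ⊗_A B`. -/
theorem sbc_trans {A B C D M Q : Type u} [CommRing A] [CommRing B] [CommRing C] [CommRing D]
    [AddCommGroup M] [Module C M] [Module A M] [AddCommGroup Q] [Module D Q] [Module B Q]
    [Module A C] [Module B D] {ρ : A →+* B} {c : A →+* C} {τ : B →+* D} {σ : C →+* D}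
    (hAC : ∀ (a : A) (x : C), a • x = c a * x) (hBD : ∀ (b : B) (x : D), b • x = τ b * x)
    (hAM : ∀ (a : A) (m : M), a • m = c a • m) (hBQ : ∀ (b : B) (q : Q), b • q = τ b • q)
    (h : SBC ρ σ.toAddMonoidHom) {g : M →+ Q} (hg : SBC σ g) : SBC ρ g where
  smul a m := by
    rw [hAM, hg.smul, hBQ]
    congr 1
    have h1 : σ (a • (1 : C)) = ρ a • σ 1 := h.smul a 1
    rw [hAC, hBD, mul_one, map_one, mul_one] at h1
    exact h1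
  span := by
    rw [eq_top_iff]
    intro q _
    have h1 : ∀ (d : D) (m : M), d • g m ∈ Submodule.span B (Set.range g) := by
      intro d m
      induction d using h.induction with
      | zero => rw [zero_smul]; exact Submodule.zero_mem _
      | tmul x =>
        change σ x • g m ∈ _
        rw [← hg.smul]
        exact Submodule.subset_span ⟨_, rfl⟩
      | smul b d hd =>
        rw [hBD, mul_smul, ← hBQ]
        exact Submodule.smul_mem _ _ hd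
      | add d d' hd hd' => rw [add_smul]; exact Submodule.add_mem _ hd hd'
    have h2 : ∀ (d : D) (q : Q), q ∈ Submodule.span B (Set.range g) → d • q ∈ Submodule.span B (Set.range g) := by
      intro d q hq
      induction hq using Submodule.span_induction with
      | mem x hx => obtain ⟨m, rfl⟩ := hx; exact h1 d m
      | zero => rw [smul_zero]; exact Submodule.zero_mem _
      | add x y _ _ hx hy => rw [smul_add]; exact Submodule.add_mem _ hx hy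
      | smul b x _ hx => rw [hBQ, smul_comm, ← hBQ]; exact Submodule.smul_mem _ _ hx
    induction q using hg.induction with
    | zero => exact Submodule.zero_mem _
    | tmul m => exact Submodule.subset_span ⟨m, rfl⟩
    | smul d q hq => exact h2 d q (hq trivial)
    | add q q' hq hq' => exact Submodule.add_mem _ (hq trivial) (hq' trivial)
  lift P _ _ k hk := by
    have h1 : ∀ m : M, ∃ l : D →ₗ[B] P, ∀ x : C, l (σ x) = k (x • m) := by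
      intro m
      exact h.lift P
        { toFun := fun x => k (x • m)
          map_zero' := by rw [zero_smul, map_zero]
          map_add' := fun x y => by rw [add_smul, map_add] }
        (fun a x => by
          change k ((a • x) • m) = ρ a • k (x • m)
          rw [hAC, mul_smul, ← hAM, hk])
    choose l hl using h1
    let mul' : D → (D →ₗ[B] D) := fun d =>
      { toFun := fun x => d * x
        map_add' := mul_add d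
        map_smul' := fun b x => by
          rw [RingHom.id_apply, hBD, hBD]
          exact mul_left_comm _ _ _ }
    letI iS : SMul D (D →ₗ[B] P) := ⟨fun d f => f.comp (mul' d)⟩
    have hs : ∀ (d : D) (f : D →ₗ[B] P) (x : D), (d • f) x = f (d * x) := fun _ _ _ => rfl
    letI iM : Module D (D →ₗ[B] P) :=
      { toSMul := iS
        one_smul := fun f => LinearMap.ext fun x => by rw [hs, one_mul]
        mul_smul := fun d e f => LinearMap.ext fun x => by rw [hs, hs, hs, mul_comm d e, mul_assoc]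
        smul_zero := fun d => rfl
        smul_add := fun d f f' => rfl
        add_smul := fun d e f => LinearMap.ext fun x => by
          change f ((d + e) * x) = f (d * x) + f (e * x)
          rw [add_mul, map_add]
        zero_smul := fun f => LinearMap.ext fun x => by
          change f (0 * x) = 0
          rw [zero_mul, map_zero] }
    have hext : ∀ f f' : D →ₗ[B] P, (∀ x : C, f (σ x) = f' (σ x)) → f = f' := fun f f' hf => h.hom_ext hf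
    obtain ⟨L, hL⟩ := hg.lift (D →ₗ[B] P)
      { toFun := l
        map_zero' := hext _ _ fun x => by
          rw [hl, smul_zero, map_zero]
          rfl
        map_add' := fun m m' => hext _ _ fun x => by
          rw [hl, smul_add, map_add, LinearMap.add_apply, hl, hl] }
      (fun x m => hext _ _ fun y => by
        change l (x • m) (σ y) = l m (σ x * σ y)
        rw [hl, ← map_mul, hl, mul_comm, mul_smul])
    refine ⟨{ toFun := fun q => L q 1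
              map_add' := fun q q' => by rw [map_add, LinearMap.add_apply]
              map_smul' := fun b q => ?_ }, fun m => ?_⟩
    · rw [hBQ, map_smul, hs, mul_one, RingHom.id_apply, ← map_smul, hBD, mul_one]
    · change L (g m) 1 = k m
      rw [hL]
      change l m 1 = k m
      have := hl m 1
      rwa [map_one, one_smul] at this

/-- A pushout square of commutative rings is a base change. -/
theorem sbc_of_isPushout {A B C D : CommRingCat.{u}} {ρ : A ⟶ B} {c : A ⟶ C} {τ : B ⟶ D} {σ : C ⟶ D}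
    (h : IsPushout ρ c τ σ) [i1 : Module A C] [i2 : Module B D] (hAC : ∀ (a : A) (x : C), a • x = c a * x)
    (hBD : ∀ (b : B) (x : D), b • x = τ b * x) : SBC ρ.hom σ.hom.toAddMonoidHom := by
  letI : Algebra A B := ρ.hom.toAlgebra
  letI j1 : Algebra A C := c.hom.toAlgebra
  letI j2 : Algebra B D := τ.hom.toAlgebra
  letI : Algebra C D := σ.hom.toAlgebra
  letI : Algebra A D := (τ.hom.comp ρ.hom).toAlgebra
  haveI : IsScalarTower A B D := IsScalarTower.of_algebraMap_eq fun _ => rfl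
  haveI : IsScalarTower A C D := IsScalarTower.of_algebraMap_eq fun x => congr($(h.w) x)
  have h1 : Algebra.IsPushout A B C D := CommRingCat.isPushout_iff_isPushout.1 h
  have e1 : i1 = j1.toModule := Module.ext' _ _ fun a x => hAC a x
  have e2 : i2 = j2.toModule := Module.ext' _ _ fun a x => hBD a x
  subst e1 e2
  exact SBC.of_isBaseChange h1.1

/-- Base change of sections of the structure sheaves over affine opens of a cartesian square. -/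
theorem sbc_of_isPullback {X Y S T : Scheme.{u}} {f : T ⟶ S} {g : Y ⟶ X} {iX : X ⟶ S} {iY : Y ⟶ T}
    (H : IsPullback g iY iX f) {US : S.Opens} {UT : T.Opens} {UX : X.Opens} (hUST : UT ≤ f ⁻¹ᵁ US)
    (hUSX : UX ≤ iX ⁻¹ᵁ US) {UY : Y.Opens} (hUY : UY = g ⁻¹ᵁ UX ⊓ iY ⁻¹ᵁ UT)
    (hUS : IsAffineOpen US) (hUT : IsAffineOpen UT) (hUX : IsAffineOpen UX)
    (h1 : UY ≤ g ⁻¹ᵁ UX) (h2 : UY ≤ iY ⁻¹ᵁ UT)
    [Module Γ(S, US) Γ(X, UX)] [Module Γ(T, UT) Γ(Y, UY)]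
    (hAC : ∀ (a : Γ(S, US)) (x : Γ(X, UX)), a • x = iX.appLE US UX hUSX a * x)
    (hBD : ∀ (b : Γ(T, UT)) (x : Γ(Y, UY)), b • x = iY.appLE UT UY h2 b * x) :
    SBC (f.appLE US UT hUST).hom (g.appLE UX UY h1).hom.toAddMonoidHom := by
  have := isIso_pushoutSection_of_isAffineOpen H hUST hUSX hUY hUS hUT hUX
  exact sbc_of_isPushout ((isIso_pushoutSection_iff H hUST hUSX hUY).mp this).flip hAC hBD

/-- Base change of algebras along `ρ`, in terms of the ring homomorphisms. -/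
def RB {A B C D : Type u} [CommRing A] [CommRing B] [CommRing C] [CommRing D] (ρ : A →+* B) (c : A →+* C)
    (τ : B →+* D) (σ : C →+* D) : Prop :=
  @SBC A B _ _ ρ C D _ (Module.compHom C c) _ (Module.compHom D τ) σ.toAddMonoidHom

theorem RB.comm {A B C D : Type u} [CommRing A] [CommRing B] [CommRing C] [CommRing D] {ρ : A →+* B} {c : A →+* C}
    {τ : B →+* D} {σ : C →+* D} (h : RB ρ c τ σ) (a : A) : σ (c a) = τ (ρ a) := by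
  letI := Module.compHom C c
  letI := Module.compHom D τ
  have h1 : σ (c a * 1) = τ (ρ a) * σ 1 := SBC.smul h a (1 : C)
  rwa [mul_one, map_one, mul_one] at h1

theorem RB.comp {A B C D E F : Type u} [CommRing A] [CommRing B] [CommRing C] [CommRing D] [CommRing E] [CommRing F]
    {ρ : A →+* B} {c : A →+* C} {τ : B →+* D} {σ : C →+* D} {ρ' : B →+* E} {κ : E →+* F} {σ' : D →+* F}
    (h : RB ρ c τ σ) (h' : RB ρ' τ κ σ') : RB (ρ'.comp ρ) c κ (σ'.comp σ) := by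
  letI := Module.compHom C c
  letI := Module.compHom D τ
  letI := Module.compHom F κ
  exact SBC.comp h h'

theorem RB.trans {A B C D M Q : Type u} [CommRing A] [CommRing B] [CommRing C] [CommRing D]
    [AddCommGroup M] [Module C M] [Module A M] [AddCommGroup Q] [Module D Q] [Module B Q]
    {ρ : A →+* B} {c : A →+* C} {τ : B →+* D} {σ : C →+* D} (h : RB ρ c τ σ)
    (hAM : ∀ (a : A) (m : M), a • m = c a • m) (hBQ : ∀ (b : B) (q : Q), b • q = τ b • q)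
    {g : M →+ Q} (hg : SBC σ g) : SBC ρ g := by
  letI := Module.compHom C c
  letI := Module.compHom D τ
  exact sbc_trans (fun _ _ => rfl) (fun _ _ => rfl) hAM hBQ h hg

theorem mem_smul_top_of_mem_map {A C : Type u} [CommRing A] [CommRing C] (c : A →+* C) (I : Ideal A) {x : C}
    (hx : x ∈ I.map c) :
    letI := Module.compHom C c
    x ∈ I • (⊤ : Submodule A C) := by
  letI := c.toAlgebra
  have h : x ∈ (I.map (algebraMap A C)).restrictScalars A := hx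
  rw [← Ideal.smul_top_eq_map] at h
  exact h

theorem RB.of_surjective {A B C D : Type u} [CommRing A] [CommRing B] [CommRing C] [CommRing D] {ρ : A →+* B}
    {c : A →+* C} {τ : B →+* D} {σ : C →+* D} (hc : ∀ a, σ (c a) = τ (ρ a)) (hρ : Function.Surjective ρ)
    (hσ : Function.Surjective σ) (hker : RingHom.ker σ ≤ (RingHom.ker ρ).map c) : RB ρ c τ σ := by
  letI := Module.compHom C c
  letI := Module.compHom D τ
  refine SBC.of_surjective (fun a m => ?_) hρ hσ fun m hm => ?_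
  · change σ (c a * m) = τ (ρ a) * σ m
    rw [map_mul, hc]
  · exact mem_smul_top_of_mem_map c _ (hker hm)

/-- Finiteness over a complete ring. -/
theorem finite_of_level {A C A0 C0 : Type u} [CommRing A] [CommRing C] [CommRing A0] [CommRing C0] (c : A →+* C)
    (I : Ideal A) [IsPrecomplete I A] (hH : IsHausdorff (I.map c) C) (a0 : A →+* A0) (p0 : C →+* C0)
    (ha0 : Function.Surjective a0) (hp0 : Function.Surjective p0) (c0 : A0 →+* C0)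
    (hcomm : ∀ a, p0 (c a) = c0 (a0 a)) (hker : RingHom.ker p0 = I.map c) (hfin : c0.Finite) : c.Finite := by
  letI := c.toAlgebra
  haveI : IsHausdorff (I.map (algebraMap A C)) C := hH
  refine K114.CplLift.finite_of_finite_quotient I ?_
  let e : C0 →+* C ⧸ I.map c := RingHom.liftOfSurjective p0 hp0
    ⟨Ideal.Quotient.mk (I.map c), by rw [Ideal.mk_ker]; exact hker.le⟩
  have he : ∀ x, e (p0 x) = Ideal.Quotient.mk (I.map c) x := fun x =>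
    RingHom.liftOfRightInverse_comp_apply _ _ _ _ _
  have hes : Function.Surjective e := fun y => by
    obtain ⟨x, rfl⟩ := Ideal.Quotient.mk_surjective y
    exact ⟨p0 x, he x⟩
  have h1 : (e.comp (c0.comp a0)).Finite :=
    (RingHom.Finite.of_surjective e hes).comp (hfin.comp (RingHom.Finite.of_surjective a0 ha0))
  have h2 : e.comp (c0.comp a0) = (Ideal.Quotient.mk (I.map c)).comp c := RingHom.ext fun a => by
    change e (c0 (a0 a)) = Ideal.Quotient.mk (I.map c) (c a)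
    rw [← hcomm, he]
  rw [h2] at h1
  exact h1

/-- Base change from base change on all levels. -/
theorem RB.of_levels {A B C D : Type u} [CommRing A] [CommRing B] [CommRing C] [CommRing D] {ρ : A →+* B}
    {c : A →+* C} {τ : B →+* D} {σ : C →+* D} (hcomm : ∀ a, σ (c a) = τ (ρ a)) (J : Ideal B) [IsNoetherianRing B]
    [IsAdicComplete J B] (hc : c.Finite) (hτ : τ.Finite) {Bn Dn : ℕ → Type u} [∀ n, CommRing (Bn n)]
    [∀ n, CommRing (Dn n)] (b : ∀ n, B →+* Bn n) (d : ∀ n, D →+* Dn n) (τn : ∀ n, Bn n →+* Dn n)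
    (hbd : ∀ n x, d n (τ x) = τn n (b n x)) (hb : ∀ n, Function.Surjective (b n))
    (hk : ∀ n, RingHom.ker (b n) ≤ J ^ (n + 1)) (hd0 : RingHom.ker (d 0) ≤ J.map τ)
    (hbc : ∀ n, RB ((b n).comp ρ) c (τn n) ((d n).comp σ)) : RB ρ c τ σ := by
  letI i1 := Module.compHom C c
  letI i2 := Module.compHom D τ
  letI i3 : ∀ n, Module (Bn n) (Dn n) := fun n => Module.compHom (Dn n) (τn n)
  haveI i4 : Module.Finite A C := by
    have h : @Module.Finite A C _ _ c.toAlgebra.toModule := hc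
    exact h
  haveI i5 : Module.Finite B D := by
    have h : @Module.Finite B D _ _ τ.toAlgebra.toModule := hτ
    exact h
  refine SBC.of_levels (fun a m => ?_) J b hb hk (fun n => (d n).toAddMonoidHom) (fun n x y => ?_) (fun x hx => ?_)
    fun n => hbc n
  · change σ (c a * m) = τ (ρ a) * σ m
    rw [map_mul, hcomm]
  · change d n (τ x * y) = τn n (b n x) * d n y
    rw [map_mul, hbd]
  · exact mem_smul_top_of_mem_map τ J (hd0 hx)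

theorem RB.of_isPullback {X Y S T : Scheme.{u}} {f : T ⟶ S} {g : Y ⟶ X} {iX : X ⟶ S} {iY : Y ⟶ T}
    (H : IsPullback g iY iX f) {US : S.Opens} {UT : T.Opens} {UX : X.Opens} (hUST : UT ≤ f ⁻¹ᵁ US)
    (hUSX : UX ≤ iX ⁻¹ᵁ US) {UY : Y.Opens} (hUY : UY = g ⁻¹ᵁ UX ⊓ iY ⁻¹ᵁ UT)
    (hUS : IsAffineOpen US) (hUT : IsAffineOpen UT) (hUX : IsAffineOpen UX)
    (h1 : UY ≤ g ⁻¹ᵁ UX) (h2 : UY ≤ iY ⁻¹ᵁ UT) :
    RB (f.appLE US UT hUST).hom (iX.appLE US UX hUSX).hom (iY.appLE UT UY h2).hom (g.appLE UX UY h1).hom := by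
  letI := Module.compHom Γ(X, UX) (iX.appLE US UX hUSX).hom
  letI := Module.compHom Γ(Y, UY) (iY.appLE UT UY h2).hom
  exact sbc_of_isPullback H hUST hUSX hUY hUS hUT hUX h1 h2 (fun _ _ => rfl) (fun _ _ => rfl)

end Alg

section Formal

open K29.RSec K29.RStalk K29.RPull K29.RPres K29.Fml K29.FmlPull K29.PullSys
open K28.RealSec (pk tk)
open K28.RealAff (IS)

variable {𝔛 𝔖 : FSch.Sys.{u}} (f : 𝔛 ⟶ 𝔖) (h𝔛 : 𝔛.IsLocNoethFormal) (h𝔖 : 𝔖.IsLocNoethFormal)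

/-- The map of sections on the levels. -/
def cl (n : ℕ) {W : (𝔖.X 0).Opens} {U : (𝔛.X 0).Opens} (hUW : U ≤ (fl f 0) ⁻¹ᵁ W) :
    Γ(𝔖.X n, 𝔖.lvU h𝔖.1 n W) →+* Γ(𝔛.X n, 𝔛.lvU h𝔛.1 n U) :=
  ((fl f n).appLE _ _ (le_fl f h𝔛.1 h𝔖.1 n hUW)).hom

theorem pk_cm' (n : ℕ) {W : (𝔖.X 0).Opens} {U : (𝔛.X 0).Opens} (hUW : U ≤ pre (fl f 0).base W)
    (a : O (𝔖.Osh h𝔖.1) W) :
    pk 𝔛 h𝔛.1 n U (resO hUW (cm (fφ' f h𝔛.1 h𝔖.1) W a)) = cl f h𝔛 h𝔖 n hUW (pk 𝔖 h𝔖.1 n W a) := by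
  rw [K28.RealSec.pk_res, pk_cm]
  exact congr($((fl f n).appLE_map (le_fl f h𝔛.1 h𝔖.1 n le_rfl)
    (homOfLE (K28.RealSec.lvU_mono 𝔛 h𝔛.1 n hUW)).op) _)

theorem affine_pre [IsAffineHom (fl f 0)] {W : (𝔖.X 0).Opens} (hW : IsAffineOpen (𝔖.lvU h𝔖.1 0 W)) :
    IsAffineOpen (𝔛.lvU h𝔛.1 0 (pre (fl f 0).base W)) := by
  rw [K919.AffBasic.lvU_zero] at hW ⊢
  exact hW.preimage (fl f 0)

variable {f} (hf : FSch.IsAdicHom f)

include hf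

/-- The ideal of definition upstairs is generated by the one downstairs. -/
theorem IS_pre [IsAffineHom (fl f 0)] {W : (𝔖.X 0).Opens} (hW : IsAffineOpen (𝔖.lvU h𝔖.1 0 W)) :
    IS 𝔛 h𝔛.1 (pre (fl f 0).base W) = (IS 𝔖 h𝔖.1 W).map (cm (fφ' f h𝔛.1 h𝔖.1) W) := by
  have hU := affine_pre f h𝔛 h𝔖 hW
  have i1 := K28.RealAff.isAdicComplete_O h𝔛 hU
  have i2 := (h𝔖.1 0).1
  apply le_antisymm
  · refine Submodule.le_of_le_smul_of_le_jacobson_bot (I := IS 𝔛 h𝔛.1 (pre (fl f 0).base W))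
      (K28.RealAff.fg_IS h𝔛 hU) (IsAdicComplete.le_jacobson_bot _) fun x hx => ?_
    have h1 := (Groth.Agent.Flat2C.Thick.surjective_app_and_ker_app (hf 0)
      (K919.AffBasic.isAffineOpen_lvU 𝔖 h𝔖.1 hW 1) (K919.AffBasic.isAffineOpen_lvU 𝔛 h𝔛.1 hU 1)
      (le_fl f h𝔛.1 h𝔖.1 1 le_rfl)).2
    have h2 : pk 𝔛 h𝔛.1 1 (pre (fl f 0).base W) x ∈ RingHom.ker ((𝔛.ι 0).app (𝔛.lvU h𝔛.1 1 (pre (fl f 0).base W))).hom := by
      rw [← K919.AffBasic.ker_appLE_of_eq (𝔛.ι 0) _ _ (𝔛.lvU_le h𝔛.1 0 _) (𝔛.lvU_succ h𝔛.1 0 _), RingHom.mem_ker]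
      exact (K28.RealSec.tk_pk 𝔛 h𝔛.1 0 _ x).trans hx
    rw [h1] at h2
    have h3 : RingHom.ker ((𝔖.ι 0).app (𝔖.lvU h𝔖.1 1 W)).hom ≤ (IS 𝔖 h𝔖.1 W).map (pk 𝔖 h𝔖.1 1 W) := by
      intro y hy
      obtain ⟨a, rfl⟩ := K28.RealAff.pk_surjective h𝔖 hW 1 y
      refine Ideal.mem_map_of_mem _ ?_
      rw [← K919.AffBasic.ker_appLE_of_eq (𝔖.ι 0) _ _ (𝔖.lvU_le h𝔖.1 0 _) (𝔖.lvU_succ h𝔖.1 0 _)] at hy
      exact (K28.RealSec.tk_pk 𝔖 h𝔖.1 0 _ a).symm.trans hy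
    have h4 := Ideal.map_mono (f := (cl f h𝔛 h𝔖 1 (U := pre (fl f 0).base W) le_rfl)) h3 h2
    have h5 : ((cl f h𝔛 h𝔖 1 (U := pre (fl f 0).base W) le_rfl)).comp (pk 𝔖 h𝔖.1 1 W) =
        (pk 𝔛 h𝔛.1 1 (pre (fl f 0).base W)).comp (cm (fφ' f h𝔛.1 h𝔖.1) W) :=
      RingHom.ext fun a => (pk_cm f h𝔛.1 h𝔖.1 1 W a).symm
    rw [Ideal.map_map, h5, ← Ideal.map_map,
      Ideal.mem_map_iff_of_surjective _ (K28.RealAff.pk_surjective h𝔛 hU 1)] at h4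
    obtain ⟨k, hk, hkx⟩ := h4
    have h6 : x - k ∈ IS 𝔛 h𝔛.1 (pre (fl f 0).base W) ^ (1 + 1) := by
      rw [← K28.RealAff.ker_pk h𝔛 hU 1, RingHom.mem_ker, map_sub, hkx, sub_self]
    rw [pow_succ, pow_one] at h6
    have h7 := Submodule.add_mem_sup hk h6
    rwa [add_sub_cancel] at h7
  · rw [Ideal.map_le_iff_le_comap]
    intro a ha
    change pk 𝔛 h𝔛.1 0 _ (cm (fφ' f h𝔛.1 h𝔖.1) W a) = 0
    rw [pk_cm]
    have : pk 𝔖 h𝔖.1 0 W a = 0 := ha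
    rw [this, map_zero]

theorem cm_finite [IsFinite (fl f 0)] {W : (𝔖.X 0).Opens} (hW : IsAffineOpen (𝔖.lvU h𝔖.1 0 W)) :
    (cm (fφ' f h𝔛.1 h𝔖.1) W).Finite := by
  have hU := affine_pre f h𝔛 h𝔖 hW
  have i1 := K28.RealAff.isAdicComplete_O h𝔛 hU
  have i2 := K28.RealAff.isAdicComplete_O h𝔖 hW
  have e1 := IS_pre h𝔛 h𝔖 hf hW
  refine finite_of_level (cm (fφ' f h𝔛.1 h𝔖.1) W) (IS 𝔖 h𝔖.1 W) (by rw [← e1]; infer_instance)
    (pk 𝔖 h𝔖.1 0 W) (pk 𝔛 h𝔛.1 0 (pre (fl f 0).base W)) (K28.RealAff.pk_surjective h𝔖 hW 0)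
    (K28.RealAff.pk_surjective h𝔛 hU 0) (cl f h𝔛 h𝔖 0 le_rfl) (pk_cm f h𝔛.1 h𝔖.1 0 W) e1 ?_
  have h1 : ((fl f 0).app (𝔖.lvU h𝔖.1 0 W)).hom.Finite := IsFinite.finite_app (fl f 0) _ hW
  have h2 : ∀ (V : (𝔛.X 0).Opens) (e : V = (fl f 0) ⁻¹ᵁ (𝔖.lvU h𝔖.1 0 W)),
      ((fl f 0).appLE (𝔖.lvU h𝔖.1 0 W) V e.le).hom.Finite := by
    intro V e
    subst e
    rw [Scheme.Hom.appLE_eq_app]
    exact h1
  exact h2 _ (FSch.Hom.lvU_preimage f h𝔛.1 h𝔖.1 0 W).symm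

theorem rb_lvl [IsAffineHom (fl f 0)] {W : (𝔖.X 0).Opens} (hW : IsAffineOpen (𝔖.lvU h𝔖.1 0 W)) (n : ℕ) :
    RB (pk 𝔖 h𝔖.1 n W) (cm (fφ' f h𝔛.1 h𝔖.1) W) (cl f h𝔛 h𝔖 n (U := pre (fl f 0).base W) le_rfl)
      (pk 𝔛 h𝔛.1 n (pre (fl f 0).base W)) := by
  have hU := affine_pre f h𝔛 h𝔖 hW
  refine RB.of_surjective (pk_cm f h𝔛.1 h𝔖.1 n W) (K28.RealAff.pk_surjective h𝔖 hW n)
    (K28.RealAff.pk_surjective h𝔛 hU n) ?_
  rw [K28.RealAff.ker_pk h𝔛 hU n, K28.RealAff.ker_pk h𝔖 hW n, IS_pre h𝔛 h𝔖 hf hW, Ideal.map_pow]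

omit hf in
theorem appLE_id {X : Scheme.{u}} {U V : X.Opens} (h : V ≤ U) :
    (𝟙 X : X ⟶ X).appLE U V h = X.presheaf.map (homOfLE h).op := by
  rw [Scheme.Hom.appLE, Scheme.Hom.id_app]
  exact Category.id_comp _

theorem rb_res [IsFinite (fl f 0)] {W W' : (𝔖.X 0).Opens} (hW : IsAffineOpen (𝔖.lvU h𝔖.1 0 W))
    (hW' : IsAffineOpen (𝔖.lvU h𝔖.1 0 W')) (h : W' ≤ W) :
    RB (resO (R := 𝔖.Osh h𝔖.1) h) (cm (fφ' f h𝔛.1 h𝔖.1) W) (cm (fφ' f h𝔛.1 h𝔖.1) W')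
      (resO (R := 𝔛.Osh h𝔛.1) (pre_mono (fl f 0).base h)) := by
  have i1 := K28.RealAff.isNoetherianRing_O h𝔖 hW'
  have i2 := K28.RealAff.isAdicComplete_O h𝔖 hW'
  refine RB.of_levels (fun a => (cm_resO (fφ' f h𝔛.1 h𝔖.1) h a).symm) (IS 𝔖 h𝔖.1 W') (cm_finite h𝔛 h𝔖 hf hW)
    (cm_finite h𝔛 h𝔖 hf hW') (fun n => pk 𝔖 h𝔖.1 n W') (fun n => pk 𝔛 h𝔛.1 n (pre (fl f 0).base W'))
    (fun n => cl f h𝔛 h𝔖 n le_rfl) (fun n => pk_cm f h𝔛.1 h𝔖.1 n W') (K28.RealAff.pk_surjective h𝔖 hW')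
    (fun n => (K28.RealAff.ker_pk h𝔖 hW' n).le) (IS_pre h𝔛 h𝔖 hf hW').le fun n => ?_
  have h1 := rb_lvl h𝔛 h𝔖 hf hW n
  have H : IsPullback (𝟙 (𝔛.X n)) (fl f n) (fl f n) (𝟙 (𝔖.X n)) := IsPullback.of_horiz_isIso ⟨by simp⟩
  have h2 := RB.of_isPullback H (US := 𝔖.lvU h𝔖.1 n W) (UT := 𝔖.lvU h𝔖.1 n W')
    (UX := 𝔛.lvU h𝔛.1 n (pre (fl f 0).base W)) (K28.RealSec.lvU_mono 𝔖 h𝔖.1 n h)
    (le_fl f h𝔛.1 h𝔖.1 n le_rfl) (UY := 𝔛.lvU h𝔛.1 n (pre (fl f 0).base W')) (by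
      have e : (fl f n) ⁻¹ᵁ (𝔖.lvU h𝔖.1 n W') = 𝔛.lvU h𝔛.1 n (pre (fl f 0).base W') :=
        FSch.Hom.lvU_preimage f h𝔛.1 h𝔖.1 n W'
      rw [e]
      exact (inf_eq_right.2 (K28.RealSec.lvU_mono 𝔛 h𝔛.1 n (pre_mono (fl f 0).base h))).symm)
    (K919.AffBasic.isAffineOpen_lvU 𝔖 h𝔖.1 hW n) (K919.AffBasic.isAffineOpen_lvU 𝔖 h𝔖.1 hW' n)
    (K919.AffBasic.isAffineOpen_lvU 𝔛 h𝔛.1 (affine_pre f h𝔛 h𝔖 hW) n)
    (K28.RealSec.lvU_mono 𝔛 h𝔛.1 n (pre_mono (fl f 0).base h)) (le_fl f h𝔛.1 h𝔖.1 n le_rfl)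
  have h3 := h1.comp h2
  rw [appLE_id, appLE_id] at h3
  have e1 : ((𝔖.X n).presheaf.map (homOfLE (K28.RealSec.lvU_mono 𝔖 h𝔖.1 n h)).op).hom.comp (pk 𝔖 h𝔖.1 n W) =
      (pk 𝔖 h𝔖.1 n W').comp (resO h) := RingHom.ext fun a => (K28.RealSec.pk_res 𝔖 h𝔖.1 n h a).symm
  have e2 : ((𝔛.X n).presheaf.map (homOfLE (K28.RealSec.lvU_mono 𝔛 h𝔛.1 n (pre_mono (fl f 0).base h))).op).hom.comp
      (pk 𝔛 h𝔛.1 n (pre (fl f 0).base W)) =
      (pk 𝔛 h𝔛.1 n (pre (fl f 0).base W')).comp (resO (pre_mono (fl f 0).base h)) :=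
    RingHom.ext fun a => (K28.RealSec.pk_res 𝔛 h𝔛.1 n (pre_mono (fl f 0).base h) a).symm
  rw [e1, e2] at h3
  exact h3

omit hf in
theorem sbc_res_coh {𝔉 : FSch.ModF 𝔛 h𝔛.1} (h𝔉 : FSch.IsCohF 𝔛 h𝔛.1 𝔉) {U V : (𝔛.X 0).Opens}
    (hU : IsAffineOpen (𝔛.lvU h𝔛.1 0 U)) (hV : IsAffineOpen (𝔛.lvU h𝔛.1 0 V)) (hVU : V ≤ U) :
    SBC (resO (R := 𝔛.Osh h𝔛.1) hVU) (res 𝔉 hVU) :=
  SBC.of_isBaseChange' (res_smul 𝔉 hVU) (isBaseChange_res h𝔛 h𝔉 hU hV hVU)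

theorem finite_push [IsFinite (fl f 0)] {𝔉 : FSch.ModF 𝔛 h𝔛.1} (h𝔉 : FSch.IsCohF 𝔛 h𝔛.1 𝔉)
    {W : (𝔖.X 0).Opens} (hW : IsAffineOpen (𝔖.lvU h𝔖.1 0 W)) :
    Module.Finite (O (𝔖.Osh h𝔖.1) W) (Sec ((FSch.pushF f h𝔛.1 h𝔖.1).obj 𝔉) W) := by
  letI i2 : Module (O (𝔛.Osh h𝔛.1) (pre (fl f 0).base W)) (Sec ((FSch.pushF f h𝔛.1 h𝔖.1).obj 𝔉) W) :=
    inferInstanceAs (Module (O (𝔛.Osh h𝔛.1) (pre (fl f 0).base W)) (Sec 𝔉 (pre (fl f 0).base W)))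
  letI i3 := (cm (fφ' f h𝔛.1 h𝔖.1) W).toAlgebra
  have i4 : Module.Finite (O (𝔖.Osh h𝔖.1) W) (O (𝔛.Osh h𝔛.1) (pre (fl f 0).base W)) := cm_finite h𝔛 h𝔖 hf hW
  have i5 : IsScalarTower (O (𝔖.Osh h𝔖.1) W) (O (𝔛.Osh h𝔛.1) (pre (fl f 0).base W))
      (Sec ((FSch.pushF f h𝔛.1 h𝔖.1).obj 𝔉) W) := ⟨fun a c m => by
    rw [Algebra.smul_def, mul_smul]
    rfl⟩
  have i1 : Module.Finite (O (𝔛.Osh h𝔛.1) (pre (fl f 0).base W)) (Sec ((FSch.pushF f h𝔛.1 h𝔖.1).obj 𝔉) W) :=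
    (Fml.main h𝔛 h𝔉 (affine_pre f h𝔛 h𝔖 hW)).2.2
  exact Module.Finite.trans (O (𝔛.Osh h𝔛.1) (pre (fl f 0).base W)) _

theorem cart_push [IsFinite (fl f 0)] {𝔉 : FSch.ModF 𝔛 h𝔛.1} (h𝔉 : FSch.IsCohF 𝔛 h𝔛.1 𝔉)
    {W W' : (𝔖.X 0).Opens} (hW : IsAffineOpen (𝔖.lvU h𝔖.1 0 W))
    (hW' : IsAffineOpen (𝔖.lvU h𝔖.1 0 W')) (h : W' ≤ W) :
    SBC (resO (R := 𝔖.Osh h𝔖.1) h) (res ((FSch.pushF f h𝔛.1 h𝔖.1).obj 𝔉) h) := by
  letI i1 : Module (O (𝔛.Osh h𝔛.1) (pre (fl f 0).base W)) (Sec ((FSch.pushF f h𝔛.1 h𝔖.1).obj 𝔉) W) :=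
    inferInstanceAs (Module (O (𝔛.Osh h𝔛.1) (pre (fl f 0).base W)) (Sec 𝔉 (pre (fl f 0).base W)))
  letI i2 : Module (O (𝔛.Osh h𝔛.1) (pre (fl f 0).base W')) (Sec ((FSch.pushF f h𝔛.1 h𝔖.1).obj 𝔉) W') :=
    inferInstanceAs (Module (O (𝔛.Osh h𝔛.1) (pre (fl f 0).base W')) (Sec 𝔉 (pre (fl f 0).base W')))
  exact RB.trans (rb_res h𝔛 h𝔖 hf hW hW' h) (fun _ _ => rfl) (fun _ _ => rfl)
    (sbc_res_coh h𝔛 h𝔉 (affine_pre f h𝔛 h𝔖 hW) (affine_pre f h𝔛 h𝔖 hW') (pre_mono (fl f 0).base h))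

/-- Direct images of coherent modules along adic finite morphisms are coherent. -/
theorem isCohF_push [IsFinite (fl f 0)] {𝔉 : FSch.ModF 𝔛 h𝔛.1} (h𝔉 : FSch.IsCohF 𝔛 h𝔛.1 𝔉) :
    FSch.IsCohF 𝔖 h𝔖.1 ((FSch.pushF f h𝔛.1 h𝔖.1).obj 𝔉) :=
  K28.RealPres.isFinitePresentation_of_basis (K28.RealLevel.basis_aff 𝔖 h𝔖.1)
    (fun _ hU => K28.RealAff.isNoetherianRing_O h𝔖 hU)
    (fun _ hU => finite_push h𝔛 h𝔖 hf h𝔉 hU) fun _ hU _ hV hVU => cart_push h𝔛 h𝔖 hf h𝔉 hU hV hVU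

end Formal

section Square

open K29.RSec K29.RStalk K29.RPull K29.RPres K29.Fml K29.FmlPull K29.PullSys
open K28.RealSec (pk tk)
open K28.RealAff (IS)

variable {ℨ 𝔛 𝔜 𝔖 : FSch.Sys.{u}} (p : ℨ ⟶ 𝔛) (f : 𝔛 ⟶ 𝔖) (q : ℨ ⟶ 𝔜) (g : 𝔜 ⟶ 𝔖)
  (hℨ : ℨ.IsLocNoethFormal) (h𝔛 : 𝔛.IsLocNoethFormal) (h𝔜 : 𝔜.IsLocNoethFormal) (h𝔖 : 𝔖.IsLocNoethFormal)
  (H : ∀ n, IsPullback (fl p n) (fl q n) (fl f n) (fl g n)) (hf : FSch.IsAdicHom f)

include H hf in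
theorem isAdicHom_snd : FSch.IsAdicHom q := fun n => by
  have h1 := (H n).paste_horiz (hf n)
  refine IsPullback.of_right (h₁₂ := fl p (n + 1)) (h₂₂ := fl g (n + 1)) (v₁₃ := fl f (n + 1)) ?_
    ((q : FSch.Hom ℨ 𝔜).comm n).symm (H (n + 1))
  have e1 : ℨ.ι n ≫ fl p (n + 1) = fl p n ≫ 𝔛.ι n := ((p : FSch.Hom ℨ 𝔛).comm n).symm
  have e2 : 𝔜.ι n ≫ fl g (n + 1) = fl g n ≫ 𝔖.ι n := ((g : FSch.Hom 𝔜 𝔖).comm n).symm
  rw [e1, e2]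
  exact h1

theorem le_sq {W : (𝔖.X 0).Opens} {V : (𝔜.X 0).Opens} (hVW : V ≤ pre (fl g 0).base W)
    (w : fl p 0 ≫ fl f 0 = fl q 0 ≫ fl g 0) :
    pre (fl q 0).base V ≤ pre (fl p 0).base (pre (fl f 0).base W) := by
  have h1 : (fl p 0) ⁻¹ᵁ ((fl f 0) ⁻¹ᵁ W) = (fl q 0) ⁻¹ᵁ ((fl g 0) ⁻¹ᵁ W) := by
    rw [← Scheme.Hom.comp_preimage, ← Scheme.Hom.comp_preimage, w]
  exact (pre_mono (fl q 0).base hVW).trans h1.ge

theorem cm_sq (w : ∀ n, fl p n ≫ fl f n = fl q n ≫ fl g n) {W : (𝔖.X 0).Opens} {V : (𝔜.X 0).Opens}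
    (hVW : V ≤ pre (fl g 0).base W) (a : O (𝔖.Osh h𝔖.1) W) :
    resO (le_sq p f q g hVW (w 0)) (cm (fφ' p hℨ.1 h𝔛.1) _ (cm (fφ' f h𝔛.1 h𝔖.1) W a)) =
      cm (fφ' q hℨ.1 h𝔜.1) V (resO hVW (cm (fφ' g h𝔜.1 h𝔖.1) W a)) := by
  apply K28.RealSec.pk_ext ℨ hℨ.1
  intro n
  rw [pk_cm' p hℨ h𝔛, pk_cm f, pk_cm q, pk_cm' g h𝔜 h𝔖]
  have e3 : ℨ.lvU hℨ.1 n (pre (fl q 0).base V) ≤ (fl q n ≫ fl g n) ⁻¹ᵁ (𝔖.lvU h𝔖.1 n W) :=
    (le_fl q hℨ.1 h𝔜.1 n le_rfl).trans (Scheme.Hom.preimage_mono _ (le_fl g h𝔜.1 h𝔖.1 n hVW))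
  have h1 := FSch.appLE_comp_appLE_of_eq (fl p n) (fl f n) (fl q n ≫ fl g n) (w n) (𝔖.lvU h𝔖.1 n W)
    (𝔛.lvU h𝔛.1 n (pre (fl f 0).base W)) (ℨ.lvU hℨ.1 n (pre (fl q 0).base V)) (le_fl f h𝔛.1 h𝔖.1 n le_rfl)
    (le_fl p hℨ.1 h𝔛.1 n (le_sq p f q g hVW (w 0))) e3
  have h2 := FSch.appLE_comp_appLE_of_eq (fl q n) (fl g n) (fl q n ≫ fl g n) rfl (𝔖.lvU h𝔖.1 n W)
    (𝔜.lvU h𝔜.1 n V) (ℨ.lvU hℨ.1 n (pre (fl q 0).base V)) (le_fl g h𝔜.1 h𝔖.1 n hVW)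
    (le_fl q hℨ.1 h𝔜.1 n le_rfl) e3
  exact congr($(h1.trans h2.symm) (pk 𝔖 h𝔖.1 n W a))

include H in
theorem sq_w (n : ℕ) : fl p n ≫ fl f n = fl q n ≫ fl g n := (H n).w

include hf H in
theorem rb_sq [IsFinite (fl f 0)] {W : (𝔖.X 0).Opens} {V : (𝔜.X 0).Opens} (hVW : V ≤ pre (fl g 0).base W)
    (hW : IsAffineOpen (𝔖.lvU h𝔖.1 0 W)) (hV : IsAffineOpen (𝔜.lvU h𝔜.1 0 V)) :
    RB ((resO (R := 𝔜.Osh h𝔜.1) hVW).comp (cm (fφ' g h𝔜.1 h𝔖.1) W)) (cm (fφ' f h𝔛.1 h𝔖.1) W)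
      (cm (fφ' q hℨ.1 h𝔜.1) V)
      ((resO (R := ℨ.Osh hℨ.1) (le_sq p f q g hVW (sq_w p f q g H 0))).comp
        (cm (fφ' p hℨ.1 h𝔛.1) (pre (fl f 0).base W))) := by
  have hq := isAdicHom_snd p f q g H hf
  have i0 : IsFinite (fl q 0) := MorphismProperty.of_isPullback (P := @IsFinite) (H 0) inferInstance
  have i1 := K28.RealAff.isNoetherianRing_O h𝔜 hV
  have i2 := K28.RealAff.isAdicComplete_O h𝔜 hV
  refine RB.of_levels (fun a => cm_sq p f q g hℨ h𝔛 h𝔜 h𝔖 (sq_w p f q g H) hVW a) (IS 𝔜 h𝔜.1 V)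
    (cm_finite h𝔛 h𝔖 hf hW) (cm_finite hℨ h𝔜 hq hV) (fun n => pk 𝔜 h𝔜.1 n V)
    (fun n => pk ℨ hℨ.1 n (pre (fl q 0).base V))
    (fun n => cl q hℨ h𝔜 n le_rfl) (fun n => pk_cm q hℨ.1 h𝔜.1 n V) (K28.RealAff.pk_surjective h𝔜 hV)
    (fun n => (K28.RealAff.ker_pk h𝔜 hV n).le) (IS_pre hℨ h𝔜 hq hV).le fun n => ?_
  have h1 := rb_lvl h𝔛 h𝔖 hf hW n
  have h2 := RB.of_isPullback (H n) (US := 𝔖.lvU h𝔖.1 n W) (UT := 𝔜.lvU h𝔜.1 n V)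
    (UX := 𝔛.lvU h𝔛.1 n (pre (fl f 0).base W)) (le_fl g h𝔜.1 h𝔖.1 n hVW)
    (le_fl f h𝔛.1 h𝔖.1 n le_rfl) (UY := ℨ.lvU hℨ.1 n (pre (fl q 0).base V)) (by
      have e : (fl q n) ⁻¹ᵁ (𝔜.lvU h𝔜.1 n V) = ℨ.lvU hℨ.1 n (pre (fl q 0).base V) :=
        FSch.Hom.lvU_preimage q hℨ.1 h𝔜.1 n V
      rw [e]
      exact (inf_eq_right.2 (le_fl p hℨ.1 h𝔛.1 n (le_sq p f q g hVW (sq_w p f q g H 0)))).symm)
    (K919.AffBasic.isAffineOpen_lvU 𝔖 h𝔖.1 hW n) (K919.AffBasic.isAffineOpen_lvU 𝔜 h𝔜.1 hV n)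
    (K919.AffBasic.isAffineOpen_lvU 𝔛 h𝔛.1 (affine_pre f h𝔛 h𝔖 hW) n)
    (le_fl p hℨ.1 h𝔛.1 n (le_sq p f q g hVW (sq_w p f q g H 0))) (le_fl q hℨ.1 h𝔜.1 n le_rfl)
  have h3 := h1.comp h2
  have e1 : (cl g h𝔜 h𝔖 n hVW).comp (pk 𝔖 h𝔖.1 n W) =
      (pk 𝔜 h𝔜.1 n V).comp ((resO hVW).comp (cm (fφ' g h𝔜.1 h𝔖.1) W)) :=
    RingHom.ext fun a => (pk_cm' g h𝔜 h𝔖 n hVW a).symm
  have e2 : (cl p hℨ h𝔛 n (le_sq p f q g hVW (sq_w p f q g H 0))).comp (pk 𝔛 h𝔛.1 n (pre (fl f 0).base W)) =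
      (pk ℨ hℨ.1 n (pre (fl q 0).base V)).comp ((resO (le_sq p f q g hVW (sq_w p f q g H 0))).comp
        (cm (fφ' p hℨ.1 h𝔛.1) (pre (fl f 0).base W))) :=
    RingHom.ext fun a => (pk_cm' p hℨ h𝔛 n (le_sq p f q g hVW (sq_w p f q g H 0)) a).symm
  exact e1 ▸ e2 ▸ h3

variable (w : p ≫ f = q ≫ g) {𝔉 : FSch.ModF 𝔛 h𝔛.1} (h𝔉 : FSch.IsCohF 𝔛 h𝔛.1 𝔉)

/-- The adjunct of the base change morphism on sections. -/
theorem adj_bc_apply (W : (𝔖.X 0).Opens) (m : Sec ((FSch.pushF f h𝔛.1 h𝔖.1).obj 𝔉) W) :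
    app ((FSch.pushF f h𝔛.1 h𝔖.1).map ((FSch.homMor p hℨ.1 h𝔛.1).adj.unit.app 𝔉) ≫
        (FSch.pushSq p f q g w hℨ.1 h𝔛.1 h𝔜.1 h𝔖.1).hom.app ((FSch.pullF p hℨ.1 h𝔛.1).obj 𝔉)) W m =
      toPush (fφ' g h𝔜.1 h𝔖.1) (toPush (fφ' q hℨ.1 h𝔜.1)
        (res ((FSch.pullF p hℨ.1 h𝔛.1).obj 𝔉) (FSch.Hom.sq_preimage p f q g w W).ge
          (us (fAdj hℨ p h𝔛) (pre (fl f 0).base W) (ofPush (fφ' f h𝔛.1 h𝔖.1) m)))) := rfl

include hf H h𝔉 in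
theorem isIso_bc [IsFinite (fl f 0)] :
    IsIso (FSch.bcMapF p f q g w hℨ.1 h𝔛.1 h𝔜.1 h𝔖.1 𝔉) := by
  have hcoh := isCohF_push h𝔛 h𝔖 hf h𝔉
  refine isIso_lft h𝔜 (fAdj h𝔜 g h𝔖) hcoh
    ((FSch.pushF f h𝔛.1 h𝔖.1).map ((FSch.homMor p hℨ.1 h𝔛.1).adj.unit.app 𝔉) ≫
        (FSch.pushSq p f q g w hℨ.1 h𝔛.1 h𝔜.1 h𝔖.1).hom.app ((FSch.pullF p hℨ.1 h𝔛.1).obj 𝔉)) fun y U₀ hy => ?_
  obtain ⟨W, hW, hyW, -⟩ := K28.RealLevel.basis_aff 𝔖 h𝔖.1 ((fl g 0).base y) ⊤ trivial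
  obtain ⟨V, hV, hyV, hVV⟩ := K28.RealLevel.basis_aff 𝔜 h𝔜.1 y (U₀ ⊓ (fl g 0) ⁻¹ᵁ W) ⟨hy, hyW⟩
  have hVW : V ≤ (fl g 0) ⁻¹ᵁ W := hVV.trans inf_le_right
  refine ⟨W, V, hVW, hyV, hVV.trans inf_le_left, hV, exists_presV h𝔖 hcoh hW, ?_⟩
  have hq := isAdicHom_snd p f q g H hf
  have i0 : IsFinite (fl q 0) := MorphismProperty.of_isPullback (P := @IsFinite) (H 0) inferInstance
  have h1 := sbc_pullF hℨ p h𝔛 h𝔉 (affine_pre f h𝔛 h𝔖 hW) (affine_pre q hℨ h𝔜 hV)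
    (le_sq p f q g hVW (sq_w p f q g H 0))
  letI i1 : Module (O (𝔛.Osh h𝔛.1) (pre (fl f 0).base W)) (Sec ((FSch.pushF f h𝔛.1 h𝔖.1).obj 𝔉) W) :=
    inferInstanceAs (Module (O (𝔛.Osh h𝔛.1) (pre (fl f 0).base W)) (Sec 𝔉 (pre (fl f 0).base W)))
  letI i2 : Module (O (ℨ.Osh hℨ.1) (pre (fl q 0).base V))
      (Sec ((FSch.pushF q hℨ.1 h𝔜.1).obj ((FSch.pullF p hℨ.1 h𝔛.1).obj 𝔉)) V) :=
    inferInstanceAs (Module (O (ℨ.Osh hℨ.1) (pre (fl q 0).base V))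
      (Sec ((FSch.pullF p hℨ.1 h𝔛.1).obj 𝔉) (pre (fl q 0).base V)))
  have h2 := RB.trans (M := Sec ((FSch.pushF f h𝔛.1 h𝔖.1).obj 𝔉) W)
    (Q := Sec ((FSch.pushF q hℨ.1 h𝔜.1).obj ((FSch.pullF p hℨ.1 h𝔛.1).obj 𝔉)) V)
    (rb_sq p f q g hℨ h𝔛 h𝔜 h𝔖 H hf hVW hW hV) (fun _ _ => rfl) (fun _ _ => rfl) h1
  refine cast (congrArg (SBC ((resO (R := 𝔜.Osh h𝔜.1) hVW).comp (cm (fφ' g h𝔜.1 h𝔖.1) W)))
    (AddMonoidHom.ext fun m => ?_)) h2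
  exact (res_res ((FSch.pullF p hℨ.1 h𝔛.1).obj 𝔉) _ _ _).symm

end Square

end K29.FinPush
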