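import Groth.Agent.FCompl.K29.FF0
import Groth.Agent.FCompl.K29.FinPush
import Groth.Agent.FCompl.K28.ComplMod
import Groth.Agent.Pic13.H504.Push

/-!
# Formal functions in degree zero for the canonical base change map

`f : X ⟶ Y` proper, `Y` locally Noetherian, `𝔛`, `𝔜` the completions along `𝓘.comap f` and `𝓘`, `F` coherent on `X`.
* `sbc_ff`: `Γ(f⁻¹ V, F) → Γ(f^⁻¹ V^, F^)` is a base change along `O(V) → O_𝔜(V^)`, `V` affine;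
* `isIso_bc`: `j^* f_* F ⟶ f^_* i^* F` is an isomorphism.
-/

set_option autoImplicit false
set_option linter.style.haveILetI false
set_option linter.unusedSectionVars false
set_option maxHeartbeats 400000
universe u

open CategoryTheory TopologicalSpace Opposite CategoryTheory.Limits AlgebraicGeometry

noncomputable section

namespace K29.FF1

open K29.RSec K29.RStalk K29.RPull K29.RPres K29.Fml K29.Cmpl K29.FmlPull K29.FF0 K29.PullSys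
open K28 (SBC)
open K28.RealSec (ps tS pk ps_smul tS_ps sec_ext)
open Groth.Agent.Sga2lef.H96.ModSysPush (pm ptr toSys toSys_map_succ)
open AlgebraicGeometry.Scheme.Modules (pushforward)

section General

variable (𝔛 : FSch.Sys.{u}) (h : 𝔛.IsFormal) {X : Scheme.{u}} (p : ∀ n, 𝔛.X n ⟶ X)
  (hp : ∀ n, 𝔛.ι n ≫ p (n + 1) = p n) (G : ∀ k, (𝔛.X k).Modules)
  (t : ∀ k, G (k + 1) ⟶ (Scheme.Modules.pushforward (𝔛.ι k)).obj (G k))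
  {U : X.Opens} {W : (𝔛.X 0).Opens} (e : (p 0) ⁻¹ᵁ U = W)

include e hp in
theorem le_lv (n : ℕ) : (p n) ⁻¹ᵁ U ≤ 𝔛.lvU h n W := by
  rw [← e]
  exact (FSch.lvU_p 𝔛 h p hp n U).le

include e hp in
theorem lv_le (n : ℕ) : 𝔛.lvU h n W ≤ (p n) ⁻¹ᵁ U := by
  rw [← e]
  exact (FSch.lvU_p 𝔛 h p hp n U).ge

/-- The sections of the limit on the level `n`, as sections of `(p n)_* G_n`. -/
def lt (n : ℕ) : Sec (FSch.realLim 𝔛 h G t) W →+ Γ((pushforward (p n)).obj (G n), U) :=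
  (((G n).presheaf.map (homOfLE (le_lv 𝔛 h p hp e n)).op).hom).comp (ps 𝔛 h G t n W)

theorem lt_apply (n : ℕ) (y : Sec (FSch.realLim 𝔛 h G t) W) :
    lt 𝔛 h p hp G t e n y = (G n).presheaf.map (homOfLE (le_lv 𝔛 h p hp e n)).op (ps 𝔛 h G t n W y) := rfl

theorem map_lt (n : ℕ) (y : Sec (FSch.realLim 𝔛 h G t) W) :
    (G n).presheaf.map (homOfLE (lv_le 𝔛 h p hp e n)).op (lt 𝔛 h p hp G t e n y) = ps 𝔛 h G t n W y := by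
  rw [lt_apply]
  refine (K179.PushLim.res_res (G n) _ _ (𝟙 _) _).trans ?_
  exact congrArg (fun z => z (ps 𝔛 h G t n W y)) (congrArg ConcreteCategory.hom ((G n).presheaf.map_id _))

theorem lt_ext (y : Sec (FSch.realLim 𝔛 h G t) W) (hy : ∀ n, lt 𝔛 h p hp G t e n y = 0) :
    y = 0 := by
  apply sec_ext 𝔛 h G t
  intro n
  exact ((map_lt 𝔛 h p hp G t e n y).symm.trans ((congrArg _ (hy n)).trans (map_zero _))).trans (map_zero _).symm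

theorem trans_app (k : ℕ) (s : Γ((pushforward (p (k + 1))).obj (G (k + 1)), U)) :
    (K179.PushLim.trans 𝔛 p hp t k).app U s =
      (G k).presheaf.map (eqToHom (by rw [← hp k]; rfl)).op ((t k).app (p (k + 1) ⁻¹ᵁ U) s) := rfl

theorem lt_trans (n : ℕ) (y : Sec (FSch.realLim 𝔛 h G t) W) :
    (K179.PushLim.trans 𝔛 p hp t n).app U (lt 𝔛 h p hp G t e (n + 1) y) = lt 𝔛 h p hp G t e n y := by
  rw [trans_app, lt_apply 𝔛 h p hp G t e n, ← tS_ps, K28.RealSec.tS_apply, lt_apply]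
  have hle : (p n) ⁻¹ᵁ U ≤ 𝔛.ι n ⁻¹ᵁ (𝔛.lvU h (n + 1) W) :=
    (le_lv 𝔛 h p hp e n).trans (𝔛.lvU_le h n _)
  refine (congrArg (fun z => (G n).presheaf.map _ z)
    (K179.PushLim.app_res (t n) (homOfLE (le_lv 𝔛 h p hp e (n + 1))) _)).trans ?_
  exact (K179.PushLim.res_res _ _ _ (homOfLE hle).op _).trans (K179.PushLim.res_res _ _ _ (homOfLE hle).op _).symm

/-- Functions vanishing on the level `n` act by zero on it. -/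
theorem lt_smul_eq_zero (n : ℕ) (c : O (𝔛.Osh h) W) (hc : pk 𝔛 h n W c = 0) (y : Sec (FSch.realLim 𝔛 h G t) W) :
    lt 𝔛 h p hp G t e n (c • y) = 0 := by
  rw [lt_apply, ps_smul, hc, zero_smul, map_zero]
  rfl

theorem lt_smul (n : ℕ) (a : Γ(X, U)) (c : O (𝔛.Osh h) W)
    (hc : pk 𝔛 h n W c = (p n).appLE U (𝔛.lvU h n W) (lv_le 𝔛 h p hp e n) a) (y : Sec (FSch.realLim 𝔛 h G t) W) :
    lt 𝔛 h p hp G t e n (c • y) = a • lt 𝔛 h p hp G t e n y := by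
  rw [lt_apply, ps_smul, hc]
  refine (Groth.Agent.Fdesc.QCohStalk.map_smul' _ (le_lv 𝔛 h p hp e n) _ _).trans ?_
  refine congrArg (fun z : Γ(𝔛.X n, p n ⁻¹ᵁ U) => z • (show Γ(G n, p n ⁻¹ᵁ U) from lt 𝔛 h p hp G t e n y)) ?_
  refine (congr($((p n).appLE_map (lv_le 𝔛 h p hp e n) (homOfLE (le_lv 𝔛 h p hp e n)).op) a)).trans ?_
  rw [← Scheme.Hom.app_eq_appLE]
  rfl

variable {F : X.Modules} (ψ : ∀ n, F ⟶ (pushforward (p n)).obj (G n))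
  (η : F ⟶ (FSch.toSchemeMor 𝔛 h p hp).push.obj (FSch.realLim 𝔛 h G t))
  (hη : ∀ k V s, ps 𝔛 h G t k (p 0 ⁻¹ᵁ V) (K28.BasisIso.gs (φ := (FSch.toSchemeMor 𝔛 h p hp).sharpR) η V s) =
        K28.ToSch.psiS 𝔛 h p hp ψ k V s)

include hη in
theorem lt_gs (n : ℕ) (x : Γ(F, U)) :
    lt 𝔛 h p hp G t e n (res (FSch.realLim 𝔛 h G t) e.ge
      (K28.BasisIso.gs (φ := (FSch.toSchemeMor 𝔛 h p hp).sharpR) η U x)) = (ψ n).app U x := by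
  subst e
  rw [res_self, lt_apply, hη, K28.ToSch.psiS_apply]
  refine (K179.PushLim.res_res (G n) _ _ (𝟙 _) _).trans ?_
  exact congrArg (fun z => z ((ψ n).app U x)) (congrArg ConcreteCategory.hom ((G n).presheaf.map_id _))

end General

section Square

variable {𝔛 𝔜 : FSch.Sys.{u}} (φ : 𝔛 ⟶ 𝔜) (h𝔛 : 𝔛.IsFormal) (h𝔜 : 𝔜.IsLocNoethFormal) {X Y : Scheme.{u}} (f : X ⟶ Y)
  (p : ∀ n, 𝔛.X n ⟶ X) (hp : ∀ n, 𝔛.ι n ≫ p (n + 1) = p n)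
  (r : ∀ n, 𝔜.X n ⟶ Y) (hr : ∀ n, 𝔜.ι n ≫ r (n + 1) = r n)
  (hsq : ∀ n, p n ≫ f = (φ : FSch.Hom 𝔛 𝔜).app n ≫ r n)
  (G : ∀ k, (𝔛.X k).Modules) (t : ∀ k, G (k + 1) ⟶ (Scheme.Modules.pushforward (𝔛.ι k)).obj (G k))
  {V : Y.Opens}

/-- The open `φ⁻¹ (r⁻¹ V)`. -/
abbrev WW (V : Y.Opens) : (𝔛.X 0).Opens := pre (fl φ 0).base (pre (r 0).base V)

include hsq in
theorem WW_eq (V : Y.Opens) : (p 0) ⁻¹ᵁ (f ⁻¹ᵁ V) = WW φ r V :=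
  FSch.sch_sq_preimage φ f p r hsq V

/-- levels of the sections over `V^` of `φ_* lim G`. -/
def tt (n : ℕ) (V : Y.Opens) : Sec ((FSch.pushF φ h𝔛 h𝔜.1).obj (FSch.realLim 𝔛 h𝔛 G t)) (pre (r 0).base V) →+
    Sec (R := Y.sheaf) ((pushforward f).obj ((pushforward (p n)).obj (G n))) V :=
  (lt 𝔛 h𝔛 p hp G t (WW_eq φ f p r hsq V) n).comp (ofPush (fφ' φ h𝔛 h𝔜.1))

theorem tt_ext (y : Sec ((FSch.pushF φ h𝔛 h𝔜.1).obj (FSch.realLim 𝔛 h𝔛 G t)) (pre (r 0).base V))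
    (hy : ∀ n, tt φ h𝔛 h𝔜 f p hp r hsq G t n V y = 0) : y = 0 :=
  lt_ext 𝔛 h𝔛 p hp G t (WW_eq φ f p r hsq V) y hy

theorem tt_trans (n : ℕ) (y : Sec ((FSch.pushF φ h𝔛 h𝔜.1).obj (FSch.realLim 𝔛 h𝔛 G t)) (pre (r 0).base V)) :
    app (R := Y.sheaf) ((pushforward f).map (K179.PushLim.trans 𝔛 p hp t n)) V
      (tt φ h𝔛 h𝔜 f p hp r hsq G t (n + 1) V y) = tt φ h𝔛 h𝔜 f p hp r hsq G t n V y :=
  lt_trans 𝔛 h𝔛 p hp G t (WW_eq φ f p r hsq V) n _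

theorem tt_smul_eq_zero (n : ℕ) (b : O (𝔜.Osh h𝔜.1) (pre (r 0).base V)) (hb : pk 𝔜 h𝔜.1 n (pre (r 0).base V) b = 0)
    (y : Sec ((FSch.pushF φ h𝔛 h𝔜.1).obj (FSch.realLim 𝔛 h𝔛 G t)) (pre (r 0).base V)) :
    tt φ h𝔛 h𝔜 f p hp r hsq G t n V (b • y) = 0 := by
  refine lt_smul_eq_zero 𝔛 h𝔛 p hp G t (WW_eq φ f p r hsq V) n (cm (fφ' φ h𝔛 h𝔜.1) (pre (r 0).base V) b) ?_ _
  rw [PullSys.pk_cm, hb, map_zero]

theorem tt_smul (n : ℕ) (a : O Y.sheaf V)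
    (y : Sec ((FSch.pushF φ h𝔛 h𝔜.1).obj (FSch.realLim 𝔛 h𝔛 G t)) (pre (r 0).base V)) :
    tt φ h𝔛 h𝔜 f p hp r hsq G t n V (cm (sφ h𝔜.1 r hr) V a • y) = a • tt φ h𝔛 h𝔜 f p hp r hsq G t n V y := by
  refine lt_smul 𝔛 h𝔛 p hp G t (WW_eq φ f p r hsq V) n (f.app V a)
    (cm (fφ' φ h𝔛 h𝔜.1) (pre (r 0).base V) (cm (sφ h𝔜.1 r hr) V a)) ?_ _
  rw [PullSys.pk_cm]
  refine (congrArg _ (K28.ToSch.pk_cm 𝔜 h𝔜.1 r hr n V a)).trans ?_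
  have e₃ : 𝔛.lvU h𝔛 n (WW φ r V) ≤ ((fl φ n) ≫ r n) ⁻¹ᵁ V := by
    rw [← hsq n]
    exact lv_le 𝔛 h𝔛 p hp (WW_eq φ f p r hsq V) n
  have h1 := congr($(Scheme.Hom.appLE_comp_appLE (fl φ n) (r n) V (𝔜.lvU h𝔜.1 n (pre (r 0).base V))
    (𝔛.lvU h𝔛 n (WW φ r V)) (FSch.lvU_p 𝔜 h𝔜.1 r hr n V).ge (le_fl φ h𝔛 h𝔜.1 n le_rfl)) a)
  refine h1.trans ?_
  have h2 : ∀ (q : 𝔛.X n ⟶ Y) (e' : 𝔛.lvU h𝔛 n (WW φ r V) ≤ q ⁻¹ᵁ V) (hq : q = p n ≫ f),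
      q.appLE V _ e' a = (p n).appLE (f ⁻¹ᵁ V) _ (lv_le 𝔛 h𝔛 p hp (WW_eq φ f p r hsq V) n) (f.app V a) := by
    intro q e' hq
    subst hq
    rw [Scheme.Hom.comp_appLE]
    rfl
  exact h2 _ _ (hsq n).symm

theorem tt_tow {n m : ℕ} (h : n ≤ m)
    (y : Sec ((FSch.pushF φ h𝔛 h𝔜.1).obj (FSch.realLim 𝔛 h𝔛 G t)) (pre (r 0).base V)) :
    app (R := Y.sheaf) ((pushforward f).map ((K179.PushLim.tow 𝔛 p hp t).map (homOfLE h).op)) V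
      (tt φ h𝔛 h𝔜 f p hp r hsq G t m V y) = tt φ h𝔛 h𝔜 f p hp r hsq G t n V y := by
  induction m, h using Nat.le_induction with
  | base =>
    rw [Groth.Agent.FormalB.ModPow.map_homOfLE_self, CategoryTheory.Functor.map_id]
    rfl
  | succ m hm ih =>
    rw [Groth.Agent.FormalB.ModPow.map_homOfLE_comp (K179.PushLim.tow 𝔛 p hp t) hm (Nat.le_succ m), Functor.map_comp]
    refine Eq.trans ?_ ih
    refine congrArg (app (R := Y.sheaf) ((pushforward f).map ((K179.PushLim.tow 𝔛 p hp t).map (homOfLE hm).op)) V) ?_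
    have h2 : (K179.PushLim.tow 𝔛 p hp t).map (homOfLE (Nat.le_succ m)).op = K179.PushLim.trans 𝔛 p hp t m :=
      K179.PushLim.tow_map_succ 𝔛 p hp t m
    refine (congrArg (fun z => app (R := Y.sheaf) ((pushforward f).map z) V
      (tt φ h𝔛 h𝔜 f p hp r hsq G t (m + 1) V y)) h2).trans ?_
    exact tt_trans φ h𝔛 h𝔜 f p hp r hsq G t m y

variable {F : X.Modules} (ψ : ∀ n, F ⟶ (pushforward (p n)).obj (G n))
  (η : F ⟶ (FSch.toSchemeMor 𝔛 h𝔛 p hp).push.obj (FSch.realLim 𝔛 h𝔛 G t))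
  (hη : ∀ k V s, ps 𝔛 h𝔛 G t k (p 0 ⁻¹ᵁ V) (K28.BasisIso.gs (φ := (FSch.toSchemeMor 𝔛 h𝔛 p hp).sharpR) η V s) =
        K28.ToSch.psiS 𝔛 h𝔛 p hp ψ k V s)

/-- The map on sections. -/
def gg (V : Y.Opens) : Sec (R := Y.sheaf) ((pushforward f).obj F) V →+
    Sec ((FSch.pushF φ h𝔛 h𝔜.1).obj (FSch.realLim 𝔛 h𝔛 G t)) (pre (r 0).base V) :=
  (toPush (fφ' φ h𝔛 h𝔜.1)).comp ((res (FSch.realLim 𝔛 h𝔛 G t) (WW_eq φ f p r hsq V).ge).comp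
    (K28.BasisIso.gs (φ := (FSch.toSchemeMor 𝔛 h𝔛 p hp).sharpR) η (f ⁻¹ᵁ V)))

include hη in
theorem tt_gg (n : ℕ) (x : Sec (R := Y.sheaf) ((pushforward f).obj F) V) :
    tt φ h𝔛 h𝔜 f p hp r hsq G t n V (gg φ h𝔛 h𝔜 f p hp r hsq G t η V x) =
      app (R := Y.sheaf) ((pushforward f).map (ψ n)) V x :=
  lt_gs 𝔛 h𝔛 p hp G t (WW_eq φ f p r hsq V) ψ η hη n x

variable [IsLocallyNoetherian Y] [IsProper f] [∀ n, IsClosedImmersion (r n)] (𝓘 : Y.IdealSheafData)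
  (hJ : ∀ n, (r n).ker = 𝓘 ^ (n + 1)) (hV : IsAffineOpen V) (hF : Coh.IsCoh F)
  (hψ : ∀ n, ψ (n + 1) ≫ K179.PushLim.trans 𝔛 p hp t n = ψ n)
  (hq : ∀ n, Groth.Agent.FormalB.KQuot.IsKQuot ((𝓘.comap f) ^ (n + 1)) (ψ n))

include hη hr in
theorem gg_smul (a : O Y.sheaf V) (x : Sec (R := Y.sheaf) ((pushforward f).obj F) V) :
    gg φ h𝔛 h𝔜 f p hp r hsq G t η V (a • x) = cm (sφ h𝔜.1 r hr) V a • gg φ h𝔛 h𝔜 f p hp r hsq G t η V x := by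
  rw [← sub_eq_zero]
  refine tt_ext φ h𝔛 h𝔜 f p hp r hsq G t _ fun n => ?_
  rw [map_sub, tt_gg φ h𝔛 h𝔜 f p hp r hsq G t ψ η hη, tt_smul, tt_gg φ h𝔛 h𝔜 f p hp r hsq G t ψ η hη, map_smul,
    sub_self]

include hη hJ hF hψ hq hV in
/-- **Formal functions in degree zero, on sections.** -/
theorem sbc_gg : SBC (cm (sφ h𝔜.1 r hr) V) (gg φ h𝔛 h𝔜 f p hp r hsq G t η V) := by
  have hcoh : Coh.IsCoh ((pushforward f).obj F) := Groth.Agent.Pic13.H504.Push.isCoh_pushforward f F hF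
  have i1 := isNoetherianRing_O h𝔜 (isAffineOpen_pre h𝔜.1 r hV)
  have hc := isAdicComplete_II h𝔜 (isAffineOpen_pre h𝔜.1 r hV)
  have hmap := map_JJ r hr h𝔜 𝓘 hJ hV
  have i3 : Module.Finite (O Y.sheaf V) (Sec (R := Y.sheaf) ((pushforward f).obj F) V) :=
    K28.LevelBC.finite_sections hcoh hV
  refine sbc_of_formal (cm (sφ h𝔜.1 r hr) V) (JJ 𝓘 hV) (by rw [hmap]; exact hc) _
    (gg_smul φ h𝔛 h𝔜 f p hp r hr hsq G t ψ η hη) (fun n => tt φ h𝔛 h𝔜 f p hp r hsq G t n V)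
    (tt_ext φ h𝔛 h𝔜 f p hp r hsq G t) (fun n b hb y => ?_) (fun n m hnm y hy => ?_) (fun n b => ?_) ?_ ?_
  · refine tt_smul_eq_zero φ h𝔛 h𝔜 f p hp r hsq G t n b ?_ y
    rw [hmap] at hb
    exact (mem_II_pow h𝔜 (isAffineOpen_pre h𝔜.1 r hV) n b).1 hb
  · have h1 := tt_tow φ h𝔛 h𝔜 f p hp r hsq G t hnm y
    rw [hy] at h1
    exact h1.symm.trans (map_zero _)
  · rw [hmap]
    obtain ⟨a, ha⟩ := exists_approx r hr h𝔜 n b hV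
    exact ⟨a, Ideal.pow_le_pow_right (Nat.le_succ n) ha⟩
  · obtain ⟨c, hc⟩ := exists_ker_map f hV 𝓘 hF
    refine ⟨c, fun n x hx => hc n (ψ n) (hq n) x ?_⟩
    rw [← hx]
    exact (tt_gg φ h𝔛 h𝔜 f p hp r hsq G t ψ η hη n x).symm
  · obtain ⟨c, hc⟩ := exists_ml_map f hV 𝓘 hF
    intro n y
    obtain ⟨x, hx⟩ := hc n (ψ n) (ψ (n + c)) ((K179.PushLim.tow 𝔛 p hp t).map (homOfLE (Nat.le_add_right n c)).op)
      (hq n) (hq (n + c)) (Groth.Agent.FormalB.ModPow.compat_of_succ (G := K179.PushLim.tow 𝔛 p hp t) ψ (fun k => by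
        have h2 : (K179.PushLim.tow 𝔛 p hp t).map (homOfLE (Nat.le_succ k)).op = K179.PushLim.trans 𝔛 p hp t k :=
          K179.PushLim.tow_map_succ 𝔛 p hp t k
        exact (congrArg (fun z => ψ (k + 1) ≫ z) h2).trans (hψ k)) (Nat.le_add_right n c))
      (tt φ h𝔛 h𝔜 f p hp r hsq G t (n + c) V y)
    refine ⟨x, ?_⟩
    rw [tt_gg φ h𝔛 h𝔜 f p hp r hsq G t ψ η hη, ← hx]
    exact (tt_tow φ h𝔛 h𝔜 f p hp r hsq G t (Nat.le_add_right n c) y).symm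

/-- The isomorphism `T^* F ≅ lim G` on sections. -/
theorem app_inv_us {P : Mod (𝔛.Osh h𝔛)} (e : (FSch.toSchemeMor 𝔛 h𝔛 p hp).pull.obj F ≅ P)
    (η : F ⟶ (FSch.toSchemeMor 𝔛 h𝔛 p hp).push.obj P)
    (he : e.hom = lft (φ := (FSch.toSchemeMor 𝔛 h𝔛 p hp).sharpR) (FSch.toSchemeMor 𝔛 h𝔛 p hp).adj η)
    (U : X.Opens) (m : Sec (R := X.sheaf) F U) :
    app e.inv (pre (p 0).base U) (K28.BasisIso.gs (φ := (FSch.toSchemeMor 𝔛 h𝔛 p hp).sharpR) η U m) =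
      us (φ := (FSch.toSchemeMor 𝔛 h𝔛 p hp).sharpR) (FSch.toSchemeMor 𝔛 h𝔛 p hp).adj U m := by
  have h1 := app_lft_us (φ := (FSch.toSchemeMor 𝔛 h𝔛 p hp).sharpR) (FSch.toSchemeMor 𝔛 h𝔛 p hp).adj η U m
  rw [← he] at h1
  refine (congrArg (app e.inv (pre (p 0).base U)) h1.symm).trans ?_
  exact congrArg (fun z => app z (pre (p 0).base U)
    (us (φ := (FSch.toSchemeMor 𝔛 h𝔛 p hp).sharpR) (FSch.toSchemeMor 𝔛 h𝔛 p hp).adj U m)) e.hom_inv_id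

/-- The adjoint of the base change map, on sections. -/
theorem gs_bc_apply (V : Y.Opens) (m : Sec (R := Y.sheaf) ((pushforward f).obj F) V) :
    K28.BasisIso.gs (φ := (FSch.toSchemeMor 𝔜 h𝔜.1 r hr).sharpR)
      ((pushforward f).map ((FSch.toSchemeMor 𝔛 h𝔛 p hp).adj.unit.app F) ≫
        (FSch.schPushSq φ h𝔛 h𝔜.1 f p hp r hr hsq).hom.app ((FSch.toSchemeMor 𝔛 h𝔛 p hp).pull.obj F)) V m =
      toPush (fφ' φ h𝔛 h𝔜.1) (res ((FSch.toSchemeMor 𝔛 h𝔛 p hp).pull.obj F) (WW_eq φ f p r hsq V).ge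
        (us (φ := (FSch.toSchemeMor 𝔛 h𝔛 p hp).sharpR) (FSch.toSchemeMor 𝔛 h𝔛 p hp).adj (f ⁻¹ᵁ V)
          (show Sec (R := X.sheaf) F (f ⁻¹ᵁ V) from m))) := rfl

include hη hJ hF hψ hq hr in
/-- **The base change map `j^* f_* F ⟶ f^_* i^* F` is an isomorphism.** -/
theorem isIso_bc (hiso : IsIso (lft (φ := (FSch.toSchemeMor 𝔛 h𝔛 p hp).sharpR) (FSch.toSchemeMor 𝔛 h𝔛 p hp).adj η))
    (hB : K28.BasisIso.Cofinal (r 0).base {V : Y.Opens | IsAffineOpen V}) :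
    IsIso (FSch.schBcMap φ h𝔛 h𝔜.1 f p hp r hr hsq F) := by
  refine K28.BasisIso.isIso_lft (φ := (FSch.toSchemeMor 𝔜 h𝔜.1 r hr).sharpR) (FSch.toSchemeMor 𝔜 h𝔜.1 r hr).adj
    ((pushforward f).map ((FSch.toSchemeMor 𝔛 h𝔛 p hp).adj.unit.app F) ≫
        (FSch.schPushSq φ h𝔛 h𝔜.1 f p hp r hr hsq).hom.app ((FSch.toSchemeMor 𝔛 h𝔛 p hp).pull.obj F)) hB
    fun V hV => ?_
  let e : (FSch.toSchemeMor 𝔛 h𝔛 p hp).pull.obj F ≅ FSch.realLim 𝔛 h𝔛 G t := @asIso _ _ _ _ _ hiso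
  have h1 := sbc_gg φ h𝔛 h𝔜 f p hp r hr hsq G t ψ η hη 𝓘 hJ hV hF hψ hq
  let e' := (FSch.pushF φ h𝔛 h𝔜.1).mapIso e.symm
  refine h1.of_bijective (app e'.hom (pre (r 0).base V)) ⟨fun x y hxy => ?_, fun y => ?_⟩ fun m => ?_
  · have h2 := congrArg (app e'.inv (pre (r 0).base V)) hxy
    rw [← app_comp, ← app_comp, e'.hom_inv_id] at h2
    exact h2
  · refine ⟨app e'.inv (pre (r 0).base V) y, ?_⟩
    rw [← app_comp, e'.inv_hom_id]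
    rfl
  · rw [gs_bc_apply φ h𝔛 h𝔜 f p hp r hr hsq V m]
    change toPush (fφ' φ h𝔛 h𝔜.1) (app e.inv (WW φ r V) (res (FSch.realLim 𝔛 h𝔛 G t) (WW_eq φ f p r hsq V).ge
      (K28.BasisIso.gs (φ := (FSch.toSchemeMor 𝔛 h𝔛 p hp).sharpR) η (f ⁻¹ᵁ V) m))) = _
    rw [app_res, app_inv_us h𝔛 p hp e η rfl]

end Square

end K29.FF1
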