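import Groth.Agent.FCompl.K29.FmlSys
import Groth.Agent.FCompl.K29.ClImm

/-!
# Coherent modules on a locally Noetherian formal scheme over affine open subsets

`𝔉` coherent on `𝔛` locally Noetherian formal, `U` ANY affine open: `𝔉(U)` is a finite module over the adic Noetherian
ring `O_𝔛(U)`, `𝔉(U) → (u_k^* 𝔉)(U_k)` is surjective with kernel `𝓘^{k+1} 𝔉(U)`, and `𝔉` has a finite presentation
over `U`.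
-/

set_option autoImplicit false
set_option linter.style.haveILetI false
universe u

open CategoryTheory TopologicalSpace Opposite CategoryTheory.Limits AlgebraicGeometry

noncomputable section

namespace K29.Fml

open K29.RSec K29.RStalk K29.RPull K29.RPres K29.ClImm

variable {𝔛 : FSch.Sys.{u}} (h : 𝔛.IsFormal)

/-- The transition maps of the tower `(u_k)_* u_k^* 𝔉`. -/
def trM (k : ℕ) (𝔉 : Mod (𝔛.Osh h)) : (FSch.levelMor 𝔛 h (k + 1)).push.obj (lv h (k + 1) 𝔉) ⟶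
    (FSch.levelMor 𝔛 h k).push.obj (lv h k 𝔉) :=
  (FSch.levelMor 𝔛 h (k + 1)).push.map ((sysOf h 𝔉).toPush k) ≫
    (FSch.pushCompare 𝔛 h k).app ((FSch.levelMor 𝔛 h k).pull.obj 𝔉)

/-- The transition maps on sections. -/
def tr (k : ℕ) {𝔉 : Mod (𝔛.Osh h)} (V : (𝔛.X 0).Opens) :
    Sec (lv h (k + 1) 𝔉) (𝔛.lvU h (k + 1) V) →+ Sec (lv h k 𝔉) (𝔛.lvU h k V) :=
  (ofPush (lvφ h k)).comp ((app (trM h k 𝔉) V).toAddMonoidHom.comp (toPush (lvφ h (k + 1))))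

theorem tr_ul (k : ℕ) {𝔉 : Mod (𝔛.Osh h)} (V : (𝔛.X 0).Opens) (t : Sec 𝔉 V) :
    tr h k V (ul h (k + 1) V t) = ul h k V t :=
  congrArg (fun g : 𝔉 ⟶ (FSch.levelMor 𝔛 h k).push.obj ((FSch.levelMor 𝔛 h k).pull.obj 𝔉) => app g V t)
    (unit_toPush h 𝔉 k)

theorem tr_smul (k : ℕ) {𝔉 : Mod (𝔛.Osh h)} (V : (𝔛.X 0).Opens) (a : O (𝔛.Osh h) V)
    (t : Sec (lv h (k + 1) 𝔉) (𝔛.lvU h (k + 1) V)) :
    tr h k V (prO h (k + 1) V a • t) = prO h k V a • tr h k V t :=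
  (app (trM h k 𝔉) V).map_smul a (toPush (lvφ h (k + 1)) t)

/-- The transition map through the inverse image along `ι k`. -/
theorem tr_eq (k : ℕ) {𝔉 : Mod (𝔛.Osh h)} (V : (𝔛.X 0).Opens) (t : Sec (lv h (k + 1) 𝔉) (𝔛.lvU h (k + 1) V)) :
    tr h k V t = res (lv h k 𝔉) (𝔛.lvU_le h k V) (app ((pullIso h k).hom.app 𝔉) _
      (us (schAdj (𝔛.ι k)) (M := lv h (k + 1) 𝔉) (𝔛.lvU h (k + 1) V) t)) :=
  congrArg (fun g : (FSch.levelMor 𝔛 h (k + 1)).pull.obj 𝔉 ⟶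
      (Scheme.Modules.pushforward (𝔛.ι k)).obj ((FSch.levelMor 𝔛 h k).pull.obj 𝔉) =>
    app ((FSch.pushCompare 𝔛 h k).app ((FSch.levelMor 𝔛 h k).pull.obj 𝔉)) V
      (app ((FSch.levelMor 𝔛 h (k + 1)).push.map g) V (toPush (lvφ h (k + 1)) t))) (toPush_eq h 𝔉 k)

section Noeth

variable (h𝔛 : 𝔛.IsLocNoethFormal) {𝔉 : FSch.ModF 𝔛 h𝔛.1} (h𝔉 : FSch.IsCohF 𝔛 h𝔛.1 𝔉)
  {U : (𝔛.X 0).Opens} (hU : IsAffineOpen (𝔛.lvU h𝔛.1 0 U))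

theorem ker_cm_le (k : ℕ) (b : O (𝔛.X (k + 1)).sheaf (𝔛.lvU h (k + 1) U))
    (hb : cm (schφ (𝔛.ι k)) (𝔛.lvU h (k + 1) U) b = 0) (a : O (𝔛.Osh h) U) (ha : prO h (k + 1) U a = b) :
    prO h k U a = 0 := by
  have e : prO h k U a = K919.AffBasic.tr 𝔛 h k U (K919.AffBasic.pr 𝔛 h (k + 1) U a) :=
    (K919.AffBasic.tr_pr 𝔛 h k U a).symm
  have ha' : K919.AffBasic.pr 𝔛 h (k + 1) U a = b := ha
  rw [e, ha']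
  have hb' : (𝔛.ι k).app (𝔛.lvU h (k + 1) U) b = 0 := hb
  change ((𝔛.ι k).appLE _ _ _) b = 0
  rw [Scheme.Hom.appLE]
  change (𝔛.X k).presheaf.map _ ((𝔛.ι k).app (𝔛.lvU h (k + 1) U) b) = 0
  rw [hb', map_zero]

include h𝔉 in
theorem isQCoh_pull_lv (k : ℕ) : Coh.IsQCoh ((Scheme.Modules.pullback (𝔛.ι k)).obj (lv h𝔛.1 (k + 1) 𝔉)) := by
  have h0 : SheafOfModules.IsFinitePresentation (R := ringSheaf (𝔛.X (k + 1)).sheaf) (lv h𝔛.1 (k + 1) 𝔉) :=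
    isFinitePresentation_pull (lvAdj h𝔛.1 (k + 1)) h𝔉
  have h1 : SheafOfModules.IsFinitePresentation (R := ringSheaf (𝔛.X k).sheaf)
    ((Scheme.Modules.pullback (𝔛.ι k)).obj (lv h𝔛.1 (k + 1) 𝔉)) :=
    isFinitePresentation_pull (schAdj (𝔛.ι k)) h0
  have h2 : SheafOfModules.IsQuasicoherent (R := ringSheaf (𝔛.X k).sheaf)
    ((Scheme.Modules.pullback (𝔛.ι k)).obj (lv h𝔛.1 (k + 1) 𝔉)) := inferInstance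
  exact h2

include h𝔉 hU

theorem tr_surjective (k : ℕ) : Function.Surjective (tr h𝔛.1 k (𝔉 := 𝔉) U) := by
  have hN := h𝔛.2.2 (k + 1)
  have hc := (h𝔛.1 k).1
  intro y
  obtain ⟨n, m, s, r, hs, hr⟩ := AffPres.exists_pres (lv h𝔛.1 (k + 1) 𝔉) (isCoh_lv h𝔛 𝔉 h𝔉 (k + 1))
    (isAffineOpen_lvU h𝔛 hU (k + 1))
  obtain ⟨z, hz⟩ := us_surjective (f := 𝔛.ι k) (isAffineOpen_lvU h𝔛 hU (k + 1)) (lv h𝔛.1 (k + 1) 𝔉)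
    (isQCoh_pull_lv h𝔛 h𝔉 k) hs
    (app ((pullIso h𝔛.1 k).inv.app 𝔉) _ (res (lv h𝔛.1 k 𝔉) (𝔛.lvU_succ h𝔛.1 k U).le y))
  refine ⟨z, ?_⟩
  rw [tr_eq, hz]
  have e : (pullIso h𝔛.1 k).inv.app 𝔉 ≫ (pullIso h𝔛.1 k).hom.app 𝔉 = 𝟙 _ := (pullIso h𝔛.1 k).inv_hom_id_app 𝔉
  have e1 := congrArg (fun g : (FSch.levelMor 𝔛 h𝔛.1 k).pull.obj 𝔉 ⟶ (FSch.levelMor 𝔛 h𝔛.1 k).pull.obj 𝔉 =>
    res (lv h𝔛.1 k 𝔉) (𝔛.lvU_le h𝔛.1 k U) (app g _ (res (lv h𝔛.1 k 𝔉) (𝔛.lvU_succ h𝔛.1 k U).le y))) e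
  refine e1.trans ?_
  refine (res_res (lv h𝔛.1 k 𝔉) _ _ y).trans (res_self _ _ y)

theorem mem_of_tr_eq_zero (k : ℕ) (z : Sec (lv h𝔛.1 (k + 1) 𝔉) (𝔛.lvU h𝔛.1 (k + 1) U)) (hz : tr h𝔛.1 k U z = 0) :
    z ∈ (RingHom.ker (cm (schφ (𝔛.ι k)) (𝔛.lvU h𝔛.1 (k + 1) U)) • ⊤ :
      Submodule (O (𝔛.X (k + 1)).sheaf (𝔛.lvU h𝔛.1 (k + 1) U)) (Sec (lv h𝔛.1 (k + 1) 𝔉) (𝔛.lvU h𝔛.1 (k + 1) U))) := by
  have hN := h𝔛.2.2 (k + 1)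
  have hc := (h𝔛.1 k).1
  obtain ⟨n, m, s, r, hs, hr⟩ := AffPres.exists_pres (lv h𝔛.1 (k + 1) 𝔉) (isCoh_lv h𝔛 𝔉 h𝔉 (k + 1))
    (isAffineOpen_lvU h𝔛 hU (k + 1))
  refine mem_of_us_eq_zero (f := 𝔛.ι k) (isAffineOpen_lvU h𝔛 hU (k + 1)) (lv h𝔛.1 (k + 1) 𝔉)
    (isQCoh_lv h𝔛 𝔉 h𝔉 (k + 1)) hs hr z ?_
  rw [tr_eq] at hz
  have h1 : app ((pullIso h𝔛.1 k).hom.app 𝔉) _
      (us (schAdj (𝔛.ι k)) (M := lv h𝔛.1 (k + 1) 𝔉) (𝔛.lvU h𝔛.1 (k + 1) U) z) = 0 := by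
    have := congrArg (res (lv h𝔛.1 k 𝔉) (𝔛.lvU_succ h𝔛.1 k U).le) hz
    rw [map_zero] at this
    refine Eq.trans ?_ this
    refine ((res_res (lv h𝔛.1 k 𝔉) _ _ _).trans (res_self _ _ _)).symm
  have e : (pullIso h𝔛.1 k).hom.app 𝔉 ≫ (pullIso h𝔛.1 k).inv.app 𝔉 = 𝟙 _ := (pullIso h𝔛.1 k).hom_inv_id_app 𝔉
  have e1 := congrArg (fun g : (Scheme.Modules.pullback (𝔛.ι k)).obj ((FSch.levelMor 𝔛 h𝔛.1 (k + 1)).pull.obj 𝔉) ⟶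
      (Scheme.Modules.pullback (𝔛.ι k)).obj ((FSch.levelMor 𝔛 h𝔛.1 (k + 1)).pull.obj 𝔉) =>
    app g _ (us (schAdj (𝔛.ι k)) (M := lv h𝔛.1 (k + 1) 𝔉) (𝔛.lvU h𝔛.1 (k + 1) U) z)) e
  refine e1.symm.trans ?_
  refine (congrArg (app ((pullIso h𝔛.1 k).inv.app 𝔉) _) h1).trans ?_
  exact (app ((pullIso h𝔛.1 k).inv.app 𝔉) _).map_zero

/-- Sections of a coherent module over any affine open. -/
theorem main :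
    IsAdicComplete (II h𝔛.1 U) (Sec 𝔉 U) ∧
    (∀ k, Function.Surjective (ul h𝔛.1 k (𝔉 := 𝔉) U) ∧
      ∀ t : Sec 𝔉 U, ul h𝔛.1 k U t = 0 ↔ t ∈ (II h𝔛.1 U ^ (k + 1) • ⊤ : Submodule (O (𝔛.Osh h𝔛.1) U) (Sec 𝔉 U))) ∧
    Module.Finite (O (𝔛.Osh h𝔛.1) U) (Sec 𝔉 U) := by
  have hA1 := isAdicComplete_II h𝔛 hU
  have hA2 := isNoetherianRing_O h𝔛 hU
  have hiso := isIso_toReal h𝔛 𝔉 h𝔉
  letI : ∀ k, Module (O (𝔛.Osh h𝔛.1) U) (Sec (lv h𝔛.1 k 𝔉) (𝔛.lvU h𝔛.1 k U)) := fun k =>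
    Module.compHom _ (prO h𝔛.1 k U)
  have hsm : ∀ k (a : O (𝔛.Osh h𝔛.1) U) (z : Sec (lv h𝔛.1 k 𝔉) (𝔛.lvU h𝔛.1 k U)), a • z = prO h𝔛.1 k U a • z :=
    fun k a z => rfl
  let f : ∀ k, Sec (lv h𝔛.1 (k + 1) 𝔉) (𝔛.lvU h𝔛.1 (k + 1) U) →ₗ[O (𝔛.Osh h𝔛.1) U]
      Sec (lv h𝔛.1 k 𝔉) (𝔛.lvU h𝔛.1 k U) := fun k =>
    { tr h𝔛.1 k U with map_smul' := fun a z => tr_smul h𝔛.1 k U a z }
  let π : ∀ k, Sec 𝔉 U →ₗ[O (𝔛.Osh h𝔛.1) U] Sec (lv h𝔛.1 k 𝔉) (𝔛.lvU h𝔛.1 k U) := fun k =>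
    { ul h𝔛.1 k U with map_smul' := fun a z => ul_smul h𝔛.1 k U a z }
  have hker : ∀ k, LinearMap.ker (f k) = II h𝔛.1 U ^ (k + 1) •
      (⊤ : Submodule (O (𝔛.Osh h𝔛.1) U) (Sec (lv h𝔛.1 (k + 1) 𝔉) (𝔛.lvU h𝔛.1 (k + 1) U))) := by
    intro k
    apply le_antisymm
    · intro z hz
      have h1 := mem_of_tr_eq_zero h𝔛 h𝔉 hU k z hz
      refine Submodule.smul_induction_on h1 (fun b hb y _ => ?_) fun a b ha hb => Submodule.add_mem _ ha hb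
      obtain ⟨a, ha⟩ := prO_surjective h𝔛 hU (k + 1) b
      rw [← ha]
      have h2 : a ∈ II h𝔛.1 U ^ (k + 1) :=
        (mem_II_pow h𝔛 hU k a).2 (ker_cm_le h𝔛.1 k b (RingHom.mem_ker.1 hb) a ha)
      exact Submodule.smul_mem_smul h2 (Submodule.mem_top (x := y))
    · rw [Submodule.smul_le]
      intro a ha z _
      rw [LinearMap.mem_ker]
      refine (tr_smul h𝔛.1 k U a z).trans ?_
      rw [(mem_II_pow h𝔛 hU k a).1 ha, zero_smul]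
  have hf : ∀ k, Function.Surjective (f k) := tr_surjective h𝔛 h𝔉 hU
  have hπ : ∀ k, f k ∘ₗ π (k + 1) = π k := fun k => LinearMap.ext fun t => tr_ul h𝔛.1 k U t
  have hinj : ∀ x : Sec 𝔉 U, (∀ k, π k x = 0) → x = 0 := by
    intro x hx
    have hb : Function.Injective (app (toReal h𝔛.1 𝔉) U) := (RExact.mono_iff_app _).1 inferInstance U
    apply hb
    rw [map_zero]
    refine RLim.lim_ext _ _ _ fun k => ?_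
    refine (app_toReal h𝔛.1 𝔉 k U x).trans ((hx k).trans ?_)
    exact (app (FSch.realProj 𝔛 h𝔛.1 (sysOf h𝔛.1 𝔉).F (sysOf h𝔛.1 𝔉).toPush k) U).map_zero.symm
  have hlift : ∀ y : (∀ k, Sec (lv h𝔛.1 k 𝔉) (𝔛.lvU h𝔛.1 k U)), (∀ k, f k (y (k + 1)) = y k) →
      ∃ x : Sec 𝔉 U, ∀ k, π k x = y k := by
    intro y hy
    obtain ⟨z, hz⟩ := RLim.lim_lift (FSch.levelSysOf 𝔛 h𝔛.1 (sysOf h𝔛.1 𝔉).F (sysOf h𝔛.1 𝔉).toPush) (V := U)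
      (fun k => toPush (lvφ h𝔛.1 k) (y k)) (fun k => by
        rw [FSch.levelSysOf_map_succ]
        exact hy k)
    refine ⟨app (inv (toReal h𝔛.1 𝔉)) U z, fun k => ?_⟩
    refine (app_toReal h𝔛.1 𝔉 k U _).symm.trans ?_
    have e : inv (toReal h𝔛.1 𝔉) ≫ toReal h𝔛.1 𝔉 = 𝟙 _ := IsIso.inv_hom_id _
    have e1 : app (toReal h𝔛.1 𝔉) U (app (inv (toReal h𝔛.1 𝔉)) U z) = z :=
      congrArg (fun g => app g U z) e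
    rw [e1]
    exact hz k
  obtain ⟨h1, h2, h3⟩ := Groth.Agent.Ega1.LimitSystem.main (IsNoetherian.noetherian (II h𝔛.1 U)) hf hker hπ hinj hlift
  refine ⟨h1, fun k => ⟨(h2 k).1, fun t => ?_⟩, h3 hA1 ?_⟩
  · rw [← (h2 k).2]
    exact Iff.rfl
  · have hN := h𝔛.2.2 0
    have hq : (show (𝔛.X 0).Modules from lv h𝔛.1 0 𝔉).IsQuasicoherent := isQCoh_lv h𝔛 𝔉 h𝔉 0
    have hfin : Module.Finite (O (𝔛.X 0).sheaf (𝔛.lvU h𝔛.1 0 U)) (Sec (lv h𝔛.1 0 𝔉) (𝔛.lvU h𝔛.1 0 U)) :=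
      Groth.Agent.Ega1.QCohFinite.finite_sections (show (𝔛.X 0).Modules from lv h𝔛.1 0 𝔉)
        (isCoh_lv h𝔛 𝔉 h𝔉 0).2 (isAffineOpen_lvU h𝔛 hU 0)
    letI : Algebra (O (𝔛.Osh h𝔛.1) U) (O (𝔛.X 0).sheaf (𝔛.lvU h𝔛.1 0 U)) := (prO h𝔛.1 0 U).toAlgebra
    haveI : IsScalarTower (O (𝔛.Osh h𝔛.1) U) (O (𝔛.X 0).sheaf (𝔛.lvU h𝔛.1 0 U))
        (Sec (lv h𝔛.1 0 𝔉) (𝔛.lvU h𝔛.1 0 U)) := ⟨fun a b z => by rw [Algebra.smul_def, mul_smul]; rfl⟩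
    have hfin' : Module.Finite (O (𝔛.Osh h𝔛.1) U) (O (𝔛.X 0).sheaf (𝔛.lvU h𝔛.1 0 U)) :=
      Module.Finite.of_surjective (Algebra.linearMap (O (𝔛.Osh h𝔛.1) U) (O (𝔛.X 0).sheaf (𝔛.lvU h𝔛.1 0 U)))
        (prO_surjective h𝔛 hU 0)
    exact Module.Finite.trans (O (𝔛.X 0).sheaf (𝔛.lvU h𝔛.1 0 U)) _

end Noeth

end K29.Fml
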