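import Groth.Agent.FCompl.K29.AffPres
import Groth.Agent.FTors.K919.AffFlat
import Groth.Prelude.Def_FSch6

/-!
# Modules on a formal scheme: the inverse images to the levels, on sections
-/

set_option autoImplicit false
set_option linter.style.haveILetI false
universe u

open CategoryTheory TopologicalSpace Opposite CategoryTheory.Limits AlgebraicGeometry

noncomputable section

namespace K29.Fml

open K29.RSec K29.RStalk K29.RPull K29.RPres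

variable {𝔛 : FSch.Sys.{u}} (h : 𝔛.IsFormal)

/-- The comorphism of `u_n`. -/
def lvφ (n : ℕ) : ringSheaf (𝔛.Osh h) ⟶ ((Opens.map (𝔛.gInv h n)).sheafPushforwardContinuous RingCat.{u}
    (Opens.grothendieckTopology (𝔛.X 0).carrier) (Opens.grothendieckTopology (𝔛.X n).carrier)).obj
      (ringSheaf (𝔛.X n).sheaf) :=
  (FSch.levelMor 𝔛 h n).sharpR

/-- The adjunction of `u_n`. -/
def lvAdj (n : ℕ) : (FSch.levelMor 𝔛 h n).pull ⊣ push (lvφ h n) := (FSch.levelMor 𝔛 h n).adj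

/-- `u_n^* 𝔉`. -/
abbrev lv (n : ℕ) (𝔉 : Mod (𝔛.Osh h)) : Mod (𝔛.X n).sheaf := (FSch.levelMor 𝔛 h n).pull.obj 𝔉

/-- Sections over `U` at level `n`. -/
abbrev prO (n : ℕ) (V : (𝔛.X 0).Opens) : O (𝔛.Osh h) V →+* O (𝔛.X n).sheaf (𝔛.lvU h n V) := cm (lvφ h n) V

theorem prO_eq (n : ℕ) (V : (𝔛.X 0).Opens) (x : O (𝔛.Osh h) V) : prO h n V x = K919.AffBasic.pr 𝔛 h n V x := rfl

/-- Sections over `U` at level `n`. -/
def ul (n : ℕ) {𝔉 : Mod (𝔛.Osh h)} (V : (𝔛.X 0).Opens) : Sec 𝔉 V →+ Sec (lv h n 𝔉) (𝔛.lvU h n V) :=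
  us (lvAdj h n) V

theorem ul_smul (n : ℕ) {𝔉 : Mod (𝔛.Osh h)} (V : (𝔛.X 0).Opens) (r : O (𝔛.Osh h) V) (m : Sec 𝔉 V) :
    ul h n V (r • m) = prO h n V r • ul h n V m := us_smul (lvAdj h n) V r m

theorem lvU_mono (n : ℕ) {V W : (𝔛.X 0).Opens} (hW : W ≤ V) : 𝔛.lvU h n W ≤ 𝔛.lvU h n V := pre_mono _ hW

theorem ul_res (n : ℕ) {𝔉 : Mod (𝔛.Osh h)} {V W : (𝔛.X 0).Opens} (hW : W ≤ V) (m : Sec 𝔉 V) :
    ul h n W (res 𝔉 hW m) = res _ (lvU_mono h n hW) (ul h n V m) := us_res (lvAdj h n) hW m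

theorem prO_res (n : ℕ) {V W : (𝔛.X 0).Opens} (hW : W ≤ V) (m : O (𝔛.Osh h) V) :
    prO h n W (resO hW m) = resO (lvU_mono h n hW) (prO h n V m) := cm_resO (lvφ h n) hW m

/-- The transition maps on sections. -/
theorem ul_succ_eq_zero (n : ℕ) {𝔉 : Mod (𝔛.Osh h)} (V : (𝔛.X 0).Opens) (m : Sec 𝔉 V)
    (hm : ul h (n + 1) V m = 0) : ul h n V m = 0 := by
  have e := FSch.unit_levelTrans 𝔛 h 𝔉 n
  have e' := congrArg (fun g : 𝔉 ⟶ _ => app g V m) e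
  refine (show ul h n V m = _ from e'.symm).trans ?_
  change app (FSch.levelTrans 𝔛 h 𝔉 n) V (app ((FSch.levelMor 𝔛 h (n + 1)).adj.unit.app 𝔉) V m) = 0
  have : app ((FSch.levelMor 𝔛 h (n + 1)).adj.unit.app 𝔉) V m = 0 := hm
  rw [this, map_zero]

/-- The ideal of definition `ker (O_𝔛(V) → O_{X_0}(V))`. -/
def II (V : (𝔛.X 0).Opens) : Ideal (O (𝔛.Osh h) V) := RingHom.ker (prO h 0 V)

theorem prO_succ_eq_zero (n : ℕ) (V : (𝔛.X 0).Opens) (x : O (𝔛.Osh h) V) (hx : prO h (n + 1) V x = 0) :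
    prO h n V x = 0 := by
  have e := K919.AffBasic.tr_pr 𝔛 h n V x
  refine (show prO h n V x = _ from e.symm).trans ?_
  have : K919.AffBasic.pr 𝔛 h (n + 1) V x = 0 := hx
  exact (congrArg (K919.AffBasic.tr 𝔛 h n V) this).trans (map_zero _)

theorem prO_le_eq_zero {n k : ℕ} (hnk : n ≤ k) (V : (𝔛.X 0).Opens) (x : O (𝔛.Osh h) V) (hx : prO h k V x = 0) :
    prO h n V x = 0 := by
  induction hnk with
  | refl => exact hx
  | step _ ih => exact ih (prO_succ_eq_zero h _ V x hx)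

theorem ul_le_eq_zero {n k : ℕ} (hnk : n ≤ k) {𝔉 : Mod (𝔛.Osh h)} (V : (𝔛.X 0).Opens) (m : Sec 𝔉 V)
    (hm : ul h k V m = 0) : ul h n V m = 0 := by
  induction hnk with
  | refl => exact hm
  | step _ ih => exact ih (ul_succ_eq_zero h _ V m hm)

section Noeth

variable (h𝔛 : 𝔛.IsLocNoethFormal) {V : (𝔛.X 0).Opens} (hV : IsAffineOpen (𝔛.lvU h𝔛.1 0 V))

include hV

theorem prO_surjective (k : ℕ) : Function.Surjective (prO h𝔛.1 k V) := K919.AffBasic.pr_surjective h𝔛 hV k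

theorem mem_II_pow (k : ℕ) (x : O (𝔛.Osh h𝔛.1) V) : x ∈ II h𝔛.1 V ^ (k + 1) ↔ prO h𝔛.1 k V x = 0 := by
  have e := K919.AffBasic.ker_pr h𝔛 hV k
  exact (iff_of_eq (congrArg (fun J => x ∈ J) e)).symm

theorem isAdicComplete_II : IsAdicComplete (II h𝔛.1 V) (O (𝔛.Osh h𝔛.1) V) :=
  K919.AffBasic.isAdicComplete h𝔛 hV

theorem isNoetherianRing_O : IsNoetherianRing (O (𝔛.Osh h𝔛.1) V) :=
  K919.AffBasic.isNoetherianRing_OU h𝔛 hV

theorem isAffineOpen_lvU (n : ℕ) : IsAffineOpen (𝔛.lvU h𝔛.1 n V) :=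
  K919.AffBasic.isAffineOpen_lvU 𝔛 h𝔛.1 hV n

end Noeth

end K29.Fml
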