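import Groth.Agent.FCompl.K29.FmlGen
import Mathlib.RingTheory.IsTensorProduct

/-!
# Coherent modules on a locally Noetherian formal scheme are cartesian on affine opens
-/

set_option autoImplicit false
set_option linter.style.haveILetI false
universe u

open CategoryTheory TopologicalSpace Opposite CategoryTheory.Limits AlgebraicGeometry

noncomputable section

namespace K29.Fml

open K29.RSec K29.RStalk K29.RPull K29.RPres K29.ClImm

section Alg

open TensorProduct

variable {A B : Type*} [CommRing A] [CommRing B] [Algebra A B] {M N : Type*} [AddCommGroup M] [AddCommGroup N]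
  [Module A M] [Module A N] [Module B N] [IsScalarTower A B N] (g : M →ₗ[A] N) {n m : ℕ} (s : Fin n → M)
  (r : Fin m → Fin n → A)

theorem exists_tmul (hs : ∀ t : M, ∃ c : Fin n → A, t = ∑ j, c j • s j) (z : B ⊗[A] M) :
    ∃ b : Fin n → B, z = ∑ j, b j ⊗ₜ[A] s j := by
  induction z with
  | zero => exact ⟨0, by simp⟩
  | add a b ha hb =>
    obtain ⟨c, rfl⟩ := ha
    obtain ⟨c', rfl⟩ := hb
    exact ⟨c + c', by simp [TensorProduct.add_tmul, Finset.sum_add_distrib]⟩
  | tmul b t =>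
    obtain ⟨c, rfl⟩ := hs t
    refine ⟨fun j => c j • b, ?_⟩
    rw [TensorProduct.tmul_sum]
    exact Finset.sum_congr rfl fun j _ => by rw [TensorProduct.tmul_smul, TensorProduct.smul_tmul']

/-- A presentation of `M` mapping to a presentation of `N` over `B` exhibits `N` as the base change. -/
theorem isBaseChange_of_pres (hs : ∀ t : M, ∃ c : Fin n → A, t = ∑ j, c j • s j)
    (hr : ∀ k, ∑ j, r k j • s j = 0)
    (hs' : ∀ t : N, ∃ c : Fin n → B, t = ∑ j, c j • g (s j))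
    (hr' : ∀ c : Fin n → B, ∑ j, c j • g (s j) = 0 → ∃ d : Fin m → B, ∀ j, c j = ∑ k, d k * algebraMap A B (r k j)) :
    IsBaseChange B g := by
  suffices h : Function.Bijective (LinearMap.liftBaseChange B g) from h
  constructor
  · rw [injective_iff_map_eq_zero]
    intro z hz
    obtain ⟨b, rfl⟩ := exists_tmul (B := B) s hs z
    rw [map_sum] at hz
    simp only [LinearMap.liftBaseChange_tmul] at hz
    obtain ⟨d, hd⟩ := hr' b hz
    simp only [hd, TensorProduct.sum_tmul]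
    rw [Finset.sum_comm]
    refine Finset.sum_eq_zero fun k _ => ?_
    have h1 : ∀ j, (d k * algebraMap A B (r k j)) ⊗ₜ[A] s j = d k ⊗ₜ[A] (r k j • s j) := by
      intro j
      rw [TensorProduct.tmul_smul, TensorProduct.smul_tmul', Algebra.smul_def, mul_comm]
    rw [Finset.sum_congr rfl fun j _ => h1 j, ← TensorProduct.tmul_sum, hr k, TensorProduct.tmul_zero]
  · intro t
    obtain ⟨c, rfl⟩ := hs' t
    refine ⟨∑ j, c j ⊗ₜ[A] s j, ?_⟩
    rw [map_sum]
    exact Finset.sum_congr rfl fun j _ => LinearMap.liftBaseChange_tmul _ _ _ _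

end Alg

section Res

variable {T : TopCat.{u}} {R : Sheaf (Opens.grothendieckTopology T) CommRingCat.{u}}

/-- Restriction of sections as a linear map. -/
def resₗ (M : Mod R) {V W : Opens T} (h : W ≤ V) :
    letI : Module (O R V) (Sec M W) := Module.compHom _ (resO (R := R) h)
    Sec M V →ₗ[O R V] Sec M W :=
  letI : Module (O R V) (Sec M W) := Module.compHom _ (resO (R := R) h)
  { res M h with map_smul' := fun a m => res_smul M h a m }

theorem resₗ_apply (M : Mod R) {V W : Opens T} (h : W ≤ V) (m : Sec M V) :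
    letI : Module (O R V) (Sec M W) := Module.compHom _ (resO (R := R) h)
    resₗ M h m = res M h m := rfl

theorem isScalarTower_res (M : Mod R) {V W : Opens T} (h : W ≤ V) :
    letI : Algebra (O R V) (O R W) := (resO (R := R) h).toAlgebra
    letI : Module (O R V) (Sec M W) := Module.compHom _ (resO (R := R) h)
    IsScalarTower (O R V) (O R W) (Sec M W) := by
  letI : Algebra (O R V) (O R W) := (resO (R := R) h).toAlgebra
  letI : Module (O R V) (Sec M W) := Module.compHom _ (resO (R := R) h)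
  refine ⟨fun a b z => ?_⟩
  rw [Algebra.smul_def, mul_smul]
  rfl

end Res

variable {𝔛 : FSch.Sys.{u}} (h𝔛 : 𝔛.IsLocNoethFormal) {𝔉 : FSch.ModF 𝔛 h𝔛.1} (h𝔉 : FSch.IsCohF 𝔛 h𝔛.1 𝔉)
  {U V : (𝔛.X 0).Opens} (hU : IsAffineOpen (𝔛.lvU h𝔛.1 0 U)) (hV : IsAffineOpen (𝔛.lvU h𝔛.1 0 V)) (hVU : V ≤ U)

include h𝔉 hU hV

/-- A coherent module is cartesian on affine opens: `𝔉(V) = 𝔉(U) ⊗ O(V)`. -/
theorem isBaseChange_res :
    letI : Algebra (O (𝔛.Osh h𝔛.1) U) (O (𝔛.Osh h𝔛.1) V) := (resO hVU).toAlgebra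
    letI : Module (O (𝔛.Osh h𝔛.1) U) (Sec 𝔉 V) := Module.compHom _ (resO hVU)
    haveI := isScalarTower_res 𝔉 hVU
    IsBaseChange (O (𝔛.Osh h𝔛.1) V) (resₗ 𝔉 hVU) := by
  letI : Algebra (O (𝔛.Osh h𝔛.1) U) (O (𝔛.Osh h𝔛.1) V) := (resO hVU).toAlgebra
  letI : Module (O (𝔛.Osh h𝔛.1) U) (Sec 𝔉 V) := Module.compHom _ (resO hVU)
  haveI := isScalarTower_res 𝔉 hVU
  obtain ⟨n, m, s, r, hs, hr⟩ := exists_pres h𝔛 h𝔉 hU
  refine isBaseChange_of_pres (resₗ 𝔉 hVU) s r (fun t => ?_) hr.1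
    (fun t => exists_eq_sum h𝔛 hV hVU (isQCoh_lv h𝔛 𝔉 h𝔉) hs hr t)
    (fun c hc => exists_rel h𝔛 hV hVU hs hr c hc)
  obtain ⟨c, hc⟩ := exists_eq_sum h𝔛 hU le_rfl (isQCoh_lv h𝔛 𝔉 h𝔉) hs hr t
  refine ⟨c, ?_⟩
  rw [hc]
  exact Finset.sum_congr rfl fun j _ => by rw [res_self]

end K29.Fml
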