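import Groth.Agent.FCompl.K29.FmlAff

/-!
# Finite presentations of coherent modules on a locally Noetherian formal scheme over affine open subsets
-/

set_option autoImplicit false
set_option linter.style.haveILetI false
universe u

open CategoryTheory TopologicalSpace Opposite CategoryTheory.Limits AlgebraicGeometry

noncomputable section

namespace K29.Fml

open K29.RSec K29.RStalk K29.RPull K29.RPres K29.ClImm

theorem exists_coeff_of_mem {A M : Type*} [CommRing A] [AddCommGroup M] [Module A M] (J : Ideal A) {n : ℕ}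
    (s : Fin n → M) (x : M) (hx : x ∈ J • Submodule.span A (Set.range s)) :
    ∃ b : Fin n → A, (∀ j, b j ∈ J) ∧ x = ∑ j, b j • s j := by
  rw [Submodule.mem_ideal_smul_span_iff_exists_sum] at hx
  obtain ⟨b, hb, hb'⟩ := hx
  exact ⟨b, hb, by rw [← hb', Finsupp.sum_fintype b (fun i c => c • s i) (fun i => zero_smul A (s i))]⟩

variable {𝔛 : FSch.Sys.{u}} (h𝔛 : 𝔛.IsLocNoethFormal) {𝔉 : FSch.ModF 𝔛 h𝔛.1} (h𝔉 : FSch.IsCohF 𝔛 h𝔛.1 𝔉)
  {U : (𝔛.X 0).Opens} (hU : IsAffineOpen (𝔛.lvU h𝔛.1 0 U))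

include h𝔉 hU

theorem gen_lv {n : ℕ} {s : Fin n → Sec 𝔉 U}
    (hs : ∀ t : Sec 𝔉 U, ∃ c : Fin n → O (𝔛.Osh h𝔛.1) U, t = ∑ j, c j • s j) (k : ℕ) :
    Gen (lv h𝔛.1 k 𝔉) (𝔛.lvU h𝔛.1 k U) fun j => ul h𝔛.1 k U (s j) := by
  refine AffPres.gen_of_affine _ (isQCoh_lv h𝔛 𝔉 h𝔉 k) (isAffineOpen_lvU h𝔛 hU k) fun t => ?_
  obtain ⟨t, rfl⟩ := ((main h𝔛 h𝔉 hU).2.1 k).1 t
  obtain ⟨c, rfl⟩ := hs t
  refine ⟨fun j => prO h𝔛.1 k U (c j), ?_⟩
  rw [map_sum]
  exact Finset.sum_congr rfl fun j _ => ul_smul h𝔛.1 k U _ _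

/-- Generators of `𝔉(U)` generate `𝔉` over `U`. -/
theorem gen_of_affine {n : ℕ} {s : Fin n → Sec 𝔉 U}
    (hs : ∀ t : Sec 𝔉 U, ∃ c : Fin n → O (𝔛.Osh h𝔛.1) U, t = ∑ j, c j • s j) : Gen 𝔉 U s := by
  intro V hV t x hx
  obtain ⟨V', hxV', hV', hV'a⟩ := exists_affine_nhd h𝔛.1 x V hx
  have hA := isAdicComplete_II h𝔛 hV'a
  have hfin := (main h𝔛 h𝔉 hV'a).2.2
  let P : Submodule (O (𝔛.Osh h𝔛.1) V') (Sec 𝔉 V') := Submodule.span _ (Set.range fun j => res 𝔉 (hV'.trans hV) (s j))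
  have key : (⊤ : Submodule (O (𝔛.Osh h𝔛.1) V') (Sec 𝔉 V')) ≤ P := by
    refine Submodule.le_of_le_smul_of_le_jacobson_bot (I := II h𝔛.1 V') hfin.fg_top
      (IsAdicComplete.le_jacobson_bot _) fun t' _ => ?_
    obtain ⟨c, hc⟩ := AffPres.exists_eq_sum _ (isQCoh_lv h𝔛 𝔉 h𝔉 0) (isAffineOpen_lvU h𝔛 hV'a 0)
      (lvU_mono h𝔛.1 0 (hV'.trans hV)) (gen_lv h𝔛 h𝔉 hU hs 0) (ul h𝔛.1 0 V' t')
    choose c' hc' using fun j => prO_surjective h𝔛 hV'a 0 (c j)
    have h1 : ul h𝔛.1 0 V' (t' - ∑ j, c' j • res 𝔉 (hV'.trans hV) (s j)) = 0 := by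
      rw [map_sub, hc, map_sum, sub_eq_zero]
      refine Finset.sum_congr rfl fun j _ => ?_
      rw [ul_smul, hc', ul_res]
    have h2 := (((main h𝔛 h𝔉 hV'a).2.1 0).2 _).1 h1
    rw [zero_add, pow_one] at h2
    have h3 : t' = ∑ j, c' j • res 𝔉 (hV'.trans hV) (s j) + (t' - ∑ j, c' j • res 𝔉 (hV'.trans hV) (s j)) := by
      rw [add_sub_cancel]
    rw [h3]
    exact Submodule.add_mem_sup (P.sum_mem fun j _ => P.smul_mem _ (Submodule.subset_span ⟨j, rfl⟩)) h2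
  obtain ⟨c, hc⟩ := (Submodule.mem_span_range_iff_exists_fun _).1 (key (Submodule.mem_top (x := res 𝔉 hV' t)))
  exact ⟨V', hV', hxV', c, hc.symm⟩

/-- Relations between generators of `𝔉(U)` generate the relations of `𝔉` over `U`. -/
theorem rel_of_affine {n m : ℕ} {s : Fin n → Sec 𝔉 U} {r : Fin m → Fin n → O (𝔛.Osh h𝔛.1) U}
    (hs : ∀ t : Sec 𝔉 U, ∃ c : Fin n → O (𝔛.Osh h𝔛.1) U, t = ∑ j, c j • s j)
    (h0 : ∀ k, ∑ j, r k j • s j = 0)
    (hr : ∀ c : Fin n → O (𝔛.Osh h𝔛.1) U, ∑ j, c j • s j = 0 →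
      ∃ d : Fin m → O (𝔛.Osh h𝔛.1) U, ∀ j, c j = ∑ k, d k * r k j) : Rel 𝔉 U s r := by
  refine ⟨h0, fun V hV c hc x hx => ?_⟩
  obtain ⟨V', hxV', hV', hV'a⟩ := exists_affine_nhd h𝔛.1 x V hx
  have hA := isAdicComplete_II h𝔛 hV'a
  have hA' := isNoetherianRing_O h𝔛 hV'a
  let P : Submodule (O (𝔛.Osh h𝔛.1) V') (Fin n → O (𝔛.Osh h𝔛.1) V') :=
    Submodule.span _ (Set.range fun k => fun j => resO (hV'.trans hV) (r k j))
  have key : (fun j => resO hV' (c j)) ∈ P := by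
    refine mem_of_forall (II h𝔛.1 V') P _ fun k => ?_
    have hrk : Rel (lv h𝔛.1 k 𝔉) (𝔛.lvU h𝔛.1 k U) (fun j => ul h𝔛.1 k U (s j))
        (fun l j => prO h𝔛.1 k U (r l j)) := by
      refine AffPres.rel_of_affine _ (isQCoh_lv h𝔛 𝔉 h𝔉 k) (isAffineOpen_lvU h𝔛 hU k) (fun l => ?_) fun a ha => ?_
      · have := congrArg (ul h𝔛.1 k U) (h0 l)
        rw [map_sum, map_zero] at this
        rw [← this]
        exact Finset.sum_congr rfl fun j _ => (ul_smul h𝔛.1 k U _ _).symm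
      · choose a' ha' using fun j => prO_surjective h𝔛 hU k (a j)
        have h1 : ul h𝔛.1 k U (∑ j, a' j • s j) = 0 := by
          rw [map_sum, ← ha]
          exact Finset.sum_congr rfl fun j _ => by rw [ul_smul, ha']
        have h2 := (((main h𝔛 h𝔉 hU).2.1 k).2 _).1 h1
        have h3 : (⊤ : Submodule (O (𝔛.Osh h𝔛.1) U) (Sec 𝔉 U)) = Submodule.span _ (Set.range s) := by
          refine le_antisymm (fun t _ => ?_) le_top
          obtain ⟨c, rfl⟩ := hs t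
          exact Submodule.sum_mem _ fun j _ => Submodule.smul_mem _ _ (Submodule.subset_span ⟨j, rfl⟩)
        rw [h3] at h2
        obtain ⟨b, hb, hb'⟩ := exists_coeff_of_mem _ _ _ h2
        obtain ⟨d, hd⟩ := hr (fun j => a' j - b j) (by
          simp only [sub_smul]
          rw [Finset.sum_sub_distrib, hb', sub_self])
        refine ⟨fun l => prO h𝔛.1 k U (d l), fun j => ?_⟩
        have h4 := congrArg (prO h𝔛.1 k U) (hd j)
        rw [map_sub, ha', (mem_II_pow h𝔛 hU k _).1 (hb j), sub_zero, map_sum] at h4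
        rw [h4]
        exact Finset.sum_congr rfl fun l _ => map_mul _ _ _
    obtain ⟨d, hd⟩ := AffPres.exists_rel _ (isAffineOpen_lvU h𝔛 hV'a k) (lvU_mono h𝔛.1 k (hV'.trans hV)) hrk
      (fun j => prO h𝔛.1 k V' (resO hV' (c j))) (by
        have := congrArg (fun z => ul h𝔛.1 k V' (res 𝔉 hV' z)) hc
        simp only [map_sum, map_zero] at this
        rw [← this]
        refine Finset.sum_congr rfl fun j _ => ?_
        rw [res_smul, res_res, ul_smul, ul_res])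
    choose d' hd' using fun l => prO_surjective h𝔛 hV'a k (d l)
    refine ⟨∑ l, d' l • fun j => resO (hV'.trans hV) (r l j), P.sum_mem fun l _ =>
      P.smul_mem _ (Submodule.subset_span ⟨l, rfl⟩), fun j => ?_⟩
    rw [mem_II_pow h𝔛 hV'a k, map_sub, hd, Finset.sum_apply, map_sum, sub_eq_zero]
    refine Finset.sum_congr rfl fun l _ => ?_
    change _ = prO h𝔛.1 k V' (d' l * resO (hV'.trans hV) (r l j))
    rw [map_mul, hd', prO_res]
  obtain ⟨d, hd⟩ := (Submodule.mem_span_range_iff_exists_fun _).1 key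
  refine ⟨V', hV', hxV', d, fun j => ?_⟩
  have := congrFun hd j
  simpa using this.symm

/-- A coherent module on a locally Noetherian formal scheme has a finite presentation over every affine open. -/
theorem exists_pres : ∃ (n m : ℕ) (s : Fin n → Sec 𝔉 U) (r : Fin m → Fin n → O (𝔛.Osh h𝔛.1) U),
    Gen 𝔉 U s ∧ Rel 𝔉 U s r := by
  have hN := isNoetherianRing_O h𝔛 hU
  have hfin := (main h𝔛 h𝔉 hU).2.2
  obtain ⟨n, s, hs⟩ := Module.Finite.exists_fin (R := O (𝔛.Osh h𝔛.1) U) (M := Sec 𝔉 U)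
  let G : (Fin n → O (𝔛.Osh h𝔛.1) U) →ₗ[O (𝔛.Osh h𝔛.1) U] Sec 𝔉 U :=
    Fintype.linearCombination (O (𝔛.Osh h𝔛.1) U) s
  obtain ⟨m, r, hr⟩ := Submodule.fg_iff_exists_fin_generating_family.1
    (IsNoetherian.noetherian (LinearMap.ker G))
  have hs' : ∀ t : Sec 𝔉 U, ∃ c : Fin n → O (𝔛.Osh h𝔛.1) U, t = ∑ j, c j • s j := by
    intro t
    have : t ∈ Submodule.span (O (𝔛.Osh h𝔛.1) U) (Set.range s) := by rw [hs]; trivial
    obtain ⟨c, hc⟩ := (Submodule.mem_span_range_iff_exists_fun _).1 this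
    exact ⟨c, hc.symm⟩
  refine ⟨n, m, s, r, gen_of_affine h𝔛 h𝔉 hU hs', rel_of_affine h𝔛 h𝔉 hU hs' (fun k => ?_) fun c hc => ?_⟩
  · have : r k ∈ LinearMap.ker G := by
      rw [← hr]
      exact Submodule.subset_span ⟨k, rfl⟩
    exact this
  · have : c ∈ Submodule.span (O (𝔛.Osh h𝔛.1) U) (Set.range r) := by
      rw [hr]
      exact hc
    obtain ⟨d, hd⟩ := (Submodule.mem_span_range_iff_exists_fun _).1 this
    refine ⟨d, fun j => ?_⟩
    have := congrFun hd j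
    simpa using this.symm

end K29.Fml
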