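import Groth.Agent.FCompl.K29.FmlCart
import Groth.Agent.S2238
import Groth.Agent.S2239
import Mathlib.RingTheory.Flat.Basic

/-!
# Morphisms of coherent modules on a locally Noetherian formal scheme: injectivity and surjectivity
-/

set_option autoImplicit false
set_option linter.style.haveILetI false
universe u

open CategoryTheory TopologicalSpace Opposite CategoryTheory.Limits AlgebraicGeometry

noncomputable section

namespace K29.AffPres

open K29.RSec K29.RStalk K29.RPres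

variable {X : Scheme.{u}}

/-- An epimorphism of quasi-coherent modules is surjective on sections over affine opens. -/
theorem surjective_of_epi {M N : Mod X.sheaf} (hM : Coh.IsQCoh (show X.Modules from M))
    (hN : Coh.IsQCoh (show X.Modules from N)) (φ : M ⟶ N) [Epi φ] {U : X.Opens} (hU : IsAffineOpen U) :
    Function.Surjective (app φ U) := by
  intro t
  have key : t ∈ LinearMap.range (app φ U) := by
    refine mem_of_cover hU _ t fun x hx => ?_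
    obtain ⟨W, hxW, hWU, z, hz⟩ := (RExact.epi_iff_local φ).1 inferInstance U t x hx
    obtain ⟨f, hfW, hxf⟩ := exists_basicOpen hU W x hx hxW
    obtain ⟨n, (m : Sec M U), hm⟩ := Groth.Agent.Fdesc.QCohStalk.exists_map_eq_pow_smul M hU hM f (res M hfW z)
    have hm' : res M (X.basicOpen_le f) m = resO (R := X.sheaf) (X.basicOpen_le f) f ^ n • res M hfW z := hm
    have h1 : res N (X.basicOpen_le f) (app φ U m - f ^ n • t) = 0 := by
      rw [map_sub, ← app_res, hm', map_smul, app_res, hz, res_res, res_smul, map_pow, sub_self]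
    obtain ⟨k, hk⟩ := Groth.Agent.Fdesc.QCohStalk.exists_pow_smul_eq_zero N hU hN f _ h1
    have hk' : f ^ k • (app φ U m - f ^ n • t) = 0 := hk
    refine ⟨f, k + n, hxf, f ^ k • m, ?_⟩
    rw [smul_sub, sub_eq_zero, smul_smul, ← pow_add] at hk'
    rw [map_smul, hk']
  exact key

end K29.AffPres

namespace K29.Fml

open K29.RSec K29.RStalk K29.RPull K29.RPres K29.ClImm

section Alg

open TensorProduct

variable {A : Type u} [CommRing A]

theorem surjective_of_level (I : Ideal A) (hI : I ≤ Ideal.jacobson ⊥) {M N : Type u} [AddCommGroup M] [Module A M]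
    [AddCommGroup N] [Module A N] [Module.Finite A N] (v : M →ₗ[A] N)
    (h : ∀ n : N, ∃ m : M, n - v m ∈ (I • ⊤ : Submodule A N)) : Function.Surjective v := by
  have key : (⊤ : Submodule A N) ≤ LinearMap.range v := by
    refine Submodule.le_of_le_smul_of_le_jacobson_bot (I := I) Module.Finite.fg_top hI fun n _ => ?_
    obtain ⟨m, hm⟩ := h n
    have : n = v m + (n - v m) := by rw [add_sub_cancel]
    rw [this]
    exact Submodule.add_mem_sup ⟨m, rfl⟩ hm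
  exact fun n => key (Submodule.mem_top (x := n))

theorem surjective_add (I : Ideal A) (hI : I ≤ Ideal.jacobson ⊥) {M N : Type u} [AddCommGroup M] [Module A M]
    [AddCommGroup N] [Module A N] [Module.Finite A N] (v w : M →ₗ[A] N) (hv : Function.Surjective v)
    (hw : ∀ m, w m ∈ (I • ⊤ : Submodule A N)) : Function.Surjective (v + w) := by
  refine surjective_of_level I hI _ fun n => ?_
  obtain ⟨m, rfl⟩ := hv n
  refine ⟨m, ?_⟩
  rw [LinearMap.add_apply, sub_add_cancel_left]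
  exact Submodule.neg_mem _ (hw m)

theorem exists_injective_add [IsNoetherianRing A] (I : Ideal A) [IsAdicComplete I A]
    (M N : Type u) [AddCommGroup M] [Module A M]
    [AddCommGroup N] [Module A N] [Module.Finite A M] [Module.Finite A N] (v : M →ₗ[A] N)
    (hv : Function.Injective v) : ∃ k : ℕ, ∀ k' ≥ k, ∀ w : M →ₗ[A] N,
      (∀ m, w m ∈ (I ^ k' • ⊤ : Submodule A N)) → Function.Injective (v + w) := by
  obtain ⟨n, hn⟩ := Groth.Agent.S2239.result A I M N v hv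
  obtain ⟨k, hk⟩ := Groth.Agent.S2238.result A I M N n
  refine ⟨k, fun k' hk' w hw => hn w (hk w ?_)⟩
  rintro _ ⟨m, rfl⟩
  exact Submodule.smul_mono (Ideal.pow_le_pow_right hk') le_rfl (hw m)

/-- Injectivity after flat base change. -/
theorem injective_of_isBaseChange {A B : Type*} [CommRing A] [CommRing B] [Algebra A B] [Module.Flat A B]
    {M N M' N' : Type*} [AddCommGroup M] [AddCommGroup N] [AddCommGroup M'] [AddCommGroup N']
    [Module A M] [Module A N] [Module A M'] [Module A N'] [Module B M'] [Module B N']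
    [IsScalarTower A B M'] [IsScalarTower A B N'] (i : M →ₗ[A] M') (j : N →ₗ[A] N')
    (hi : IsBaseChange B i) (hj : IsBaseChange B j) (v : M →ₗ[A] N) (hv : Function.Injective v)
    (v' : M' →ₗ[B] N') (hvv : ∀ m, v' (i m) = j (v m)) : Function.Injective v' := by
  have h1 : Function.Injective (v.lTensor B) := Module.Flat.lTensor_preserves_injective_linearMap v hv
  have h2 : ∀ z : B ⊗[A] M, v' (hi.equiv z) = hj.equiv (v.lTensor B z) := by
    intro z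
    induction z with
    | zero => simp
    | add a b ha hb => rw [map_add, map_add, map_add, map_add, ha, hb]
    | tmul b m =>
      rw [hi.equiv_tmul, map_smul, hvv, LinearMap.lTensor_tmul, hj.equiv_tmul]
  intro a b hab
  obtain ⟨a, rfl⟩ := hi.equiv.surjective a
  obtain ⟨b, rfl⟩ := hi.equiv.surjective b
  rw [h2, h2] at hab
  rw [h1 (hj.equiv.injective hab)]

end Alg

variable {𝔛 : FSch.Sys.{u}} (h : 𝔛.IsFormal)

/-- Every open of a level comes from the common space. -/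
theorem exists_lvU (k : ℕ) (W : (𝔛.X k).Opens) : ∃ V : (𝔛.X 0).Opens, 𝔛.lvU h k V = W := by
  refine ⟨(Opens.map (𝔛.toX k).base).obj W, ?_⟩
  change (Opens.map (𝔛.gInv h k ≫ (𝔛.toX k).base)).obj W = W
  rw [𝔛.gInv_toX_base h k]
  rfl

theorem app_map_ul (k : ℕ) {𝔉 𝔊 : Mod (𝔛.Osh h)} (θ : 𝔉 ⟶ 𝔊) (V : (𝔛.X 0).Opens) (m : Sec 𝔉 V) :
    app ((FSch.levelMor 𝔛 h k).pull.map θ) (𝔛.lvU h k V) (ul h k V m) = ul h k V (app θ V m) :=
  app_map_us (lvAdj h k) θ V m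

theorem epi_pull_map (k : ℕ) {𝔉 𝔊 : Mod (𝔛.Osh h)} (θ : 𝔉 ⟶ 𝔊) [Epi θ] :
    Epi ((FSch.levelMor 𝔛 h k).pull.map θ) := by
  have := Functor.preservesEpimorphisms_of_adjunction (FSch.levelMor 𝔛 h k).adj
  infer_instance

variable (h𝔛 : 𝔛.IsLocNoethFormal) {𝔉 𝔊 : FSch.ModF 𝔛 h𝔛.1} (h𝔉 : FSch.IsCohF 𝔛 h𝔛.1 𝔉)
  (h𝔊 : FSch.IsCohF 𝔛 h𝔛.1 𝔊) (θ : 𝔉 ⟶ 𝔊)

theorem flat_resO {U V : (𝔛.X 0).Opens} (hU : IsAffineOpen (𝔛.lvU h𝔛.1 0 U)) (hV : IsAffineOpen (𝔛.lvU h𝔛.1 0 V))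
    (hVU : V ≤ U) : (resO (R := 𝔛.Osh h𝔛.1) hVU).Flat :=
  K919.AffFlat.flat_rs h𝔛 hU hV hVU

include h𝔉 h𝔊

theorem surjective_of_epi_zero [Epi ((FSch.levelMor 𝔛 h𝔛.1 0).pull.map θ)] {U : (𝔛.X 0).Opens}
    (hU : IsAffineOpen (𝔛.lvU h𝔛.1 0 U)) : Function.Surjective (app θ U) := by
  have hA := isAdicComplete_II h𝔛 hU
  have hfin := (main h𝔛 h𝔊 hU).2.2
  refine surjective_of_level (II h𝔛.1 U) (IsAdicComplete.le_jacobson_bot _) (app θ U) fun t => ?_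
  obtain ⟨z, hz⟩ := AffPres.surjective_of_epi (isQCoh_lv h𝔛 𝔉 h𝔉 0) (isQCoh_lv h𝔛 𝔊 h𝔊 0)
    ((FSch.levelMor 𝔛 h𝔛.1 0).pull.map θ) hU (ul h𝔛.1 0 U t)
  obtain ⟨m, rfl⟩ := ((main h𝔛 h𝔉 hU).2.1 0).1 z
  refine ⟨m, ?_⟩
  have h1 : ul h𝔛.1 0 U (t - app θ U m) = 0 := by
    rw [map_sub, ← hz, app_map_ul, sub_self]
  have h2 := (((main h𝔛 h𝔊 hU).2.1 0).2 _).1 h1
  rwa [zero_add, pow_one] at h2

theorem epi_iff_epi_zero : Epi θ ↔ Epi ((FSch.levelMor 𝔛 h𝔛.1 0).pull.map θ) := by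
  constructor
  · intro _
    exact epi_pull_map h𝔛.1 0 θ
  · intro _
    refine RBasis.epi_of_local θ fun x V hx => ?_
    obtain ⟨V', hxV', hV', hV'a⟩ := exists_affine_nhd h𝔛.1 x V hx
    exact ⟨V', hxV', hV', surjective_of_epi_zero h𝔛 h𝔉 h𝔊 θ hV'a⟩

theorem surjective_of_epi [Epi θ] {U : (𝔛.X 0).Opens}
    (hU : IsAffineOpen (𝔛.lvU h𝔛.1 0 U)) : Function.Surjective (app θ U) := by
  have := epi_pull_map h𝔛.1 0 θ
  exact surjective_of_epi_zero h𝔛 h𝔉 h𝔊 θ hU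

theorem injective_app_of_le {U V : (𝔛.X 0).Opens} (hU : IsAffineOpen (𝔛.lvU h𝔛.1 0 U))
    (hV : IsAffineOpen (𝔛.lvU h𝔛.1 0 V)) (hVU : V ≤ U) (hi : Function.Injective (app θ U)) :
    Function.Injective (app θ V) := by
  letI : Algebra (O (𝔛.Osh h𝔛.1) U) (O (𝔛.Osh h𝔛.1) V) := (resO hVU).toAlgebra
  letI : Module (O (𝔛.Osh h𝔛.1) U) (Sec 𝔉 V) := Module.compHom _ (resO hVU)
  letI : Module (O (𝔛.Osh h𝔛.1) U) (Sec 𝔊 V) := Module.compHom _ (resO hVU)
  haveI := isScalarTower_res 𝔉 hVU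
  haveI := isScalarTower_res 𝔊 hVU
  haveI : Module.Flat (O (𝔛.Osh h𝔛.1) U) (O (𝔛.Osh h𝔛.1) V) := flat_resO h𝔛 hU hV hVU
  exact injective_of_isBaseChange (resₗ 𝔉 hVU) (resₗ 𝔊 hVU) (isBaseChange_res h𝔛 h𝔉 hU hV hVU)
    (isBaseChange_res h𝔛 h𝔊 hU hV hVU) (app θ U) hi (app θ V) fun m => app_res θ hVU m

/-- Injectivity and surjectivity are open conditions. -/
theorem exists_level [CompactSpace (𝔛.X 0)] : ∃ n : ℕ, ∀ ψ : 𝔉 ⟶ 𝔊,
    ψ ≫ (FSch.levelMor 𝔛 h𝔛.1 n).adj.unit.app 𝔊 = 0 → (Mono θ → Mono (θ + ψ)) ∧ (Epi θ → Epi (θ + ψ)) := by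
  classical
  choose U hxU _ hUa using fun x : 𝔛.X 0 => exists_affine_nhd h𝔛.1 x ⊤ trivial
  obtain ⟨t, ht⟩ := isCompact_univ.elim_finite_subcover (fun x => (U x : Set (𝔛.X 0))) (fun x => (U x).isOpen)
    (fun x _ => Set.mem_iUnion.2 ⟨x, hxU x⟩)
  have hk : ∀ x : 𝔛.X 0, ∃ k : ℕ, ∀ k' ≥ k, ∀ w : Sec 𝔉 (U x) →ₗ[O (𝔛.Osh h𝔛.1) (U x)] Sec 𝔊 (U x),
      (∀ m, w m ∈ (II h𝔛.1 (U x) ^ k' • ⊤ : Submodule (O (𝔛.Osh h𝔛.1) (U x)) (Sec 𝔊 (U x)))) →
        Function.Injective (app θ (U x)) → Function.Injective (app θ (U x) + w) := by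
    intro x
    have hA := isAdicComplete_II h𝔛 (hUa x)
    have hN := isNoetherianRing_O h𝔛 (hUa x)
    have h1 := (main h𝔛 h𝔉 (hUa x)).2.2
    have h2 := (main h𝔛 h𝔊 (hUa x)).2.2
    by_cases hi : Function.Injective (app θ (U x))
    · obtain ⟨k, hk⟩ := exists_injective_add (II h𝔛.1 (U x)) _ _ (app θ (U x)) hi
      exact ⟨k, fun k' hk' w hw _ => hk k' hk' w hw⟩
    · exact ⟨0, fun _ _ _ _ hi' => absurd hi' hi⟩
  choose k hk using hk
  refine ⟨t.sup k, fun ψ hψ => ?_⟩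
  have hmem : ∀ x ∈ t, ∀ m : Sec 𝔉 (U x),
      app ψ (U x) m ∈ (II h𝔛.1 (U x) ^ (t.sup k + 1) • ⊤ : Submodule (O (𝔛.Osh h𝔛.1) (U x)) (Sec 𝔊 (U x))) := by
    intro x _ m
    refine (((main h𝔛 h𝔊 (hUa x)).2.1 _).2 _).1 ?_
    exact congrArg (fun g : 𝔉 ⟶ (FSch.levelMor 𝔛 h𝔛.1 (t.sup k)).push.obj ((FSch.levelMor 𝔛 h𝔛.1 (t.sup k)).pull.obj 𝔊) =>
      app g (U x) m) hψ
  have hadd : ∀ V, app (θ + ψ) V = app θ V + app ψ V := fun V => rfl
  constructor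
  · intro hmono
    refine RBasis.mono_of_local _ fun x V hx => ?_
    obtain ⟨y, hyt, hxy⟩ := Set.mem_iUnion₂.1 (ht (Set.mem_univ x))
    obtain ⟨V', hxV', hV', hV'a⟩ := exists_affine_nhd h𝔛.1 x (V ⊓ U y) ⟨hx, hxy⟩
    refine ⟨V', hxV', hV'.trans inf_le_left,
      injective_app_of_le h𝔛 h𝔉 h𝔊 _ (hUa y) hV'a (hV'.trans inf_le_right) ?_⟩
    rw [hadd]
    exact hk y _ (Nat.le_succ_of_le (Finset.le_sup hyt)) _ (hmem y hyt) ((RExact.mono_iff_app θ).1 hmono _)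
  · intro hepi
    refine RBasis.epi_of_local _ fun x V hx => ?_
    obtain ⟨V', hxV', hV', hV'a⟩ := exists_affine_nhd h𝔛.1 x V hx
    refine ⟨V', hxV', hV', ?_⟩
    rw [hadd]
    have hA := isAdicComplete_II h𝔛 hV'a
    have hfin := (main h𝔛 h𝔊 hV'a).2.2
    refine surjective_add (II h𝔛.1 V') (IsAdicComplete.le_jacobson_bot _) _ _
      (surjective_of_epi h𝔛 h𝔉 h𝔊 θ hV'a) fun m => ?_
    have h1 : ul h𝔛.1 (t.sup k) V' (app ψ V' m) = 0 :=
      congrArg (fun g : 𝔉 ⟶ (FSch.levelMor 𝔛 h𝔛.1 (t.sup k)).push.obj ((FSch.levelMor 𝔛 h𝔛.1 (t.sup k)).pull.obj 𝔊) =>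
        app g V' m) hψ
    have h2 := (((main h𝔛 h𝔊 hV'a).2.1 0).2 _).1 (ul_le_eq_zero h𝔛.1 (Nat.zero_le _) V' _ h1)
    rwa [zero_add, pow_one] at h2

end K29.Fml
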