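import Groth.Agent.FCompl.K29.FmlBasic
import Groth.Agent.Ega1.LimitSystem

/-!
# Presentations of coherent modules on a locally Noetherian formal scheme over affine open subsets

`𝔉` a module of finite presentation on a locally Noetherian formal scheme with presentation `(s, r)` over `W`:
over every affine `V ≤ W` the `s j` generate `𝔉(V)` and the `r k` generate their relations.
-/

set_option autoImplicit false
set_option linter.style.haveILetI false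
universe u

open CategoryTheory TopologicalSpace Opposite CategoryTheory.Limits AlgebraicGeometry

noncomputable section

namespace K29.Fml

open K29.RSec K29.RStalk K29.RPull K29.RPres

section Alg

variable {A : Type u} [CommRing A] (I : Ideal A) {n : ℕ}

theorem mem_smul_top_of_forall (k : ℕ) (c : Fin n → A) (hc : ∀ j, c j ∈ I ^ k) :
    c ∈ (I ^ k • ⊤ : Submodule A (Fin n → A)) := by
  classical
  have h : c = ∑ j, c j • (Pi.single j 1 : Fin n → A) := by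
    funext i
    simp [Finset.sum_apply, Pi.single_apply]
  rw [h]
  exact Submodule.sum_mem _ fun j _ => Submodule.smul_mem_smul (hc j) trivial

theorem forall_of_mem_smul_top (k : ℕ) (c : Fin n → A) (hc : c ∈ (I ^ k • ⊤ : Submodule A (Fin n → A))) (j : Fin n) :
    c j ∈ I ^ k := by
  refine Submodule.smul_induction_on hc (fun a ha b _ => ?_) fun a b ha hb => (I ^ k).add_mem ha hb
  exact (I ^ k).mul_mem_right _ ha

variable [IsNoetherianRing A] [IsAdicComplete I A] (P : Submodule A (Fin n → A))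

theorem mem_of_forall (c : Fin n → A) (hc : ∀ k : ℕ, ∃ p ∈ P, ∀ j, c j - p j ∈ I ^ (k + 1)) : c ∈ P := by
  have h1 : IsAdicComplete I ((Fin n → A) ⧸ P) := Groth.Agent.Ega1.LimitSystem.isAdicComplete_of_finite
  rw [← Submodule.Quotient.mk_eq_zero]
  refine IsHausdorff.haus h1.toIsHausdorff _ fun k => ?_
  obtain ⟨p, hp, hcp⟩ := hc k
  have h2 : c - p ∈ (I ^ k • ⊤ : Submodule A (Fin n → A)) :=
    mem_smul_top_of_forall I k _ fun j => Ideal.pow_le_pow_right (Nat.le_succ k) (hcp j)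
  have h3 : P.mkQ (c - p) ∈ (I ^ k • ⊤ : Submodule A ((Fin n → A) ⧸ P)) := by
    have := Submodule.mem_map_of_mem (f := P.mkQ) h2
    rw [Submodule.map_smul''] at this
    exact Submodule.smul_mono le_rfl le_top this
  rw [map_sub, Submodule.mkQ_apply, Submodule.mkQ_apply, (Submodule.Quotient.mk_eq_zero P).2 hp, sub_zero] at h3
  rw [SModEq.zero]
  exact h3

theorem exists_lim (c : ℕ → Fin n → A)
    (hc : ∀ k, ∃ p ∈ P, ∀ j, c (k + 1) j - c k j - p j ∈ I ^ (k + 1)) :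
    ∃ c' : Fin n → A, ∀ k, ∃ p ∈ P, ∀ j, c' j - c k j - p j ∈ I ^ (k + 1) := by
  have h1 : IsAdicComplete I ((Fin n → A) ⧸ P) := Groth.Agent.Ega1.LimitSystem.isAdicComplete_of_finite
  have hstep : ∀ k, P.mkQ (c k) ≡ P.mkQ (c (k + 1)) [SMOD (I ^ (k + 1) • ⊤ : Submodule A ((Fin n → A) ⧸ P))] := by
    intro k
    obtain ⟨p, hp, hcp⟩ := hc k
    have h2 : c (k + 1) - c k - p ∈ (I ^ (k + 1) • ⊤ : Submodule A (Fin n → A)) :=
      mem_smul_top_of_forall I (k + 1) _ hcp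
    have h3 : P.mkQ (c (k + 1) - c k - p) ∈ (I ^ (k + 1) • ⊤ : Submodule A ((Fin n → A) ⧸ P)) := by
      have := Submodule.mem_map_of_mem (f := P.mkQ) h2
      rw [Submodule.map_smul''] at this
      exact Submodule.smul_mono le_rfl le_top this
    rw [map_sub, map_sub, Submodule.mkQ_apply P p, (Submodule.Quotient.mk_eq_zero P).2 hp, sub_zero] at h3
    exact (SModEq.sub_mem.2 h3).symm
  have hcau : ∀ {m k : ℕ}, m ≤ k → P.mkQ (c m) ≡ P.mkQ (c k) [SMOD (I ^ m • ⊤ : Submodule A ((Fin n → A) ⧸ P))] := by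
    intro m k hmk
    induction hmk with
    | refl => exact SModEq.rfl
    | @step k hk ih =>
      exact ih.trans ((hstep k).mono (Submodule.smul_mono (Ideal.pow_le_pow_right (Nat.le_succ_of_le hk)) le_rfl))
  obtain ⟨L, hL⟩ := IsPrecomplete.prec h1.toIsPrecomplete (f := fun k => P.mkQ (c k)) hcau
  obtain ⟨c', rfl⟩ := Submodule.mkQ_surjective P L
  refine ⟨c', fun k => ?_⟩
  have h4 : P.mkQ (c' - c k) ∈ (I ^ (k + 1) • ⊤ : Submodule A ((Fin n → A) ⧸ P)) := by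
    rw [map_sub]
    exact SModEq.sub_mem.1 ((hstep k).trans (hL (k + 1))).symm
  have h5 : (I ^ (k + 1) • ⊤ : Submodule A ((Fin n → A) ⧸ P)) =
      Submodule.map P.mkQ (I ^ (k + 1) • ⊤ : Submodule A (Fin n → A)) := by
    rw [Submodule.map_smul'', Submodule.map_top, Submodule.range_mkQ]
  rw [h5] at h4
  obtain ⟨z, hz, hzc⟩ := h4
  refine ⟨c' - c k - z, ?_, fun j => ?_⟩
  · rw [← Submodule.Quotient.mk_eq_zero, ← Submodule.mkQ_apply, map_sub, hzc, sub_self]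
  · have := forall_of_mem_smul_top I (k + 1) z hz j
    simpa using this

end Alg

variable {𝔛 : FSch.Sys.{u}} (h𝔛 : 𝔛.IsLocNoethFormal)

section Local

variable {𝔉 : Mod (𝔛.Osh h𝔛.1)} {W V : (𝔛.X 0).Opens} (hV : IsAffineOpen (𝔛.lvU h𝔛.1 0 V)) (hVW : V ≤ W)
  {n m : ℕ} {s : Fin n → Sec 𝔉 W} {r : Fin m → Fin n → O (𝔛.Osh h𝔛.1) W}

include hV in
/-- A relation at level `k` is a relation up to `𝓘^{k+1}`. -/
theorem exists_rel_mod (hs : Gen 𝔉 W s) (hr : Rel 𝔉 W s r) (k : ℕ) (c : Fin n → O (𝔛.Osh h𝔛.1) V)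
    (hc : ul h𝔛.1 k V (∑ j, c j • res 𝔉 hVW (s j)) = 0) :
    ∃ d : Fin m → O (𝔛.Osh h𝔛.1) V, ∀ j,
      c j - ∑ l, d l * resO hVW (r l j) ∈ II h𝔛.1 V ^ (k + 1) := by
  have h1 : ∑ j, prO h𝔛.1 k V (c j) • res (lv h𝔛.1 k 𝔉) (lvU_mono h𝔛.1 k hVW) (ul h𝔛.1 k W (s j)) = 0 := by
    rw [← hc, map_sum]
    exact Finset.sum_congr rfl fun j _ => by rw [ul_smul, ul_res]
  obtain ⟨d, hd⟩ := AffPres.exists_rel (lv h𝔛.1 k 𝔉) (isAffineOpen_lvU h𝔛 hV k)
    (lvU_mono h𝔛.1 k hVW) (rel_pull (lvAdj h𝔛.1 k) hs hr) (fun j => prO h𝔛.1 k V (c j)) h1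
  choose d' hd' using fun l => prO_surjective h𝔛 hV k (d l)
  refine ⟨d', fun j => ?_⟩
  rw [mem_II_pow h𝔛 hV k, map_sub, map_sum, sub_eq_zero]
  refine (hd j).trans (Finset.sum_congr rfl fun l _ => ?_)
  rw [map_mul, prO_res, hd']

include hV in
/-- The `r k` generate the relations over every affine open. -/
theorem exists_rel_of_forall (hs : Gen 𝔉 W s) (hr : Rel 𝔉 W s r) (c : Fin n → O (𝔛.Osh h𝔛.1) V)
    (hc : ∀ k, ul h𝔛.1 k V (∑ j, c j • res 𝔉 hVW (s j)) = 0) :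
    ∃ d : Fin m → O (𝔛.Osh h𝔛.1) V, ∀ j, c j = ∑ l, d l * resO hVW (r l j) := by
  have := isAdicComplete_II h𝔛 hV
  have := isNoetherianRing_O h𝔛 hV
  let P : Submodule (O (𝔛.Osh h𝔛.1) V) (Fin n → O (𝔛.Osh h𝔛.1) V) :=
    Submodule.span _ (Set.range fun k => fun j => resO hVW (r k j))
  have key : c ∈ P := by
    refine mem_of_forall (II h𝔛.1 V) P c fun k => ?_
    obtain ⟨d, hd⟩ := exists_rel_mod h𝔛 hV hVW hs hr k c (hc k)
    refine ⟨∑ l, d l • fun j => resO hVW (r l j), P.sum_mem fun l _ =>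
      P.smul_mem _ (Submodule.subset_span ⟨l, rfl⟩), fun j => ?_⟩
    have := hd j
    rw [Finset.sum_apply]
    exact this
  obtain ⟨d, hd⟩ := (Submodule.mem_span_range_iff_exists_fun _).1 key
  refine ⟨d, fun j => ?_⟩
  have := congrFun hd j
  simpa using this.symm

theorem sum_rel_eq_zero (hr : Rel 𝔉 W s r) (c : Fin n → O (𝔛.Osh h𝔛.1) V) (d : Fin m → O (𝔛.Osh h𝔛.1) V)
    (hd : ∀ j, c j = ∑ l, d l * resO hVW (r l j)) : ∑ j, c j • res 𝔉 hVW (s j) = 0 := by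
  have h1 : ∀ l, ∑ j, resO hVW (r l j) • res 𝔉 hVW (s j) = 0 := by
    intro l
    have := congrArg (res 𝔉 hVW) (hr.1 l)
    rw [map_sum, map_zero] at this
    rw [← this]
    exact Finset.sum_congr rfl fun j _ => (res_smul 𝔉 hVW _ _).symm
  simp only [hd, Finset.sum_smul, mul_smul]
  rw [Finset.sum_comm]
  exact Finset.sum_eq_zero fun l _ => by rw [← Finset.smul_sum, h1, smul_zero]

/-- Separatedness of `𝔉` for the projections to the levels. -/
theorem eq_zero_of_ul (hs : Gen 𝔉 W s) (hr : Rel 𝔉 W s r) (hVW : V ≤ W) (t : Sec 𝔉 V)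
    (ht : ∀ k, ul h𝔛.1 k V t = 0) : t = 0 := by
  refine eq_of_forall_nhds 𝔉 t 0 fun x hx => ?_
  obtain ⟨V', hV', hxV', c, hc⟩ := hs V hVW t x hx
  obtain ⟨_, ⟨V'', hV'', rfl⟩, hxV'', hle⟩ := (𝔛.X 0).isBasis_affineOpens.exists_subset_of_mem_open hxV' V'.2
  have hle : V'' ≤ V' := hle
  have hV2 : IsAffineOpen (𝔛.lvU h𝔛.1 0 V'') := by
    rw [K919.AffBasic.lvU_zero]
    exact hV''
  refine ⟨V'', hxV'', hle.trans hV', ?_⟩
  have h1 : res 𝔉 (hle.trans hV') t = ∑ j, resO hle (c j) • res 𝔉 ((hle.trans hV').trans hVW) (s j) := by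
    rw [← res_res 𝔉 hV' hle, hc, map_sum]
    exact Finset.sum_congr rfl fun j _ => by rw [res_smul, res_res]
  obtain ⟨d, hd⟩ := exists_rel_of_forall h𝔛 hV2 ((hle.trans hV').trans hVW) hs hr (fun j => resO hle (c j))
    (fun k => by rw [← h1, ul_res, ht, map_zero])
  rw [h1, sum_rel_eq_zero h𝔛 ((hle.trans hV').trans hVW) hr _ d hd, map_zero]

include hV in
/-- Completeness of `𝔉` for the projections to the levels. -/
theorem exists_limit_sum (hs : Gen 𝔉 W s) (hr : Rel 𝔉 W s r) (c : ℕ → Fin n → O (𝔛.Osh h𝔛.1) V)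
    (hc : ∀ k, ul h𝔛.1 k V (∑ j, (c (k + 1) j - c k j) • res 𝔉 hVW (s j)) = 0) :
    ∃ c' : Fin n → O (𝔛.Osh h𝔛.1) V, ∀ k, ul h𝔛.1 k V (∑ j, (c' j - c k j) • res 𝔉 hVW (s j)) = 0 := by
  have := isAdicComplete_II h𝔛 hV
  have := isNoetherianRing_O h𝔛 hV
  let P : Submodule (O (𝔛.Osh h𝔛.1) V) (Fin n → O (𝔛.Osh h𝔛.1) V) :=
    Submodule.span _ (Set.range fun k => fun j => resO hVW (r k j))
  obtain ⟨c', hc'⟩ := exists_lim (II h𝔛.1 V) P c fun k => by
    obtain ⟨d, hd⟩ := exists_rel_mod h𝔛 hV hVW hs hr k (fun j => c (k + 1) j - c k j) (hc k)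
    refine ⟨∑ l, d l • fun j => resO hVW (r l j), P.sum_mem fun l _ =>
      P.smul_mem _ (Submodule.subset_span ⟨l, rfl⟩), fun j => ?_⟩
    have := hd j
    rw [Finset.sum_apply]
    exact this
  refine ⟨c', fun k => ?_⟩
  obtain ⟨p, hp, hpc⟩ := hc' k
  obtain ⟨d, hd⟩ := (Submodule.mem_span_range_iff_exists_fun _).1 hp
  have hd' : ∀ j, p j = ∑ l, d l * resO hVW (r l j) := fun j => by
    have := congrFun hd j
    simpa using this.symm
  have h1 := sum_rel_eq_zero h𝔛 hVW hr p d hd'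
  have h2 : ∑ j, (c' j - c k j) • res 𝔉 hVW (s j) = ∑ j, (c' j - c k j - p j) • res 𝔉 hVW (s j) := by
    simp only [sub_smul]
    rw [Finset.sum_sub_distrib (f := fun j => c' j • res 𝔉 hVW (s j) - c k j • res 𝔉 hVW (s j)), h1, sub_zero]
  rw [h2, map_sum]
  refine Finset.sum_eq_zero fun j _ => ?_
  rw [ul_smul, (mem_II_pow h𝔛 hV k _).1 (hpc j), zero_smul]

variable (hq : ∀ k, Coh.IsQCoh (show (𝔛.X k).Modules from lv h𝔛.1 k 𝔉))

include hV hq in
theorem exists_approx (hs : Gen 𝔉 W s) (k : ℕ) (y : Sec (lv h𝔛.1 k 𝔉) (𝔛.lvU h𝔛.1 k V)) :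
    ∃ c : Fin n → O (𝔛.Osh h𝔛.1) V, ul h𝔛.1 k V (∑ j, c j • res 𝔉 hVW (s j)) = y := by
  obtain ⟨c, hc⟩ := AffPres.exists_eq_sum (lv h𝔛.1 k 𝔉) (hq k) (isAffineOpen_lvU h𝔛 hV k)
    (lvU_mono h𝔛.1 k hVW) (gen_pull (lvAdj h𝔛.1 k) hs) y
  choose c' hc' using fun j => prO_surjective h𝔛 hV k (c j)
  refine ⟨c', ?_⟩
  rw [hc, map_sum]
  refine Finset.sum_congr rfl fun j _ => ?_
  rw [ul_smul, ul_res, hc']
  rfl

include hV hq in
/-- The `s j` generate `𝔉(V)` for every affine `V ≤ W`. -/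
theorem exists_eq_sum (hs : Gen 𝔉 W s) (hr : Rel 𝔉 W s r) (t : Sec 𝔉 V) :
    ∃ c : Fin n → O (𝔛.Osh h𝔛.1) V, t = ∑ j, c j • res 𝔉 hVW (s j) := by
  choose c hc using fun k => exists_approx h𝔛 hV hVW hq hs k (ul h𝔛.1 k V t)
  obtain ⟨c', hc'⟩ := exists_limit_sum h𝔛 hV hVW hs hr c fun k => by
    simp only [sub_smul]
    rw [Finset.sum_sub_distrib, map_sub, hc k, sub_eq_zero, ← sub_eq_zero, ← map_sub]
    refine ul_succ_eq_zero h𝔛.1 k V _ ?_
    rw [map_sub, hc (k + 1), sub_self]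
  refine ⟨c', sub_eq_zero.1 (eq_zero_of_ul h𝔛 hs hr hVW _ fun k => ?_)⟩
  have h1 := hc' k
  simp only [sub_smul] at h1
  rw [Finset.sum_sub_distrib, map_sub, hc k] at h1
  rw [map_sub, ← neg_eq_zero, neg_sub]
  exact h1

include hV hVW hq in
/-- Completeness of `𝔉(V)` for the projections to the levels. -/
theorem exists_limit (hs : Gen 𝔉 W s) (hr : Rel 𝔉 W s r) (t : ℕ → Sec 𝔉 V)
    (ht : ∀ k, ul h𝔛.1 k V (t (k + 1) - t k) = 0) : ∃ t' : Sec 𝔉 V, ∀ k, ul h𝔛.1 k V (t' - t k) = 0 := by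
  choose c hc using fun k => exists_eq_sum h𝔛 hV hVW hq hs hr (t k)
  obtain ⟨c', hc'⟩ := exists_limit_sum h𝔛 hV hVW hs hr c fun k => by
    simp only [sub_smul]
    rw [Finset.sum_sub_distrib, ← hc, ← hc]
    exact ht k
  refine ⟨∑ j, c' j • res 𝔉 hVW (s j), fun k => ?_⟩
  have h1 := hc' k
  simp only [sub_smul] at h1
  rw [Finset.sum_sub_distrib, ← hc k] at h1
  exact h1

include hV hVW in
/-- The `r k` generate the relations over every affine open. -/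
theorem exists_rel (hs : Gen 𝔉 W s) (hr : Rel 𝔉 W s r) (c : Fin n → O (𝔛.Osh h𝔛.1) V)
    (hc : ∑ j, c j • res 𝔉 hVW (s j) = 0) :
    ∃ d : Fin m → O (𝔛.Osh h𝔛.1) V, ∀ j, c j = ∑ l, d l * resO hVW (r l j) :=
  exists_rel_of_forall h𝔛 hV hVW hs hr c fun k => by rw [hc, map_zero]

include hV hVW hq in
/-- The kernel of `𝔉(V) → (u_k^* 𝔉)(V)` is `𝓘^{k+1} 𝔉(V)`. -/
theorem mem_smul_top_of_ul_eq_zero (hs : Gen 𝔉 W s) (hr : Rel 𝔉 W s r) (k : ℕ) (t : Sec 𝔉 V)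
    (ht : ul h𝔛.1 k V t = 0) : t ∈ (II h𝔛.1 V ^ (k + 1) • ⊤ : Submodule (O (𝔛.Osh h𝔛.1) V) (Sec 𝔉 V)) := by
  obtain ⟨c, rfl⟩ := exists_eq_sum h𝔛 hV hVW hq hs hr t
  obtain ⟨d, hd⟩ := exists_rel_mod h𝔛 hV hVW hs hr k c ht
  have h1 := sum_rel_eq_zero h𝔛 hVW hr _ d fun j => rfl
  have h2 : ∑ j, c j • res 𝔉 hVW (s j) = ∑ j, (c j - ∑ l, d l * resO hVW (r l j)) • res 𝔉 hVW (s j) := by
    simp only [sub_smul]
    rw [Finset.sum_sub_distrib, h1, sub_zero]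
  rw [h2]
  exact Submodule.sum_mem _ fun j _ => Submodule.smul_mem_smul (hd j) trivial

end Local

end K29.Fml
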