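import Groth.Agent.FCompl.K29.FmlUnit
import Groth.Agent.FCompl.K28.SBC
import Groth.Agent.S3854

/-!
# Inverse images of coherent modules to a locally Noetherian formal scheme, on sections over affine opens
-/

set_option autoImplicit false
set_option linter.style.haveILetI false
set_option linter.unusedSectionVars false
universe u

open CategoryTheory TopologicalSpace Opposite CategoryTheory.Limits AlgebraicGeometry

noncomputable section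

namespace K29.FmlPull

open K29.RSec K29.RStalk K29.RPull K29.RPres K29.Fml
open K28 (SBC)

/-- A presentation mapping to a presentation is a base change, semilinear form. -/
theorem sbc_of_pres {A B : Type u} [CommRing A] [CommRing B] {ρ : A →+* B} {M N : Type u} [AddCommGroup M]
    [AddCommGroup N] [Module A M] [Module B N] {g : M →+ N} (hg : ∀ (a : A) (m : M), g (a • m) = ρ a • g m)
    {n m : ℕ} (s : Fin n → M) (r : Fin m → Fin n → A)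
    (hs : ∀ t : M, ∃ c : Fin n → A, t = ∑ j, c j • s j) (hr : ∀ k, ∑ j, r k j • s j = 0)
    (hs' : ∀ t : N, ∃ c : Fin n → B, t = ∑ j, c j • g (s j))
    (hr' : ∀ c : Fin n → B, ∑ j, c j • g (s j) = 0 → ∃ d : Fin m → B, ∀ j, c j = ∑ k, d k * ρ (r k j)) :
    SBC ρ g := by
  letI : Algebra A B := ρ.toAlgebra
  letI : Module A N := Module.compHom N ρ
  haveI : IsScalarTower A B N := SBC.tower ρ
  exact SBC.of_isBaseChange' hg (isBaseChange_of_pres (SBC.lin ρ g hg) s r hs hr hs' hr')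

variable {𝔛 : FSch.Sys.{u}} (h𝔛 : 𝔛.IsLocNoethFormal)

section General

variable {T : TopCat.{u}} {R : Sheaf (Opens.grothendieckTopology T) CommRingCat.{u}} {f : (𝔛.X 0).carrier ⟶ T}
  {φ : ringSheaf R ⟶ ((Opens.map f).sheafPushforwardContinuous RingCat.{u}
    (Opens.grothendieckTopology T) (Opens.grothendieckTopology (𝔛.X 0).carrier)).obj (ringSheaf (𝔛.Osh h𝔛.1))}
  {L : Mod R ⥤ Mod (𝔛.Osh h𝔛.1)} (adj : L ⊣ push φ)

/-- Sections of the inverse image over an affine open `U ≤ f⁻¹ V`. -/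
theorem sbc_pull {N : Mod R} (hN : SheafOfModules.IsFinitePresentation (R := ringSheaf R) N) {V : Opens T}
    {n m : ℕ} {s : Fin n → Sec N V} {r : Fin m → Fin n → O R V} (hs : Gen N V s) (hr : Rel N V s r)
    (hs' : ∀ t : Sec N V, ∃ c : Fin n → O R V, t = ∑ j, c j • s j)
    {U : (𝔛.X 0).Opens} (hU : IsAffineOpen (𝔛.lvU h𝔛.1 0 U)) (hUV : U ≤ pre f V) :
    SBC ((resO (R := 𝔛.Osh h𝔛.1) hUV).comp (cm φ V)) ((res (L.obj N) hUV).comp (us adj V)) := by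
  have hfp : FSch.IsCohF 𝔛 h𝔛.1 (L.obj N) := isFinitePresentation_pull adj hN
  refine sbc_of_pres (fun a m => ?_) s r hs' hr.1
    (fun t => exists_eq_sum h𝔛 hU hUV (isQCoh_lv h𝔛 _ hfp) (gen_pull adj hs) (rel_pull adj hs hr) t)
    (fun c hc => exists_rel h𝔛 hU hUV (gen_pull adj hs) (rel_pull adj hs hr) c hc)
  change res (L.obj N) hUV (us adj V (a • m)) = resO hUV (cm φ V a) • res (L.obj N) hUV (us adj V m)
  rw [us_smul, res_smul]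

/-- Criterion for the isomorphism `L N ≅ P`, by sections over small affine opens. -/
theorem isIso_lft {N : Mod R} (hN : SheafOfModules.IsFinitePresentation (R := ringSheaf R) N) {P : Mod (𝔛.Osh h𝔛.1)}
    (g : N ⟶ (push φ).obj P)
    (h : ∀ (y : 𝔛.X 0) (U₀ : (𝔛.X 0).Opens), y ∈ U₀ → ∃ (V : Opens T) (U : (𝔛.X 0).Opens) (hUV : U ≤ pre f V),
      y ∈ U ∧ U ≤ U₀ ∧ IsAffineOpen (𝔛.lvU h𝔛.1 0 U) ∧
      (∃ (n m : ℕ) (s : Fin n → Sec N V) (r : Fin m → Fin n → O R V), Gen N V s ∧ Rel N V s r ∧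
        (∀ t : Sec N V, ∃ c : Fin n → O R V, t = ∑ j, c j • s j)) ∧
      SBC ((resO (R := 𝔛.Osh h𝔛.1) hUV).comp (cm φ V))
        ((res P hUV).comp ((ofPush φ).comp (app g V).toAddMonoidHom))) : IsIso (lft adj g) := by
  refine RBasis.isIso_of_local _ fun y U₀ hy => ?_
  obtain ⟨V, U, hUV, hyU, hU₀, hUa, ⟨n, m, s, r, hs, hr, hs'⟩, hsbc⟩ := h y U₀ hy
  refine ⟨U, hyU, hU₀, (sbc_pull h𝔛 adj hN hs hr hs' hUa hUV).bijective hsbc (app (lft adj g) U) fun t => ?_⟩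
  change app (lft adj g) U (res (L.obj N) hUV (us adj V t)) = res P hUV (ofPush φ (app g V t))
  rw [app_res, app_lft_us]

end General

section Hom

variable {𝔜 : FSch.Sys.{u}} (φ : 𝔛 ⟶ 𝔜) (h𝔜 : 𝔜.IsLocNoethFormal)

/-- The comorphism of a morphism of formal schemes. -/
def fφ : ringSheaf (𝔜.Osh h𝔜.1) ⟶ ((Opens.map ((φ : FSch.Hom 𝔛 𝔜).app 0).base).sheafPushforwardContinuous RingCat.{u}
    (Opens.grothendieckTopology (𝔜.X 0).carrier) (Opens.grothendieckTopology (𝔛.X 0).carrier)).obj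
      (ringSheaf (𝔛.Osh h𝔛.1)) :=
  (FSch.homMor φ h𝔛.1 h𝔜.1).sharpR

/-- The adjunction of a morphism of formal schemes. -/
def fAdj : FSch.pullF φ h𝔛.1 h𝔜.1 ⊣ push (fφ h𝔛 φ h𝔜) := (FSch.homMor φ h𝔛.1 h𝔜.1).adj

theorem isCohF_pullF {𝔉 : FSch.ModF 𝔜 h𝔜.1} (h𝔉 : FSch.IsCohF 𝔜 h𝔜.1 𝔉) :
    FSch.IsCohF 𝔛 h𝔛.1 ((FSch.pullF φ h𝔛.1 h𝔜.1).obj 𝔉) := isFinitePresentation_pull (fAdj h𝔛 φ h𝔜) h𝔉

theorem exists_presV {𝔉 : FSch.ModF 𝔜 h𝔜.1} (h𝔉 : FSch.IsCohF 𝔜 h𝔜.1 𝔉) {V : (𝔜.X 0).Opens}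
    (hV : IsAffineOpen (𝔜.lvU h𝔜.1 0 V)) :
    ∃ (n m : ℕ) (s : Fin n → Sec 𝔉 V) (r : Fin m → Fin n → O (𝔜.Osh h𝔜.1) V), Gen 𝔉 V s ∧ Rel 𝔉 V s r ∧
        (∀ t : Sec 𝔉 V, ∃ c : Fin n → O (𝔜.Osh h𝔜.1) V, t = ∑ j, c j • s j) := by
  obtain ⟨n, m, s, r, hs, hr⟩ := exists_pres h𝔜 h𝔉 hV
  refine ⟨n, m, s, r, hs, hr, fun t => ?_⟩
  obtain ⟨c, hc⟩ := exists_eq_sum h𝔜 hV le_rfl (isQCoh_lv h𝔜 𝔉 h𝔉) hs hr t
  refine ⟨c, hc.trans (Finset.sum_congr rfl fun j _ => by rw [res_self])⟩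

/-- `(φ^* 𝔉)(U) = 𝔉(V) ⊗ O(U)` for `U ≤ φ⁻¹ V` affine opens. -/
theorem sbc_pullF {𝔉 : FSch.ModF 𝔜 h𝔜.1} (h𝔉 : FSch.IsCohF 𝔜 h𝔜.1 𝔉) {V : (𝔜.X 0).Opens}
    (hV : IsAffineOpen (𝔜.lvU h𝔜.1 0 V)) {U : (𝔛.X 0).Opens} (hU : IsAffineOpen (𝔛.lvU h𝔛.1 0 U))
    (hUV : U ≤ pre ((φ : FSch.Hom 𝔛 𝔜).app 0).base V) :
    SBC ((resO (R := 𝔛.Osh h𝔛.1) hUV).comp (cm (fφ h𝔛 φ h𝔜) V))
      ((res ((FSch.pullF φ h𝔛.1 h𝔜.1).obj 𝔉) hUV).comp (us (fAdj h𝔛 φ h𝔜) V)) := by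
  obtain ⟨n, m, s, r, hs, hr, hs'⟩ := exists_presV h𝔜 h𝔉 hV
  exact sbc_pull h𝔛 (fAdj h𝔛 φ h𝔜) h𝔉 hs hr hs' hU hUV

end Hom

end K29.FmlPull
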