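import Groth.Agent.FCompl.K29.RExact

/-!
# Testing morphisms of sheaves of modules on small open sets
-/

set_option autoImplicit false
set_option linter.style.haveILetI false
universe u

open CategoryTheory TopologicalSpace Opposite CategoryTheory.Limits

noncomputable section

namespace K29.RBasis

open K29.RSec K29.RStalk

variable {T : TopCat.{u}} {R : Sheaf (Opens.grothendieckTopology T) CommRingCat.{u}}

/-- A morphism which is bijective on sections over arbitrarily small neighbourhoods of every point is an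
isomorphism. -/
theorem isIso_of_local {M N : Mod R} (φ : M ⟶ N)
    (h : ∀ (x : T) (V : Opens T), x ∈ V → ∃ V' : Opens T, x ∈ V' ∧ V' ≤ V ∧ Function.Bijective (app φ V')) :
    IsIso φ := by
  rw [isIso_iff_stMap]
  intro x
  constructor
  · rw [injective_iff_map_eq_zero]
    intro t ht
    obtain ⟨V, hV, s, rfl⟩ := exists_gm M x t
    rw [stMap_gm] at ht
    obtain ⟨W, hxW, hW, e⟩ := exists_res_eq_zero N hV ht
    obtain ⟨V', hxV', hV', hb⟩ := h x W hxW
    have h1 : app φ V' (res M (hV'.trans hW) s) = 0 := by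
      rw [app_res, ← res_res N hW hV', e, map_zero]
    have h2 : res M (hV'.trans hW) s = 0 := hb.1 (h1.trans (map_zero _).symm)
    rw [← gm_res M x (hV'.trans hW) hxV', h2, map_zero]
  · intro t
    obtain ⟨V, hV, s, rfl⟩ := exists_gm N x t
    obtain ⟨V', hxV', hV', hb⟩ := h x V hV
    obtain ⟨m, hm⟩ := hb.2 (res N hV' s)
    exact ⟨gm M x V' hxV' m, by rw [stMap_gm, hm, gm_res]⟩

/-- Injectivity on small open sets. -/
theorem mono_of_local {M N : Mod R} (φ : M ⟶ N)
    (h : ∀ (x : T) (V : Opens T), x ∈ V → ∃ V' : Opens T, x ∈ V' ∧ V' ≤ V ∧ Function.Injective (app φ V')) :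
    Mono φ := by
  rw [RExact.mono_iff_stMap]
  intro x
  rw [injective_iff_map_eq_zero]
  intro t ht
  obtain ⟨V, hV, s, rfl⟩ := exists_gm M x t
  rw [stMap_gm] at ht
  obtain ⟨W, hxW, hW, e⟩ := exists_res_eq_zero N hV ht
  obtain ⟨V', hxV', hV', hb⟩ := h x W hxW
  have h1 : app φ V' (res M (hV'.trans hW) s) = 0 := by
    rw [app_res, ← res_res N hW hV', e, map_zero]
  have h2 : res M (hV'.trans hW) s = 0 := hb (h1.trans (map_zero _).symm)
  rw [← gm_res M x (hV'.trans hW) hxV', h2, map_zero]

/-- Surjectivity on small open sets. -/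
theorem epi_of_local {M N : Mod R} (φ : M ⟶ N)
    (h : ∀ (x : T) (V : Opens T), x ∈ V → ∃ V' : Opens T, x ∈ V' ∧ V' ≤ V ∧ Function.Surjective (app φ V')) :
    Epi φ := by
  rw [RExact.epi_iff_local]
  intro V t x hx
  obtain ⟨V', hxV', hV', hb⟩ := h x V hx
  obtain ⟨m, hm⟩ := hb (res N hV' t)
  exact ⟨V', hxV', hV', m, hm⟩

end K29.RBasis
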