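import Groth.Agent.FCompl.K29.RStalk
import Mathlib.Algebra.Category.ModuleCat.Sheaf.Limits
import Mathlib.CategoryTheory.Functor.OfSequence
import Mathlib.CategoryTheory.Limits.Types.Limits

/-!
# Sections of the limit of a tower of sheaves of modules
-/

set_option autoImplicit false
set_option linter.style.haveILetI false
universe u

open CategoryTheory TopologicalSpace Opposite CategoryTheory.Limits

noncomputable section

namespace K29.RLim

open K29.RSec K29.RStalk

variable {T : TopCat.{u}} {R : Sheaf (Opens.grothendieckTopology T) CommRingCat.{u}}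

/-- Sections over `V` as a functor to types. -/
def secF (R : Sheaf (Opens.grothendieckTopology T) CommRingCat.{u}) (V : Opens T) : Mod R ⥤ Type u :=
  SheafOfModules.evaluation (ringSheaf R) (op V) ⋙ forget _

/-- Sections over `V` preserve the limits of towers. -/
def isLimitSec (F : ℕᵒᵖ ⥤ Mod R) (V : Opens T) : IsLimit ((secF R V).mapCone (limit.cone F)) := by
  have : PreservesLimitsOfShape ℕᵒᵖ (SheafOfModules.evaluation.{u} (ringSheaf R) (op V)) := inferInstance
  have : PreservesLimitsOfShape ℕᵒᵖ (secF R V) := by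
    unfold secF
    infer_instance
  exact isLimitOfPreserves (secF R V) (limit.isLimit F)

theorem lim_ext (F : ℕᵒᵖ ⥤ Mod R) {V : Opens T} (x y : Sec (limit F) V)
    (h : ∀ n : ℕ, app (limit.π F (op n)) V x = app (limit.π F (op n)) V y) : x = y := by
  apply (Types.isLimitEquivSections (isLimitSec F V)).injective
  apply Subtype.ext
  funext j
  exact h j.unop

/-- A family in a tower of types compatible with the successor maps is a section. -/
theorem map_eq_of_succ (F : ℕᵒᵖ ⥤ Type u) (s : ∀ n : ℕ, F.obj (op n))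
    (hs : ∀ n : ℕ, F.map (homOfLE (Nat.le_add_right n 1)).op (s (n + 1)) = s n) {i j : ℕᵒᵖ} (f : i ⟶ j) :
    F.map f (s i.unop) = s j.unop := by
  obtain ⟨i⟩ := i
  obtain ⟨j⟩ := j
  have hij : j ≤ i := leOfHom f.unop
  obtain ⟨k, rfl⟩ := Nat.exists_eq_add_of_le hij
  induction k with
  | zero =>
    have : f = 𝟙 _ := Subsingleton.elim _ _
    subst this
    simp
  | succ k ih =>
    have e : f = (homOfLE (Nat.le_add_right (j + k) 1)).op ≫ (homOfLE (Nat.le_add_right j k)).op :=
      Subsingleton.elim _ _
    rw [e, F.map_comp]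
    change F.map _ (F.map _ (s (j + k + 1))) = _
    rw [hs (j + k)]
    exact ih _ (Nat.le_add_right j k)

theorem lim_lift (F : ℕᵒᵖ ⥤ Mod R) {V : Opens T} (y : ∀ n : ℕ, Sec (F.obj (op n)) V)
    (hy : ∀ n : ℕ, app (F.map (homOfLE (Nat.le_add_right n 1)).op) V (y (n + 1)) = y n) :
    ∃ x : Sec (limit F) V, ∀ n : ℕ, app (limit.π F (op n)) V x = y n := by
  let G : ℕᵒᵖ ⥤ Type u := F ⋙ secF R V
  let s : G.sections := ⟨fun j => y j.unop, fun f => map_eq_of_succ G y hy f⟩
  refine ⟨(Types.isLimitEquivSections (isLimitSec F V)).symm s, fun n => ?_⟩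
  exact Types.isLimitEquivSections_symm_apply (isLimitSec F V) s (op n)

end K29.RLim
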