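import Groth.Agent.FCompl.K29.FmlPres
import Groth.Agent.FCompl.K29.RLim
import Groth.Agent.FCompl.K29.RBasis

/-!
# The system of inverse images to the levels of a module on a formal scheme
-/

set_option autoImplicit false
set_option linter.style.haveILetI false
universe u

open CategoryTheory TopologicalSpace Opposite CategoryTheory.Limits AlgebraicGeometry

noncomputable section

namespace K29.Fml

open K29.RSec K29.RStalk K29.RPull K29.RPres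

variable {𝔛 : FSch.Sys.{u}} (h : 𝔛.IsFormal)

/-- `(u_k)_* ≅ (u_{k+1})_* (ι k)_*`. -/
def pushIso (k : ℕ) : (FSch.levelMor 𝔛 h k).push ≅
    Scheme.Modules.pushforward (𝔛.ι k) ⋙ (FSch.levelMor 𝔛 h (k + 1)).push where
  hom := FSch.pushCompareInv 𝔛 h k
  inv := FSch.pushCompare 𝔛 h k
  hom_inv_id := by
    ext1
    funext G
    exact FSch.pushCompareInv_pushCompare 𝔛 h k G
  inv_hom_id := by
    ext1
    funext G
    exact FSch.pushCompare_pushCompareInv 𝔛 h k G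

/-- `u_{k+1}^* ⋙ (ι k)^* ≅ u_k^*`. -/
def pullIso (k : ℕ) : (FSch.levelMor 𝔛 h (k + 1)).pull ⋙ Scheme.Modules.pullback (𝔛.ι k) ≅
    (FSch.levelMor 𝔛 h k).pull :=
  (conjugateIsoEquiv (FSch.levelMor 𝔛 h k).adj
    ((FSch.levelMor 𝔛 h (k + 1)).adj.comp (Scheme.Modules.pullbackPushforwardAdjunction (𝔛.ι k)))).symm (pushIso h k)

/-- The system of inverse images of `𝔉` to the levels. -/
def sysOf (𝔉 : FSch.ModF 𝔛 h) : FSch.ModSys 𝔛 where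
  F n := (FSch.levelMor 𝔛 h n).pull.obj 𝔉
  e n := (pullIso h n).app 𝔉

theorem toPush_eq (𝔉 : FSch.ModF 𝔛 h) (k : ℕ) : (sysOf h 𝔉).toPush k =
    (Scheme.Modules.pullbackPushforwardAdjunction (𝔛.ι k)).unit.app ((FSch.levelMor 𝔛 h (k + 1)).pull.obj 𝔉) ≫
      (Scheme.Modules.pushforward (𝔛.ι k)).map ((pullIso h k).hom.app 𝔉) :=
  (Scheme.Modules.pullbackPushforwardAdjunction (𝔛.ι k)).homEquiv_unit _ _ _

theorem unit_pullIso (𝔉 : FSch.ModF 𝔛 h) (k : ℕ) :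
    (FSch.levelMor 𝔛 h (k + 1)).adj.unit.app 𝔉 ≫ (FSch.levelMor 𝔛 h (k + 1)).push.map ((sysOf h 𝔉).toPush k) =
      (FSch.levelMor 𝔛 h k).adj.unit.app 𝔉 ≫ (FSch.pushCompareInv 𝔛 h k).app ((FSch.levelMor 𝔛 h k).pull.obj 𝔉) := by
  have e := unit_conjugateEquiv (FSch.levelMor 𝔛 h k).adj
    ((FSch.levelMor 𝔛 h (k + 1)).adj.comp (Scheme.Modules.pullbackPushforwardAdjunction (𝔛.ι k)))
    (pullIso h k).hom 𝔉
  have e2 : conjugateEquiv (FSch.levelMor 𝔛 h k).adj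
    ((FSch.levelMor 𝔛 h (k + 1)).adj.comp (Scheme.Modules.pullbackPushforwardAdjunction (𝔛.ι k)))
    (pullIso h k).hom = (pushIso h k).hom := by
    exact (conjugateEquiv _ _).apply_symm_apply (pushIso h k).hom
  rw [e2] at e
  refine Eq.trans ?_ e.symm
  rw [toPush_eq]
  exact hom_ext fun V m => rfl

theorem unit_toPush (𝔉 : FSch.ModF 𝔛 h) (k : ℕ) :
    (FSch.levelMor 𝔛 h (k + 1)).adj.unit.app 𝔉 ≫
      ((FSch.levelMor 𝔛 h (k + 1)).push.map ((sysOf h 𝔉).toPush k) ≫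
        (FSch.pushCompare 𝔛 h k).app ((FSch.levelMor 𝔛 h k).pull.obj 𝔉)) = (FSch.levelMor 𝔛 h k).adj.unit.app 𝔉 := by
  have e := unit_pullIso h 𝔉 k
  have e' := FSch.pushCompareInv_pushCompare 𝔛 h k ((FSch.levelMor 𝔛 h k).pull.obj 𝔉)
  refine hom_ext fun V m => ?_
  have e1 := congrArg (fun g : 𝔉 ⟶ (Scheme.Modules.pushforward (𝔛.ι k) ⋙ (FSch.levelMor 𝔛 h (k + 1)).push).obj
    ((FSch.levelMor 𝔛 h k).pull.obj 𝔉) => app ((FSch.pushCompare 𝔛 h k).app ((FSch.levelMor 𝔛 h k).pull.obj 𝔉)) V (app g V m)) e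
  refine e1.trans ?_
  have e2 := congrArg (fun g : (FSch.levelMor 𝔛 h k).push.obj ((FSch.levelMor 𝔛 h k).pull.obj 𝔉) ⟶ _ =>
    app g V (app ((FSch.levelMor 𝔛 h k).adj.unit.app 𝔉) V m)) e'
  exact e2

/-- The canonical map `𝔉 ⟶ lim_k (u_k)_* u_k^* 𝔉`. -/
def toReal (𝔉 : FSch.ModF 𝔛 h) : 𝔉 ⟶ (sysOf h 𝔉).realMod h :=
  limit.lift (FSch.levelSysOf 𝔛 h (sysOf h 𝔉).F (sysOf h 𝔉).toPush)
    (Cone.mk 𝔉 (NatTrans.ofOpSequence (fun k => (FSch.levelMor 𝔛 h k).adj.unit.app 𝔉) fun k => by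
      rw [FSch.levelSysOf_map_succ]
      have e := unit_toPush h 𝔉 k
      refine Eq.trans ?_ e.symm
      exact Category.id_comp _))

theorem toReal_proj (𝔉 : FSch.ModF 𝔛 h) (k : ℕ) :
    toReal h 𝔉 ≫ FSch.realProj 𝔛 h (sysOf h 𝔉).F (sysOf h 𝔉).toPush k = (FSch.levelMor 𝔛 h k).adj.unit.app 𝔉 :=
  limit.lift_π _ _

theorem app_toReal (𝔉 : FSch.ModF 𝔛 h) (k : ℕ) (V : (𝔛.X 0).Opens) (t : Sec 𝔉 V) :
    app (FSch.realProj 𝔛 h (sysOf h 𝔉).F (sysOf h 𝔉).toPush k) V (app (toReal h 𝔉) V t) = ul h k V t :=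
  congrArg (fun g : 𝔉 ⟶ (FSch.levelMor 𝔛 h k).push.obj ((FSch.levelMor 𝔛 h k).pull.obj 𝔉) => app g V t)
    (toReal_proj h 𝔉 k)

/-- Affine neighbourhoods inside a formal scheme. -/
theorem exists_affine_nhd (x : 𝔛.X 0) (V : (𝔛.X 0).Opens) (hx : x ∈ V) :
    ∃ V' : (𝔛.X 0).Opens, x ∈ V' ∧ V' ≤ V ∧ IsAffineOpen (𝔛.lvU h 0 V') := by
  obtain ⟨_, ⟨V', hV', rfl⟩, hxV', hle⟩ := (𝔛.X 0).isBasis_affineOpens.exists_subset_of_mem_open hx V.2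
  refine ⟨V', hxV', hle, ?_⟩
  rw [K919.AffBasic.lvU_zero]
  exact hV'

section Noeth

variable (h𝔛 : 𝔛.IsLocNoethFormal) (𝔉 : FSch.ModF 𝔛 h𝔛.1)

theorem isQCoh_lv (h𝔉 : FSch.IsCohF 𝔛 h𝔛.1 𝔉) (k : ℕ) : Coh.IsQCoh (show (𝔛.X k).Modules from lv h𝔛.1 k 𝔉) := by
  have h1 : SheafOfModules.IsFinitePresentation (R := ringSheaf (𝔛.X k).sheaf) (lv h𝔛.1 k 𝔉) :=
    isFinitePresentation_pull (lvAdj h𝔛.1 k) h𝔉
  have h2 : SheafOfModules.IsQuasicoherent (R := ringSheaf (𝔛.X k).sheaf) (lv h𝔛.1 k 𝔉) := inferInstance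
  exact h2

theorem isCoh_lv (h𝔉 : FSch.IsCohF 𝔛 h𝔛.1 𝔉) (k : ℕ) : Coh.IsCoh (show (𝔛.X k).Modules from lv h𝔛.1 k 𝔉) := by
  have h1 : SheafOfModules.IsFinitePresentation (R := ringSheaf (𝔛.X k).sheaf) (lv h𝔛.1 k 𝔉) :=
    isFinitePresentation_pull (lvAdj h𝔛.1 k) h𝔉
  have h2 : SheafOfModules.IsFiniteType (R := ringSheaf (𝔛.X k).sheaf) (lv h𝔛.1 k 𝔉) := inferInstance
  exact ⟨isQCoh_lv h𝔛 𝔉 h𝔉 k, h2⟩

theorem isCoh_sysOf (h𝔉 : FSch.IsCohF 𝔛 h𝔛.1 𝔉) : (sysOf h𝔛.1 𝔉).IsCoh := isCoh_lv h𝔛 𝔉 h𝔉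

theorem bijective_toReal (hq : ∀ k, Coh.IsQCoh (show (𝔛.X k).Modules from lv h𝔛.1 k 𝔉))
    {W V : (𝔛.X 0).Opens} (hV : IsAffineOpen (𝔛.lvU h𝔛.1 0 V)) (hVW : V ≤ W)
    {n m : ℕ} {s : Fin n → Sec 𝔉 W} {r : Fin m → Fin n → O (𝔛.Osh h𝔛.1) W} (hs : Gen 𝔉 W s) (hr : Rel 𝔉 W s r) :
    Function.Bijective (app (toReal h𝔛.1 𝔉) V) := by
  constructor
  · rw [injective_iff_map_eq_zero]
    intro t ht
    refine eq_zero_of_ul h𝔛 hs hr hVW t fun k => ?_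
    rw [← app_toReal, ht]
    exact (app (FSch.realProj 𝔛 h𝔛.1 (sysOf h𝔛.1 𝔉).F (sysOf h𝔛.1 𝔉).toPush k) V).map_zero
  · intro z
    let z' : ∀ k, Sec (lv h𝔛.1 k 𝔉) (𝔛.lvU h𝔛.1 k V) := fun k =>
      app (FSch.realProj 𝔛 h𝔛.1 (sysOf h𝔛.1 𝔉).F (sysOf h𝔛.1 𝔉).toPush k) V z
    choose c hc using fun k => exists_approx h𝔛 hV hVW hq hs k (z' k)
    have hz : ∀ k, ul h𝔛.1 k V (∑ j, c (k + 1) j • res 𝔉 hVW (s j)) = z' k := by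
      intro k
      have e := unit_toPush h𝔛.1 𝔉 k
      have e1 := congrArg (fun g : 𝔉 ⟶ (FSch.levelMor 𝔛 h𝔛.1 k).push.obj ((FSch.levelMor 𝔛 h𝔛.1 k).pull.obj 𝔉) =>
        app g V (∑ j, c (k + 1) j • res 𝔉 hVW (s j))) e
      refine (show ul h𝔛.1 k V (∑ j, c (k + 1) j • res 𝔉 hVW (s j)) = _ from e1.symm).trans ?_
      have e2 := FSch.realProj_map 𝔛 h𝔛.1 (sysOf h𝔛.1 𝔉).F (sysOf h𝔛.1 𝔉).toPush k
      have e3 := congrArg (fun g : (sysOf h𝔛.1 𝔉).realMod h𝔛.1 ⟶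
        (FSch.levelMor 𝔛 h𝔛.1 k).push.obj ((FSch.levelMor 𝔛 h𝔛.1 k).pull.obj 𝔉) => app g V z) e2
      refine Eq.trans ?_ e3
      exact congrArg (app ((FSch.levelMor 𝔛 h𝔛.1 (k + 1)).push.map ((sysOf h𝔛.1 𝔉).toPush k) ≫
        (FSch.pushCompare 𝔛 h𝔛.1 k).app ((FSch.levelMor 𝔛 h𝔛.1 k).pull.obj 𝔉)) V) (hc (k + 1))
    obtain ⟨t, ht⟩ := exists_limit h𝔛 hV hVW hq hs hr (fun k => ∑ j, c k j • res 𝔉 hVW (s j)) fun k => by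
      rw [map_sub, hz, hc, sub_self]
    refine ⟨t, RLim.lim_ext _ _ _ fun k => ?_⟩
    refine (app_toReal h𝔛.1 𝔉 k V t).trans ?_
    have := ht k
    rw [map_sub, sub_eq_zero, hc k] at this
    exact this

/-- A coherent module is the limit of its inverse images to the levels. -/
theorem isIso_toReal (h𝔉 : FSch.IsCohF 𝔛 h𝔛.1 𝔉) : IsIso (toReal h𝔛.1 𝔉) := by
  refine RBasis.isIso_of_local _ fun x V hx => ?_
  obtain ⟨W, hxW, n, m, s, r, hs, hr⟩ :=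
    (fpAt_iff 𝔉 x).1 ((Groth.Agent.Gaga.H976.TM3.isFinitePresentation_iff 𝔉).1 h𝔉 x)
  obtain ⟨V', hxV', hV', hV'a⟩ := exists_affine_nhd h𝔛.1 x (V ⊓ W) ⟨hx, hxW⟩
  exact ⟨V', hxV', hV'.trans inf_le_left, bijective_toReal h𝔛 𝔉 (isQCoh_lv h𝔛 𝔉 h𝔉) hV'a
    (hV'.trans inf_le_right) hs hr⟩

end Noeth

end K29.Fml
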