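import Groth.Agent.FCompl.K29.FmlMor

/-!
# The structure sheaf of a locally Noetherian formal scheme and its ideals of definition
-/

set_option autoImplicit false
set_option linter.style.haveILetI false
universe u

open CategoryTheory TopologicalSpace Opposite CategoryTheory.Limits AlgebraicGeometry

noncomputable section

namespace K29.RPres

open K29.RSec K29.RStalk

variable {T : TopCat.{u}} {R : Sheaf (Opens.grothendieckTopology T) CommRingCat.{u}}

/-- The structure sheaf as a module. -/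
abbrev unitR (R : Sheaf (Opens.grothendieckTopology T) CommRingCat.{u}) : Mod R := SheafOfModules.unit (ringSheaf R)

/-- Sections of the structure sheaf as sections of the module. -/
def ofO {V : Opens T} : O R V →ₗ[O R V] Sec (unitR R) V where
  toFun a := a
  map_add' _ _ := rfl
  map_smul' _ _ := rfl

/-- Sections of the module as sections of the structure sheaf. -/
def toO {V : Opens T} : Sec (unitR R) V →ₗ[O R V] O R V where
  toFun a := a
  map_add' _ _ := rfl
  map_smul' _ _ := rfl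

theorem toO_ofO {V : Opens T} (a : O R V) : toO (ofO a) = a := rfl
theorem ofO_toO {V : Opens T} (a : Sec (unitR R) V) : ofO (toO a) = a := rfl

theorem res_ofO {V W : Opens T} (h : W ≤ V) (a : O R V) : res (unitR R) h (ofO a) = ofO (resO h a) := rfl
theorem toO_res {V W : Opens T} (h : W ≤ V) (a : Sec (unitR R) V) : toO (res (unitR R) h a) = resO h (toO a) := rfl

theorem gen_unit (V : Opens T) : Gen (unitR R) V fun _ : Fin 1 => ofO (1 : O R V) := by
  intro V' hV' t x hx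
  refine ⟨V', le_rfl, hx, fun _ => toO t, ?_⟩
  rw [Finset.sum_const, Finset.card_univ, Fintype.card_fin, one_smul, res_ofO, map_one, ← map_smul, smul_eq_mul, mul_one,
    ofO_toO, res_self]

theorem rel_unit (V : Opens T) : Rel (unitR R) V (fun _ : Fin 1 => ofO (1 : O R V)) (fun k : Fin 0 => k.elim0) := by
  refine ⟨fun k => k.elim0, fun V' hV' c hc x hx => ⟨V', le_rfl, hx, fun k => k.elim0, fun j => ?_⟩⟩
  rw [Finset.univ_eq_empty, Finset.sum_empty, resO_self]
  simp only [Finset.univ_unique, Finset.sum_singleton, res_ofO, map_one] at hc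
  rw [← map_smul, smul_eq_mul, mul_one] at hc
  have := congrArg toO hc
  rw [toO_ofO, map_zero] at this
  rwa [Subsingleton.elim j default]

theorem isFinitePresentation_unit : SheafOfModules.IsFinitePresentation (R := ringSheaf R) (unitR R) := by
  rw [Groth.Agent.Gaga.H976.TM3.isFinitePresentation_iff]
  intro x
  exact (fpAt_iff (unitR R) x).2 ⟨⊤, trivial, 1, 0, _, _, gen_unit ⊤, rel_unit ⊤⟩

theorem map_span_range {A B : Type*} [CommRing A] [CommRing B] (f : A →+* B) {m : ℕ} (g : Fin m → A) (J : Ideal A)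
    (hg : Submodule.span A (Set.range g) = J) (b : B) (hb : b ∈ J.map f) :
    ∃ c : Fin m → B, b = ∑ j, c j * f (g j) := by
  rw [← hg] at hb
  have e : Ideal.map f (Ideal.span (Set.range g)) = Ideal.span (Set.range fun j => f (g j)) := by
    rw [Ideal.map_span, ← Set.range_comp]
    rfl
  have hb' : b ∈ Ideal.span (Set.range fun j => f (g j)) := e ▸ hb
  obtain ⟨c, hc⟩ := (Submodule.mem_span_range_iff_exists_fun _).1 hb'
  exact ⟨c, hc.symm⟩

theorem ofO_sum {V : Opens T} {m : ℕ} (c g : Fin m → O R V) :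
    ofO (∑ j, c j * g j) = ∑ j, c j • ofO (R := R) (g j) := by
  rw [map_sum]
  exact Finset.sum_congr rfl fun j _ => map_smul ofO (c j) (g j)

theorem app_sum_smul {M N : Mod R} (φ : M ⟶ N) {V : Opens T} {m : ℕ} (c : Fin m → O R V) (s : Fin m → Sec M V) :
    app φ V (∑ j, c j • s j) = ∑ j, c j • app φ V (s j) := by
  rw [map_sum]
  exact Finset.sum_congr rfl fun j _ => map_smul _ _ _

/-- The kernel of `O → N` is of finite type if it is given on a basis by finitely generated ideals compatible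
with extension. -/
theorem isFiniteType_kernel_of_basis {N : Mod R} (g : unitR R ⟶ N) (B : Opens T → Prop)
    (hB : ∀ (x : T) (V : Opens T), x ∈ V → ∃ V' : Opens T, x ∈ V' ∧ V' ≤ V ∧ B V')
    (J : ∀ V, Ideal (O R V)) (hJ : ∀ V, B V → (J V).FG)
    (hmap : ∀ (V W : Opens T) (h : V ≤ W), B V → B W → ∀ a ∈ J V, a ∈ (J W).map (resO (R := R) h))
    (hk : ∀ V, B V → ∀ a : O R V, app g V (ofO a) = 0 ↔ a ∈ J V) :
    SheafOfModules.IsFiniteType (R := ringSheaf R) (kernel g) := by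
  rw [Groth.Agent.Gaga.H976.TM3.isFiniteType_iff]
  intro x
  obtain ⟨W, hxW, -, hWa⟩ := hB x ⊤ trivial
  obtain ⟨m, g', hg'⟩ := Submodule.fg_iff_exists_fin_generating_family.1 (hJ W hWa)
  have hg0 : ∀ j, g' j ∈ J W := fun j => by
    rw [← hg']
    exact Submodule.subset_span ⟨j, rfl⟩
  have hk' : ∀ j, ∃ k : Sec (kernel g) W, app (kernel.ι g) W k = ofO (g' j) := fun j =>
    RExact.exists_kernel _ W (ofO (g' j)) ((hk W hWa (g' j)).2 (hg0 j))
  choose s hs using hk'
  refine (ftAt_iff _ x).2 ⟨W, hxW, m, s, fun V hV t y hy => ?_⟩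
  obtain ⟨V', hyV', hV', hV'a⟩ := hB y V hy
  have hinj := (RExact.mono_iff_app (kernel.ι g)).1 inferInstance V'
  let t' : Sec (unitR R) V' := app (kernel.ι g) V' (res _ hV' t)
  have h1 : app g V' (ofO (toO t')) = 0 :=
    congrArg (fun g : kernel g ⟶ N => app g V' (res _ hV' t)) (kernel.condition g)
  obtain ⟨c, hc⟩ := map_span_range (resO (R := R) (hV'.trans hV)) g' _ hg' _
    (hmap V' W (hV'.trans hV) hV'a hWa _ ((hk V' hV'a _).1 h1))
  refine ⟨V', hV', hyV', c, hinj ?_⟩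
  refine (show _ = ofO (toO t') from rfl).trans ?_
  rw [hc, ofO_sum, app_sum_smul]
  refine Finset.sum_congr rfl fun j _ => ?_
  rw [app_res, hs]
  rfl

end K29.RPres

namespace K29.Fml

open K29.RSec K29.RStalk K29.RPull K29.RPres K29.ClImm

variable {𝔛 : FSch.Sys.{u}} (h𝔛 : 𝔛.IsLocNoethFormal)

theorem isCohF_unit : FSch.IsCohF 𝔛 h𝔛.1 (FSch.unitF 𝔛 h𝔛.1) := isFinitePresentation_unit

theorem map_II {U V : (𝔛.X 0).Opens} (hU : IsAffineOpen (𝔛.lvU h𝔛.1 0 U)) (hV : IsAffineOpen (𝔛.lvU h𝔛.1 0 V))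
    (hVU : V ≤ U) : (II h𝔛.1 U).map (resO (R := 𝔛.Osh h𝔛.1) hVU) = II h𝔛.1 V :=
  K919.AffFlat.map_II h𝔛 hU hV hVU

theorem map_pow_eq {A B : Type*} [CommRing A] [CommRing B] (f : A →+* B) (I : Ideal A) (J : Ideal B)
    (h : I.map f = J) (n : ℕ) : (I ^ n).map f = J ^ n := by
  rw [Ideal.map_pow, h]

theorem mem_map_II_pow {U V : (𝔛.X 0).Opens} (hU : IsAffineOpen (𝔛.lvU h𝔛.1 0 U))
    (hV : IsAffineOpen (𝔛.lvU h𝔛.1 0 V)) (hVU : V ≤ U) (n : ℕ) (a : O (𝔛.Osh h𝔛.1) V)
    (ha : a ∈ II h𝔛.1 V ^ (n + 1)) : a ∈ (II h𝔛.1 U ^ (n + 1)).map (resO (R := 𝔛.Osh h𝔛.1) hVU) := by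
  have e := map_pow_eq (resO (R := 𝔛.Osh h𝔛.1) hVU) _ _ (map_II h𝔛 hU hV hVU) (n + 1)
  exact e.symm ▸ ha

theorem map_mem_of_mem_smul_top {A M : Type*} [CommRing A] [AddCommGroup M] [Module A M] (J : Ideal A)
    (e : M →ₗ[A] A) (x : M) (hx : x ∈ (J • ⊤ : Submodule A M)) : e x ∈ J := by
  refine Submodule.smul_induction_on hx (fun b hb y _ => ?_) fun x y hx hy => ?_
  · rw [map_smul]
    exact J.mul_mem_right _ hb
  · rw [map_add]
    exact J.add_mem hx hy

/-- Sections of `O_𝔛` killed at level `n`. -/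
theorem ul_unit_eq_zero {V : (𝔛.X 0).Opens} (hV : IsAffineOpen (𝔛.lvU h𝔛.1 0 V)) (n : ℕ)
    (a : O (𝔛.Osh h𝔛.1) V) : ul h𝔛.1 n V (ofO a) = 0 ↔ a ∈ II h𝔛.1 V ^ (n + 1) := by
  rw [((main h𝔛 (isCohF_unit h𝔛) hV).2.1 n).2]
  constructor
  · intro h
    exact map_mem_of_mem_smul_top (II h𝔛.1 V ^ (n + 1)) (toO (V := V)) (ofO a) h
  · intro h
    have : ofO a = a • ofO (1 : O (𝔛.Osh h𝔛.1) V) := by
      rw [← map_smul, smul_eq_mul, mul_one]
    rw [this]
    exact Submodule.smul_mem_smul h trivial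

theorem isFiniteType_kernel (n : ℕ) :
    SheafOfModules.IsFiniteType (R := ringSheaf (𝔛.Osh h𝔛.1))
      (kernel ((FSch.levelMor 𝔛 h𝔛.1 n).adj.unit.app (FSch.unitF 𝔛 h𝔛.1))) :=
  isFiniteType_kernel_of_basis ((FSch.levelMor 𝔛 h𝔛.1 n).adj.unit.app (FSch.unitF 𝔛 h𝔛.1))
    (fun V => IsAffineOpen (𝔛.lvU h𝔛.1 0 V)) (exists_affine_nhd h𝔛.1) (fun V => II h𝔛.1 V ^ (n + 1))
    (fun _ hV => (isNoetherianRing_iff_ideal_fg _).1 (isNoetherianRing_O h𝔛 hV) _)
    (fun _ _ h hV hW => mem_map_II_pow h𝔛 hW hV h n) fun _ hV a => ul_unit_eq_zero h𝔛 hV n a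

end K29.Fml
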