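import Groth.Agent.FCompl.K29.FmlPull
import Groth.Agent.FCompl.K28.RealLevel
import Groth.Agent.Fga.SecComp
import Groth.Agent.FormalA.PullbackQC

/-!
# Inverse images of the modules of coherent systems
-/

set_option autoImplicit false
set_option linter.style.haveILetI false
set_option linter.unusedSectionVars false
universe u

open CategoryTheory TopologicalSpace Opposite CategoryTheory.Limits AlgebraicGeometry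
open Groth.Agent.VarietyB

noncomputable section

namespace K29.PullSys

open K29.RSec K29.RStalk K29.RPull K29.RPres K29.Fml K29.FmlPull
open K28 (SBC)
open K28.RealSec (pk tk ps tS ofPushL toPushL)

section PM

variable {𝔛 : FSch.Sys.{u}} (h : 𝔛.IsFormal) (𝔐 : FSch.ModSys 𝔛)

/-- The projections of sections of `realMod`. -/
def pm (k : ℕ) (U : (𝔛.X 0).Opens) : Sec (𝔐.realMod h) U →+ Γ(𝔐.F k, 𝔛.lvU h k U) := ps 𝔛 h 𝔐.F 𝔐.toPush k U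

theorem pm_smul (k : ℕ) (U : (𝔛.X 0).Opens) (a : O (𝔛.Osh h) U) (s : Sec (𝔐.realMod h) U) :
    pm h 𝔐 k U (a • s) = pk 𝔛 h k U a • pm h 𝔐 k U s := K28.RealSec.ps_smul 𝔛 h 𝔐.F 𝔐.toPush k U a s

theorem pm_res (k : ℕ) {U V : (𝔛.X 0).Opens} (hV : V ≤ U) (s : Sec (𝔐.realMod h) U) :
    pm h 𝔐 k V (res _ hV s) = (𝔐.F k).presheaf.map (homOfLE (K28.RealSec.lvU_mono 𝔛 h k hV)).op (pm h 𝔐 k U s) :=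
  K28.RealSec.ps_res 𝔛 h 𝔐.F 𝔐.toPush k hV s

theorem tS_pm (k : ℕ) (U : (𝔛.X 0).Opens) (s : Sec (𝔐.realMod h) U) :
    tS 𝔛 h 𝔐.F 𝔐.toPush k U (pm h 𝔐 (k + 1) U s) = pm h 𝔐 k U s := K28.RealSec.tS_ps 𝔛 h 𝔐.F 𝔐.toPush k U s

theorem pm_ext {U : (𝔛.X 0).Opens} (x y : Sec (𝔐.realMod h) U) (hxy : ∀ k, pm h 𝔐 k U x = pm h 𝔐 k U y) : x = y :=
  K28.RealSec.sec_ext 𝔛 h 𝔐.F 𝔐.toPush x y hxy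

theorem pm_lift {U : (𝔛.X 0).Opens} (y : ∀ k, Γ(𝔐.F k, 𝔛.lvU h k U))
    (hy : ∀ k, tS 𝔛 h 𝔐.F 𝔐.toPush k U (y (k + 1)) = y k) :
    ∃ x : Sec (𝔐.realMod h) U, ∀ k, pm h 𝔐 k U x = y k := K28.RealSec.sec_lift 𝔛 h 𝔐.F 𝔐.toPush y hy

end PM

variable {𝔛 𝔜 : FSch.Sys.{u}} (φ : 𝔛 ⟶ 𝔜)

/-- The levels of a morphism. -/
abbrev fl (k : ℕ) : 𝔛.X k ⟶ 𝔜.X k := (φ : FSch.Hom 𝔛 𝔜).app k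

section Formal

variable (h𝔛 : 𝔛.IsFormal) (h𝔜 : 𝔜.IsFormal)

theorem le_fl (k : ℕ) {V : (𝔜.X 0).Opens} {U : (𝔛.X 0).Opens} (hUV : U ≤ (fl φ 0) ⁻¹ᵁ V) :
    𝔛.lvU h𝔛 k U ≤ (fl φ k) ⁻¹ᵁ (𝔜.lvU h𝔜 k V) :=
  (K28.RealSec.lvU_mono 𝔛 h𝔛 k hUV).trans (FSch.Hom.lvU_preimage φ h𝔛 h𝔜 k V).ge

variable (𝔐 : FSch.ModSys 𝔜)

/-- Inverse images of sections, on the level `k`. -/
def sk (k : ℕ) {V : (𝔜.X 0).Opens} {U : (𝔛.X 0).Opens} (hUV : U ≤ (fl φ 0) ⁻¹ᵁ V) :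
    Γ(𝔐.F k, 𝔜.lvU h𝔜 k V) →+ Γ((FSch.ModSys.pullback φ 𝔐).F k, 𝔛.lvU h𝔛 k U) :=
  PullSec.sec (fl φ k) (𝔐.F k) (le_fl φ h𝔛 h𝔜 k hUV)

theorem pullTrans_sec (k : ℕ) (M : (𝔜.X (k + 1)).Modules) {A : (𝔜.X (k + 1)).Opens} {B : (𝔜.X k).Opens}
    {C : (𝔛.X (k + 1)).Opens} {D : (𝔛.X k).Opens} (hBA : B ≤ (𝔜.ι k) ⁻¹ᵁ A) (hDB : D ≤ (fl φ k) ⁻¹ᵁ B)
    (hCA : C ≤ (fl φ (k + 1)) ⁻¹ᵁ A) (hDC : D ≤ (𝔛.ι k) ⁻¹ᵁ C) (s : Γ(M, A)) :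
    (FSch.ModSys.pullTrans φ k M).hom.app D (PullSec.sec (𝔛.ι k) _ hDC (PullSec.sec (fl φ (k + 1)) M hCA s)) =
      PullSec.sec (fl φ k) _ hDB (PullSec.sec (𝔜.ι k) M hBA s) := by
  have e1 : D ≤ (𝔛.ι k ≫ fl φ (k + 1)) ⁻¹ᵁ A := fun x hx => hCA (hDC hx)
  have e2 : D ≤ (fl φ k ≫ 𝔜.ι k) ⁻¹ᵁ A := fun x hx => hBA (hDB hx)
  have h1 := Groth.Agent.Fga.SecComp.sec_comp (𝔛.ι k) (fl φ (k + 1)) M hCA hDC e1 s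
  have h2 := Groth.Agent.Fga.SecComp.sec_congr ((φ : FSch.Hom 𝔛 𝔜).comm k).symm M e1 e2 s
  have h3 := Groth.Agent.Fga.SecComp.sec_comp_inv (fl φ k) (𝔜.ι k) M hBA hDB e2 s
  rw [h3, ← h2, ← h1]
  rfl

theorem tS_sk (k : ℕ) {V : (𝔜.X 0).Opens} {U : (𝔛.X 0).Opens} (hUV : U ≤ (fl φ 0) ⁻¹ᵁ V)
    (s : Γ(𝔐.F (k + 1), 𝔜.lvU h𝔜 (k + 1) V)) :
    tS 𝔛 h𝔛 (FSch.ModSys.pullback φ 𝔐).F (FSch.ModSys.pullback φ 𝔐).toPush k U (sk φ h𝔛 h𝔜 𝔐 (k + 1) hUV s) =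
      sk φ h𝔛 h𝔜 𝔐 k hUV (tS 𝔜 h𝔜 𝔐.F 𝔐.toPush k V s) := by
  rw [K28.RealAff.tS_toPush, K28.RealAff.tS_toPush]
  refine Eq.trans (b := ((Scheme.Modules.pullback (fl φ k)).map (𝔐.e k).hom).app (𝔛.lvU h𝔛 k U)
    ((FSch.ModSys.pullTrans φ k (𝔐.F (k + 1))).hom.app (𝔛.lvU h𝔛 k U)
      (PullSec.sec (𝔛.ι k) _ (𝔛.lvU_le h𝔛 k U) (PullSec.sec (fl φ (k + 1)) (𝔐.F (k + 1))
        (le_fl φ h𝔛 h𝔜 (k + 1) hUV) s)))) rfl ?_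
  rw [pullTrans_sec φ k (𝔐.F (k + 1)) (𝔜.lvU_le h𝔜 k V) (le_fl φ h𝔛 h𝔜 k hUV)]
  exact Groth.Agent.Fga.SecComp.map_sec (fl φ k) (𝔐.e k).hom (le_fl φ h𝔛 h𝔜 k hUV) _

theorem sk_res (k : ℕ) {V V' : (𝔜.X 0).Opens} {U U' : (𝔛.X 0).Opens} (hUV : U ≤ (fl φ 0) ⁻¹ᵁ V)
    (hUV' : U' ≤ (fl φ 0) ⁻¹ᵁ V') (hV : V' ≤ V) (hU : U' ≤ U) (s : Γ(𝔐.F k, 𝔜.lvU h𝔜 k V)) :
    sk φ h𝔛 h𝔜 𝔐 k hUV' ((𝔐.F k).presheaf.map (homOfLE (K28.RealSec.lvU_mono 𝔜 h𝔜 k hV)).op s) =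
      ((FSch.ModSys.pullback φ 𝔐).F k).presheaf.map (homOfLE (K28.RealSec.lvU_mono 𝔛 h𝔛 k hU)).op
        (sk φ h𝔛 h𝔜 𝔐 k hUV s) :=
  (PullSec.sec_res (fl φ k) (𝔐.F k) _ _ (K28.RealSec.lvU_mono 𝔜 h𝔜 k hV) (K28.RealSec.lvU_mono 𝔛 h𝔛 k hU) s).symm

/-- The comorphism. -/
def fφ' : ringSheaf (𝔜.Osh h𝔜) ⟶ ((Opens.map (fl φ 0).base).sheafPushforwardContinuous RingCat.{u}
    (Opens.grothendieckTopology (𝔜.X 0).carrier) (Opens.grothendieckTopology (𝔛.X 0).carrier)).obj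
      (ringSheaf (𝔛.Osh h𝔛)) :=
  (FSch.homMor φ h𝔛 h𝔜).sharpR

theorem pk_cm (k : ℕ) (V : (𝔜.X 0).Opens) (a : O (𝔜.Osh h𝔜) V) :
    pk 𝔛 h𝔛 k (pre (fl φ 0).base V) (cm (fφ' φ h𝔛 h𝔜) V a) =
      (fl φ k).appLE (𝔜.lvU h𝔜 k V) (𝔛.lvU h𝔛 k (pre (fl φ 0).base V)) (le_fl φ h𝔛 h𝔜 k le_rfl)
        (pk 𝔜 h𝔜 k V a) := by
  have h1 : ((FSch.Hom.sharp φ h𝔛 h𝔜).hom.app (op V) :
      (𝔜.Osh h𝔜).obj.obj (op V) ⟶ (𝔛.Osh h𝔛).obj.obj (op ((fl φ 0) ⁻¹ᵁ V))) ≫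
      ((𝔛.OshProj h𝔛 k).hom.app (op ((fl φ 0) ⁻¹ᵁ V)) : (𝔛.Osh h𝔛).obj.obj (op ((fl φ 0) ⁻¹ᵁ V)) ⟶
        (𝔛.X k).presheaf.obj (op (𝔛.lvU h𝔛 k ((fl φ 0) ⁻¹ᵁ V)))) =
      ((𝔜.OshProj h𝔜 k).hom.app (op V) : (𝔜.Osh h𝔜).obj.obj (op V) ⟶ (𝔜.X k).presheaf.obj (op (𝔜.lvU h𝔜 k V))) ≫
      ((FSch.Hom.levelPush φ h𝔛 h𝔜 k).hom.app (op V) : (𝔜.X k).presheaf.obj (op (𝔜.lvU h𝔜 k V)) ⟶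
        (𝔛.X k).presheaf.obj (op (𝔛.lvU h𝔛 k ((fl φ 0) ⁻¹ᵁ V)))) :=
    congrArg (fun t => t.hom.app (op V)) (FSch.Hom.sharp_proj φ h𝔛 h𝔜 k)
  exact congr($h1 a)

section Map

theorem exists_sL {V : (𝔜.X 0).Opens} {U : (𝔛.X 0).Opens} (hUV : U ≤ (fl φ 0) ⁻¹ᵁ V)
    (m : Sec (𝔐.realMod h𝔜) V) :
    ∃ x : Sec ((FSch.ModSys.pullback φ 𝔐).realMod h𝔛) U, ∀ k,
      pm h𝔛 (FSch.ModSys.pullback φ 𝔐) k U x =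
        sk φ h𝔛 h𝔜 𝔐 k hUV (pm h𝔜 𝔐 k V m) :=
  pm_lift h𝔛 _ (fun k => sk φ h𝔛 h𝔜 𝔐 k hUV (pm h𝔜 𝔐 k V m)) fun k => by
    rw [tS_sk, tS_pm]

/-- The map on sections of the limits. -/
def sL {V : (𝔜.X 0).Opens} {U : (𝔛.X 0).Opens} (hUV : U ≤ (fl φ 0) ⁻¹ᵁ V) :
    Sec (𝔐.realMod h𝔜) V →+ Sec ((FSch.ModSys.pullback φ 𝔐).realMod h𝔛) U :=
  AddMonoidHom.mk' (fun m => (exists_sL φ h𝔛 h𝔜 𝔐 hUV m).choose) fun a b => by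
    apply pm_ext
    intro k
    rw [(exists_sL φ h𝔛 h𝔜 𝔐 hUV (a + b)).choose_spec, map_add, map_add, map_add,
      (exists_sL φ h𝔛 h𝔜 𝔐 hUV a).choose_spec, (exists_sL φ h𝔛 h𝔜 𝔐 hUV b).choose_spec]

theorem pm_sL {V : (𝔜.X 0).Opens} {U : (𝔛.X 0).Opens} (hUV : U ≤ (fl φ 0) ⁻¹ᵁ V) (k : ℕ)
    (m : Sec (𝔐.realMod h𝔜) V) :
    pm h𝔛 (FSch.ModSys.pullback φ 𝔐) k U (sL φ h𝔛 h𝔜 𝔐 hUV m) =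
        sk φ h𝔛 h𝔜 𝔐 k hUV (pm h𝔜 𝔐 k V m) :=
  (exists_sL φ h𝔛 h𝔜 𝔐 hUV m).choose_spec k

theorem sL_smul {V : (𝔜.X 0).Opens} {U : (𝔛.X 0).Opens} (hUV : U ≤ (fl φ 0) ⁻¹ᵁ V) (a : O (𝔜.Osh h𝔜) V)
    (m : Sec (𝔐.realMod h𝔜) V) :
    sL φ h𝔛 h𝔜 𝔐 hUV (a • m) = resO hUV (cm (fφ' φ h𝔛 h𝔜) V a) • sL φ h𝔛 h𝔜 𝔐 hUV m := by
  apply pm_ext
  intro k
  rw [pm_sL, pm_smul, pm_smul, pm_sL, K28.RealSec.pk_res, pk_cm]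
  refine (PullSec.sec_smul (fl φ k) (𝔐.F k) (le_fl φ h𝔛 h𝔜 k hUV) _ _).trans ?_
  refine congrArg (· • _) ?_
  exact (congr($((fl φ k).appLE_map (le_fl φ h𝔛 h𝔜 k le_rfl)
    (homOfLE (K28.RealSec.lvU_mono 𝔛 h𝔛 k hUV)).op) _)).symm

theorem sL_res {V V' : (𝔜.X 0).Opens} {U U' : (𝔛.X 0).Opens} (hUV : U ≤ (fl φ 0) ⁻¹ᵁ V)
    (hUV' : U' ≤ (fl φ 0) ⁻¹ᵁ V') (hV : V' ≤ V) (hU : U' ≤ U) (m : Sec (𝔐.realMod h𝔜) V) :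
    sL φ h𝔛 h𝔜 𝔐 hUV' (res _ hV m) = res _ hU (sL φ h𝔛 h𝔜 𝔐 hUV m) := by
  apply pm_ext
  intro k
  rw [pm_sL, pm_res, pm_res, pm_sL]
  exact sk_res φ h𝔛 h𝔜 𝔐 k hUV hUV' hV hU _

/-- The comparison map. -/
def cmp : 𝔐.realMod h𝔜 ⟶ (FSch.pushF φ h𝔛 h𝔜).obj ((FSch.ModSys.pullback φ 𝔐).realMod h𝔛) :=
  homMk (N := (push (fφ' φ h𝔛 h𝔜)).obj ((FSch.ModSys.pullback φ 𝔐).realMod h𝔛))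
    (fun V => (toPush (fφ' φ h𝔛 h𝔜)).comp (sL φ h𝔛 h𝔜 𝔐 (V := V) (U := (fl φ 0) ⁻¹ᵁ V) le_rfl))
    (fun V a m => by
      change toPush (fφ' φ h𝔛 h𝔜) (sL φ h𝔛 h𝔜 𝔐 (V := V) (U := (fl φ 0) ⁻¹ᵁ V) le_rfl (a • m)) = _
      rw [sL_smul, resO_self]
      rfl)
    (fun V V' h m => by
      change toPush (fφ' φ h𝔛 h𝔜) (sL φ h𝔛 h𝔜 𝔐 (V := V') (U := (fl φ 0) ⁻¹ᵁ V') le_rfl (res _ h m)) = _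
      rw [sL_res φ h𝔛 h𝔜 𝔐 (V := V) (U := (fl φ 0) ⁻¹ᵁ V) le_rfl le_rfl h (Scheme.Hom.preimage_mono _ h)]
      rfl)

theorem app_cmp (V : (𝔜.X 0).Opens) (m : Sec (𝔐.realMod h𝔜) V) :
    ofPush (fφ' φ h𝔛 h𝔜) (app (cmp φ h𝔛 h𝔜 𝔐) V m) =
      sL φ h𝔛 h𝔜 𝔐 (V := V) (U := (fl φ 0) ⁻¹ᵁ V) le_rfl m := rfl

/-- The pinned identity. -/
theorem cmp_proj (k : ℕ) :
    cmp φ h𝔛 h𝔜 𝔐 ≫ (FSch.pushF φ h𝔛 h𝔜).map (FSch.realProj 𝔛 h𝔛 _ _ k) ≫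
          (FSch.lvPushSq φ h𝔛 h𝔜 k).hom.app ((FSch.ModSys.pullback φ 𝔐).F k) =
        FSch.realProj 𝔜 h𝔜 _ _ k ≫
          (FSch.levelMor 𝔜 h𝔜 k).push.map
            ((ModSite.RMor.ofScheme ((φ : FSch.Hom _ _).app k)).adj.unit.app (𝔐.F k)) := by
  apply K29.RSec.hom_ext
  intro V m
  have h1 := pm_sL φ h𝔛 h𝔜 𝔐 (V := V) (U := (fl φ 0) ⁻¹ᵁ V) le_rfl k m
  have h2 := congrArg (((FSch.ModSys.pullback φ 𝔐).F k).presheaf.map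
    (eqToHom (FSch.Hom.lvU_preimage φ h𝔛 h𝔜 k V)).op) h1
  refine Eq.trans h2 ?_
  refine (Groth.Agent.Fdesc.QCohStalk.map_map _ _ _ _).trans ?_
  exact K29.RSec.res_self (R := (𝔛.X k).sheaf) ((FSch.ModSys.pullback φ 𝔐).F k) _ _

end Map

end Formal

section Main

variable (h𝔛 : 𝔛.IsLocNoethFormal) (h𝔜 : 𝔜.IsLocNoethFormal) {𝔐 : FSch.ModSys 𝔜} (h𝔐 : 𝔐.IsCoh)

include h𝔐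

theorem isCoh_pullback : (FSch.ModSys.pullback φ 𝔐).IsCoh := fun n =>
  Groth.Agent.FormalA.PullbackQC.isCoh_pullback (fl φ n) (𝔐.F n) (h𝔐 n)

/-- Inverse images of sections of the limits over affine opens are base changes. -/
theorem sbc_sL {V : (𝔜.X 0).Opens} (hV : IsAffineOpen (𝔜.lvU h𝔜.1 0 V)) {U : (𝔛.X 0).Opens}
    (hU : IsAffineOpen (𝔛.lvU h𝔛.1 0 U)) (hUV : U ≤ (fl φ 0) ⁻¹ᵁ V) :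
    SBC ((resO (R := 𝔛.Osh h𝔛.1) hUV).comp (cm (fφ h𝔛 φ h𝔜) V)) (sL φ h𝔛.1 h𝔜.1 𝔐 hUV) := by
  have h𝔑 := isCoh_pullback φ h𝔐
  have i1 := K28.RealAff.isNoetherianRing_O h𝔛 hU
  have i2 := K28.RealAff.isAdicComplete_O h𝔛 hU
  have i3 := K28.RealAff.finite_sec h𝔜 hV h𝔐
  have i4 := K28.RealAff.finite_sec h𝔛 hU h𝔑
  refine SBC.of_levels (sL_smul φ h𝔛.1 h𝔜.1 𝔐 hUV) (K28.RealAff.IS 𝔛 h𝔛.1 U) (fun n => pk 𝔛 h𝔛.1 n U)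
    (K28.RealAff.pk_surjective h𝔛 hU) (fun n => (K28.RealAff.ker_pk h𝔛 hU n).le)
    (fun n => pm h𝔛.1 (FSch.ModSys.pullback φ 𝔐) n U)
    (fun n => pm_smul h𝔛.1 (FSch.ModSys.pullback φ 𝔐) n U) (fun x hx => ?_) (fun n => ?_)
  · have := K28.RealAff.mem_smul_of_ps h𝔛 hU h𝔑 0 x hx
    rwa [pow_one] at this
  · have h1 := K28.LevelBC.sbc_sec (fl φ n) (h𝔐 n).1 (le_fl φ h𝔛.1 h𝔜.1 n hUV) (K919.AffBasic.isAffineOpen_lvU 𝔜 h𝔜.1 hV n)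
      (K919.AffBasic.isAffineOpen_lvU 𝔛 h𝔛.1 hU n)
    have h2 := (K28.RealAff.sbc_ps h𝔜 hV h𝔐 n).comp h1
    have e1 : ((fl φ n).appLE (𝔜.lvU h𝔜.1 n V) (𝔛.lvU h𝔛.1 n U) (le_fl φ h𝔛.1 h𝔜.1 n hUV)).hom.comp
        (pk 𝔜 h𝔜.1 n V) = (pk 𝔛 h𝔛.1 n U).comp ((resO hUV).comp (cm (fφ' φ h𝔛.1 h𝔜.1) V)) := by
      refine RingHom.ext fun a => ?_
      change _ = pk 𝔛 h𝔛.1 n U (resO hUV (cm (fφ' φ h𝔛.1 h𝔜.1) V a))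
      rw [K28.RealSec.pk_res, pk_cm]
      exact (congr($((fl φ n).appLE_map (le_fl φ h𝔛.1 h𝔜.1 n le_rfl)
        (homOfLE (K28.RealSec.lvU_mono 𝔛 h𝔛.1 n hUV)).op) _)).symm
    have e2 : (PullSec.sec (fl φ n) (𝔐.F n) (le_fl φ h𝔛.1 h𝔜.1 n hUV)).comp (pm h𝔜.1 𝔐 n V) =
        (pm h𝔛.1 (FSch.ModSys.pullback φ 𝔐) n U).comp (sL φ h𝔛.1 h𝔜.1 𝔐 hUV) :=
      AddMonoidHom.ext fun a => (pm_sL φ h𝔛.1 h𝔜.1 𝔐 hUV n a).symm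
    exact e1 ▸ e2 ▸ h2

theorem isIso_cmp (hcoh : FSch.IsCohF 𝔜 h𝔜.1 (𝔐.realMod h𝔜.1)) :
    IsIso (lft (fAdj h𝔛 φ h𝔜) (cmp φ h𝔛.1 h𝔜.1 𝔐)) := by
  refine isIso_lft h𝔛 (fAdj h𝔛 φ h𝔜) hcoh (cmp φ h𝔛.1 h𝔜.1 𝔐) fun y U₀ hy => ?_
  obtain ⟨V, hV, hyV, -⟩ := K28.RealLevel.basis_aff 𝔜 h𝔜.1 ((fl φ 0).base y) ⊤ trivial
  obtain ⟨U, hU, hyU, hUU⟩ := K28.RealLevel.basis_aff 𝔛 h𝔛.1 y (U₀ ⊓ (fl φ 0) ⁻¹ᵁ V) ⟨hy, hyV⟩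
  have hUV : U ≤ (fl φ 0) ⁻¹ᵁ V := hUU.trans inf_le_right
  refine ⟨V, U, hUV, hyU, hUU.trans inf_le_left, hU, exists_presV h𝔜 hcoh hV, ?_⟩
  have h1 := sbc_sL φ h𝔛 h𝔜 h𝔐 hV hU hUV
  have e1 : (res ((FSch.ModSys.pullback φ 𝔐).realMod h𝔛.1) hUV).comp
      ((ofPush (fφ h𝔛 φ h𝔜)).comp (app (cmp φ h𝔛.1 h𝔜.1 𝔐) V).toAddMonoidHom) = sL φ h𝔛.1 h𝔜.1 𝔐 hUV := by
    refine AddMonoidHom.ext fun m => ?_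
    refine (sL_res φ h𝔛.1 h𝔜.1 𝔐 (V := V) (U := (fl φ 0) ⁻¹ᵁ V) le_rfl hUV le_rfl hUV m).symm.trans ?_
    rw [res_self]
  exact cast (congrArg (SBC ((resO (R := 𝔛.Osh h𝔛.1) hUV).comp (cm (fφ h𝔛 φ h𝔜) V))) e1.symm) h1

theorem exists_iso (hcoh : FSch.IsCohF 𝔜 h𝔜.1 (𝔐.realMod h𝔜.1)) :
    ∃ e : (FSch.pullF φ h𝔛.1 h𝔜.1).obj (𝔐.realMod h𝔜.1) ≅ (FSch.ModSys.pullback φ 𝔐).realMod h𝔛.1,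
      ∀ k : ℕ, (FSch.homMor φ h𝔛.1 h𝔜.1).adj.homEquiv _ _ e.hom ≫
          (FSch.pushF φ h𝔛.1 h𝔜.1).map (FSch.realProj 𝔛 h𝔛.1 _ _ k) ≫
          (FSch.lvPushSq φ h𝔛.1 h𝔜.1 k).hom.app ((FSch.ModSys.pullback φ 𝔐).F k) =
        FSch.realProj 𝔜 h𝔜.1 _ _ k ≫
          (FSch.levelMor 𝔜 h𝔜.1 k).push.map
            ((ModSite.RMor.ofScheme ((φ : FSch.Hom _ _).app k)).adj.unit.app (𝔐.F k)) := by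
  have := isIso_cmp φ h𝔛 h𝔜 h𝔐 hcoh
  refine ⟨asIso (lft (fAdj h𝔛 φ h𝔜) (cmp φ h𝔛.1 h𝔜.1 𝔐)), fun k => ?_⟩
  have h1 : (FSch.homMor φ h𝔛.1 h𝔜.1).adj.homEquiv _ _ (lft (fAdj h𝔛 φ h𝔜) (cmp φ h𝔛.1 h𝔜.1 𝔐)) =
      cmp φ h𝔛.1 h𝔜.1 𝔐 := Equiv.apply_symm_apply _ _
  rw [asIso_hom]
  refine (congrArg (· ≫ _) h1).trans ?_
  exact cmp_proj φ h𝔛.1 h𝔜.1 𝔐 k

end Main

end K29.PullSys
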